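/-
Double counting in Steiner systems and the intersection numbers of the systems of the Mathieu groups.
-/
import Mathlib
import Cfsg.Prelude.Def_Sporadic_a

set_option autoImplicit false

namespace CfsgLib.Steiner

open Finset

variable {α : Type*} [DecidableEq α]

/-- Pairs (member of the family, `i`-subset of `S` inside it), counted both ways. -/
theorem sum_choose_inter (F : Finset (Finset α)) (S : Finset α) (i : ℕ) :
    ∑ c ∈ F, (S ∩ c).card.choose i = ∑ I ∈ S.powersetCard i, (F.filter (I ⊆ ·)).card := by
  have h : ∀ c : Finset α, (S ∩ c).card.choose i = ((S.powersetCard i).filter (· ⊆ c)).card := by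
    intro c
    rw [← Finset.card_powersetCard]
    congr 1
    ext I
    simp only [mem_powersetCard, mem_filter, subset_inter_iff]
    tauto
  simp only [h, card_filter]
  exact Finset.sum_comm

/-- If every `i`-subset of `S` lies in `n` members. -/
theorem sum_choose_inter_const (F : Finset (Finset α)) (S : Finset α) (i n : ℕ)
    (h : ∀ I ⊆ S, I.card = i → (F.filter (I ⊆ ·)).card = n) :
    ∑ c ∈ F, (S ∩ c).card.choose i = S.card.choose i * n := by
  rw [sum_choose_inter, Finset.sum_congr rfl fun I hI => h I (mem_powersetCard.mp hI).1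
    (mem_powersetCard.mp hI).2, sum_const, card_powersetCard, smul_eq_mul]

variable [Fintype α]

/-- The blocks as a finset. -/
noncomputable def blocks (B : Set (Finset α)) : Finset (Finset α) := (Set.toFinite B).toFinset

omit [DecidableEq α] in
theorem mem_blocks {B : Set (Finset α)} {b : Finset α} : b ∈ blocks B ↔ b ∈ B :=
  Set.Finite.mem_toFinset _

omit [DecidableEq α] in
theorem card_blocks (B : Set (Finset α)) : (blocks B).card = B.ncard :=
  (Set.ncard_eq_toFinset_card B _).symm

variable {t k : ℕ} {B : Set (Finset α)} (hB : Cfsg.IsSteinerSystem t k B)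
include hB

theorem block_card {b : Finset α} (hb : b ∈ blocks B) : b.card = k := hB.1 b (mem_blocks.mp hb)

theorem count_t (s : Finset α) (hs : s.card = t) : ((blocks B).filter (s ⊆ ·)).card = 1 := by
  obtain ⟨b, hb, huniq⟩ := hB.2 s hs
  rw [Finset.card_eq_one]
  refine ⟨b, ?_⟩
  ext c
  simp only [mem_filter, mem_singleton, mem_blocks]
  exact ⟨fun h => huniq c h, fun h => h ▸ hb⟩

theorem eq_of_inter {b c : Finset α} (hb : b ∈ blocks B) (hc : c ∈ blocks B) (h : t ≤ (b ∩ c).card) :
    b = c := by
  obtain ⟨s, hs, hst⟩ := Finset.exists_subset_card_eq h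
  obtain ⟨d, -, huniq⟩ := hB.2 s hst
  rw [huniq b ⟨mem_blocks.mp hb, hs.trans inter_subset_left⟩,
    huniq c ⟨mem_blocks.mp hc, hs.trans inter_subset_right⟩]

/-- The number of blocks through a set of size at most `t`. -/
theorem count_mul (I : Finset α) (hI : I.card ≤ t) :
    ((blocks B).filter (I ⊆ ·)).card * (k - I.card).choose (t - I.card) =
      (Fintype.card α - I.card).choose (t - I.card) := by
  have h := sum_choose_inter_const ((blocks B).filter (I ⊆ ·)) (univ \ I) (t - I.card) 1 (by
    intro J hJ hJc
    have hd : Disjoint I J := (Finset.disjoint_sdiff).mono_right hJ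
    rw [filter_filter, ← count_t hB (I ∪ J) (by rw [card_union_of_disjoint hd, hJc]; omega)]
    congr 1
    ext c
    simp only [mem_filter, union_subset_iff])
  rw [card_sdiff_of_subset (subset_univ I), card_univ, mul_one] at h
  rw [← h, ← smul_eq_mul, ← sum_const]
  refine sum_congr rfl fun c hc => ?_
  rw [mem_filter] at hc
  have he : (univ \ I) ∩ c = c \ I := by ext x; simp [and_comm]
  rw [he, card_sdiff_of_subset hc.2, block_card hB hc.1]

theorem count_eq {i n : ℕ} (hi : i ≤ t) (hn : n * (k - i).choose (t - i) = (Fintype.card α - i).choose (t - i))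
    (hne : (k - i).choose (t - i) ≠ 0) (I : Finset α) (hI : I.card = i) :
    ((blocks B).filter (I ⊆ ·)).card = n := by
  have h := count_mul hB I (hI ▸ hi)
  rw [hI, ← hn] at h
  exact Nat.eq_of_mul_eq_mul_right (Nat.pos_of_ne_zero hne) h

/-- The intersection numbers seen from a set `S`. -/
theorem moment {i n : ℕ} (hi : i ≤ t) (hn : n * (k - i).choose (t - i) = (Fintype.card α - i).choose (t - i))
    (hne : (k - i).choose (t - i) ≠ 0) (S : Finset α) :
    ∑ c ∈ blocks B, (S ∩ c).card.choose i = S.card.choose i * n :=
  sum_choose_inter_const _ _ _ _ fun I _ hI => count_eq hB hi hn hne I hI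

end CfsgLib.Steiner
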