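/-
Intersection numbers of the Steiner systems S(5,8,24), S(4,7,23), S(3,6,22), S(5,6,12).
-/
import Cfsg.Agent.Steiner.Counting

set_option autoImplicit false

namespace CfsgLib.Steiner

open Finset

variable {α : Type*} [DecidableEq α]

/-- Number of members meeting `S` in exactly `j` points. -/
def meet (F : Finset (Finset α)) (S : Finset α) (j : ℕ) : ℕ := (F.filter fun c => (S ∩ c).card = j).card

theorem sum_meet {F : Finset (Finset α)} {S : Finset α} {m : ℕ} (h : ∀ c ∈ F, (S ∩ c).card < m)
    (g : ℕ → ℕ) : ∑ c ∈ F, g (S ∩ c).card = ∑ j ∈ range m, meet F S j * g j := by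
  rw [← Finset.sum_fiberwise_of_maps_to (g := fun c => (S ∩ c).card) (t := range m)
    (fun c hc => mem_range.mpr (h c hc))]
  refine sum_congr rfl fun j _ => ?_
  rw [meet, sum_congr rfl fun c hc => (congrArg g (mem_filter.mp hc).2), sum_const, smul_eq_mul]

theorem meet_pos {F : Finset (Finset α)} {S c : Finset α} (hc : c ∈ F) :
    0 < meet F S (S ∩ c).card :=
  card_pos.mpr ⟨c, mem_filter.mpr ⟨hc, rfl⟩⟩

variable [Fintype α] {t k : ℕ} {B : Set (Finset α)} (hB : Cfsg.IsSteinerSystem t k B)
include hB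

theorem inter_lt {b c : Finset α} (hb : b ∈ blocks B) (hc : c ∈ (blocks B).erase b) :
    (b ∩ c).card < t :=
  not_le.mp fun h => (mem_erase.mp hc).1 (eq_of_inter hB hb (mem_erase.mp hc).2 h).symm

theorem moment_erase {b : Finset α} (hb : b ∈ blocks B) {i n : ℕ} (hi : i ≤ t)
    (hn : n * (k - i).choose (t - i) = (Fintype.card α - i).choose (t - i))
    (hne : (k - i).choose (t - i) ≠ 0) :
    k.choose i + ∑ j ∈ range t, meet ((blocks B).erase b) b j * j.choose i = k.choose i * n := by
  have h := moment hB hi hn hne b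
  rw [← add_sum_erase _ _ hb, inter_self, block_card hB hb,
    sum_meet (fun c hc => inter_lt hB hb hc) (fun j => j.choose i)] at h
  exact h

omit hB

theorem numbers_24 {B : Set (Finset α)} (hB : Cfsg.IsSteinerSystem 5 8 B) (hα : Fintype.card α = 24)
    {b : Finset α} (hb : b ∈ blocks B) :
    meet ((blocks B).erase b) b 0 = 30 ∧ meet ((blocks B).erase b) b 1 = 0 ∧
      meet ((blocks B).erase b) b 3 = 0 := by
  have h0 := moment_erase hB hb (i := 0) (n := 759) (by norm_num) (by rw [hα]; decide) (by decide)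
  have h1 := moment_erase hB hb (i := 1) (n := 253) (by norm_num) (by rw [hα]; decide) (by decide)
  have h2 := moment_erase hB hb (i := 2) (n := 77) (by norm_num) (by rw [hα]; decide) (by decide)
  have h3 := moment_erase hB hb (i := 3) (n := 21) (by norm_num) (by rw [hα]; decide) (by decide)
  have h4 := moment_erase hB hb (i := 4) (n := 5) (by norm_num) (by rw [hα]; decide) (by decide)
  simp only [sum_range_succ, sum_range_zero] at h0 h1 h2 h3 h4
  norm_num [Nat.choose] at h0 h1 h2 h3 h4
  omega

theorem numbers_23 {B : Set (Finset α)} (hB : Cfsg.IsSteinerSystem 4 7 B) (hα : Fintype.card α = 23)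
    {b : Finset α} (hb : b ∈ blocks B) :
    meet ((blocks B).erase b) b 0 = 0 ∧ meet ((blocks B).erase b) b 2 = 0 := by
  have h0 := moment_erase hB hb (i := 0) (n := 253) (by norm_num) (by rw [hα]; decide) (by decide)
  have h1 := moment_erase hB hb (i := 1) (n := 77) (by norm_num) (by rw [hα]; decide) (by decide)
  have h2 := moment_erase hB hb (i := 2) (n := 21) (by norm_num) (by rw [hα]; decide) (by decide)
  have h3 := moment_erase hB hb (i := 3) (n := 5) (by norm_num) (by rw [hα]; decide) (by decide)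
  simp only [sum_range_succ, sum_range_zero] at h0 h1 h2 h3
  norm_num [Nat.choose] at h0 h1 h2 h3
  omega

theorem numbers_22 {B : Set (Finset α)} (hB : Cfsg.IsSteinerSystem 3 6 B) (hα : Fintype.card α = 22)
    {b : Finset α} (hb : b ∈ blocks B) :
    meet ((blocks B).erase b) b 0 = 16 ∧ meet ((blocks B).erase b) b 1 = 0 := by
  have h0 := moment_erase hB hb (i := 0) (n := 77) (by norm_num) (by rw [hα]; decide) (by decide)
  have h1 := moment_erase hB hb (i := 1) (n := 21) (by norm_num) (by rw [hα]; decide) (by decide)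
  have h2 := moment_erase hB hb (i := 2) (n := 5) (by norm_num) (by rw [hα]; decide) (by decide)
  simp only [sum_range_succ, sum_range_zero] at h0 h1 h2
  norm_num [Nat.choose] at h0 h1 h2
  omega

theorem numbers_12 {B : Set (Finset α)} (hB : Cfsg.IsSteinerSystem 5 6 B) (hα : Fintype.card α = 12)
    {b : Finset α} (hb : b ∈ blocks B) :
    meet ((blocks B).erase b) b 0 = 1 := by
  have h0 := moment_erase hB hb (i := 0) (n := 132) (by norm_num) (by rw [hα]; decide) (by decide)
  have h1 := moment_erase hB hb (i := 1) (n := 66) (by norm_num) (by rw [hα]; decide) (by decide)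
  have h2 := moment_erase hB hb (i := 2) (n := 30) (by norm_num) (by rw [hα]; decide) (by decide)
  have h3 := moment_erase hB hb (i := 3) (n := 12) (by norm_num) (by rw [hα]; decide) (by decide)
  have h4 := moment_erase hB hb (i := 4) (n := 4) (by norm_num) (by rw [hα]; decide) (by decide)
  simp only [sum_range_succ, sum_range_zero] at h0 h1 h2 h3 h4
  norm_num [Nat.choose] at h0 h1 h2 h3 h4
  omega

theorem inter_cases_24 {B : Set (Finset α)} (hB : Cfsg.IsSteinerSystem 5 8 B) (hα : Fintype.card α = 24)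
    {b c : Finset α} (hb : b ∈ B) (hc : c ∈ B) (hne : b ≠ c) :
    (b ∩ c).card = 0 ∨ (b ∩ c).card = 2 ∨ (b ∩ c).card = 4 := by
  have hb' := mem_blocks.mpr hb
  have hc' : c ∈ (blocks B).erase b := mem_erase.mpr ⟨hne.symm, mem_blocks.mpr hc⟩
  obtain ⟨-, h1, h3⟩ := numbers_24 hB hα hb'
  have hlt := inter_lt hB hb' hc'
  have hp := meet_pos (S := b) hc'
  have : (b ∩ c).card ≠ 1 ∧ (b ∩ c).card ≠ 3 := by
    constructor <;> intro h <;> rw [h] at hp <;> omega
  omega

theorem inter_cases_22 {B : Set (Finset α)} (hB : Cfsg.IsSteinerSystem 3 6 B) (hα : Fintype.card α = 22)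
    {b c : Finset α} (hb : b ∈ B) (hc : c ∈ B) (hne : b ≠ c) :
    (b ∩ c).card = 0 ∨ (b ∩ c).card = 2 := by
  have hb' := mem_blocks.mpr hb
  have hc' : c ∈ (blocks B).erase b := mem_erase.mpr ⟨hne.symm, mem_blocks.mpr hc⟩
  obtain ⟨-, h1⟩ := numbers_22 hB hα hb'
  have hlt := inter_lt hB hb' hc'
  have hp := meet_pos (S := b) hc'
  have : (b ∩ c).card ≠ 1 := by intro h; rw [h] at hp; omega
  omega

/-- The symmetric difference of two blocks meeting in four points. -/
theorem symmDiff_mem {B : Set (Finset α)} (hB : Cfsg.IsSteinerSystem 5 8 B) (hα : Fintype.card α = 24)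
    {b c : Finset α} (hb : b ∈ B) (hc : c ∈ B) (h4 : (b ∩ c).card = 4) : symmDiff b c ∈ B := by
  have hb8 := hB.1 b hb
  have hc8 := hB.1 c hc
  set w := symmDiff b c with hw
  have hev : ∀ f ∈ B, Even (f ∩ b).card := by
    intro f hf
    by_cases h : f = b
    · rw [h, inter_self, hb8]; decide
    · rcases inter_cases_24 hB hα hf hb h with h | h | h <;> rw [h] <;> decide
  have hev' : ∀ f ∈ B, Even (f ∩ c).card := by
    intro f hf
    by_cases h : f = c
    · rw [h, inter_self, hc8]; decide
    · rcases inter_cases_24 hB hα hf hc h with h | h | h <;> rw [h] <;> decide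
  have hsd : ∀ X Y : Finset α, (symmDiff X Y).card + 2 * (X ∩ Y).card = X.card + Y.card := by
    intro X Y
    rw [show symmDiff X Y = (X \ Y) ∪ (Y \ X) from rfl, card_union_of_disjoint disjoint_sdiff_sdiff]
    have h1 := card_sdiff_add_card_inter X Y
    have h2 := card_sdiff_add_card_inter Y X
    rw [inter_comm Y X] at h2
    omega
  have hevw : ∀ f ∈ B, Even (f ∩ w).card := by
    intro f hf
    have he : f ∩ w = symmDiff (f ∩ b) (f ∩ c) := inf_symmDiff_distrib_left f b c
    have h := hsd (f ∩ b) (f ∩ c)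
    obtain ⟨x, hx⟩ := hev f hf
    obtain ⟨y, hy⟩ := hev' f hf
    rw [he, Nat.even_iff]
    omega
  have hw8 : w.card = 8 := by have := hsd b c; rw [← hw] at this; omega
  obtain ⟨s, hsw, hs⟩ := exists_subset_card_eq (show 5 ≤ w.card by omega)
  obtain ⟨e, ⟨he, hse⟩, -⟩ := hB.2 s hs
  have he8 := hB.1 e he
  have h5 : 5 ≤ (e ∩ w).card := hs ▸ card_le_card (subset_inter hse hsw)
  by_cases h8 : e ⊆ w
  · rwa [← eq_of_subset_of_card_le h8 (by omega)]
  exfalso
  have hlt : (e ∩ w).card < 8 := by
    by_contra h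
    exact h8 (inter_eq_left.mp (eq_of_subset_of_card_le inter_subset_left (by omega)))
  obtain ⟨x, hx⟩ := hevw e he
  set q := symmDiff e w with hq
  have hq4 : q.card = 4 := by have := hsd e w; rw [← hq] at this; omega
  have hevq : ∀ f ∈ B, Even (f ∩ q).card := by
    intro f hf
    have he' : f ∩ q = symmDiff (f ∩ e) (f ∩ w) := inf_symmDiff_distrib_left f e w
    have h := hsd (f ∩ e) (f ∩ w)
    obtain ⟨y, hy⟩ := hevw f hf
    have hfe : Even (f ∩ e).card := by
      by_cases h : f = e
      · rw [h, inter_self, he8]; decide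
      · rcases inter_cases_24 hB hα hf he h with h | h | h <;> rw [h] <;> decide
    obtain ⟨z, hz⟩ := hfe
    rw [he', Nat.even_iff]
    omega
  obtain ⟨u, hu⟩ : ∃ u, u ∉ q := by
    by_contra h
    push Not at h
    rw [eq_univ_iff_forall.mpr h, card_univ] at hq4
    omega
  obtain ⟨e1, ⟨he1, hs1⟩, -⟩ := hB.2 (insert u q) (by rw [card_insert_of_notMem hu, hq4])
  have hu1 : u ∈ e1 := hs1 (mem_insert_self _ _)
  have hq1 : q ⊆ e1 := (subset_insert _ _).trans hs1
  obtain ⟨v, hv⟩ : ∃ v, v ∉ e1 := by
    by_contra h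
    push Not at h
    have := hB.1 e1 he1
    rw [eq_univ_iff_forall.mpr h, card_univ] at this
    omega
  obtain ⟨q3, hq3, hq3c⟩ := exists_subset_card_eq (show 3 ≤ q.card by omega)
  have hu3 : u ∉ q3 := fun h => hu (hq3 h)
  have hv3 : v ∉ insert u q3 := fun h => hv (insert_subset hu1 (hq3.trans hq1) h)
  obtain ⟨f, ⟨hf, hsf⟩, -⟩ := hB.2 (insert v (insert u q3))
    (by rw [card_insert_of_notMem hv3, card_insert_of_notMem hu3, hq3c])
  have h3f : 3 ≤ (f ∩ q).card := hq3c ▸ card_le_card
    (subset_inter (fun a ha => hsf (mem_insert_of_mem (mem_insert_of_mem ha))) hq3)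
  have hqf : q ⊆ f := by
    obtain ⟨y, hy⟩ := hevq f hf
    have hle : (f ∩ q).card ≤ q.card := card_le_card inter_subset_right
    exact inter_eq_right.mp (eq_of_subset_of_card_le inter_subset_right (by omega))
  obtain ⟨d, -, huniq⟩ := hB.2 (insert u q) (by rw [card_insert_of_notMem hu, hq4])
  have : f = e1 := (huniq f ⟨hf, insert_subset (hsf (mem_insert_of_mem (mem_insert_self _ _))) hqf⟩).trans
    (huniq e1 ⟨he1, hs1⟩).symm
  exact hv (this ▸ hsf (mem_insert_self _ _))

end CfsgLib.Steiner
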