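/-
Binary codes of length 24, dimension 12, doubly even, without words of weight four:
linear algebra basics and the Steiner system of their weight eight words.
-/
import Mathlib
import Cfsg.Prelude.Def_Sporadic_a

set_option autoImplicit false

namespace CfsgLib.Steiner

open Finset

variable {α : Type*} [Fintype α] [DecidableEq α]

/-- The indicator word of a set. -/
def ind (s : Finset α) : α → ZMod 2 := fun a => if a ∈ s then 1 else 0

theorem support_ind (s : Finset α) : Cfsg.support₂ (ind s) = s := by
  ext a; simp [Cfsg.support₂, ind]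

omit [DecidableEq α] in
theorem eq_one_of_ne_zero {x : ZMod 2} (h : x ≠ 0) : x = 1 := by revert x; decide

theorem ind_support (v : α → ZMod 2) : ind (Cfsg.support₂ v) = v := by
  funext a
  by_cases h : v a = 0 <;> simp [Cfsg.support₂, ind, h]
  exact (eq_one_of_ne_zero h).symm

omit [DecidableEq α] in
theorem support_zero : Cfsg.support₂ (0 : α → ZMod 2) = ∅ := by simp [Cfsg.support₂]

omit [DecidableEq α] in
theorem support_one : Cfsg.support₂ (1 : α → ZMod 2) = univ := by simp [Cfsg.support₂]

theorem support_add (v w : α → ZMod 2) :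
    Cfsg.support₂ (v + w) = symmDiff (Cfsg.support₂ v) (Cfsg.support₂ w) := by
  ext a
  simp only [Cfsg.support₂, mem_symmDiff, mem_filter, mem_univ, true_and, Pi.add_apply]
  generalize v a = x
  generalize w a = y
  revert x y; decide

theorem ind_symmDiff (s t : Finset α) : ind (symmDiff s t) = ind s + ind t := by
  rw [← ind_support (ind s + ind t), support_add, support_ind, support_ind]

omit [Fintype α] [DecidableEq α] in
theorem word_sub (v w : α → ZMod 2) : v - w = v + w := funext fun a => CharTwo.sub_eq_add (v a) (w a)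

/-- Weight of a word. -/
def wgt (v : α → ZMod 2) : ℕ := (Cfsg.support₂ v).card

theorem card_symmDiff_inter {β : Type*} [DecidableEq β] (s t : Finset β) :
    (symmDiff s t).card + 2 * (s ∩ t).card = s.card + t.card := by
  rw [show symmDiff s t = (s \ t) ∪ (t \ s) from rfl, card_union_of_disjoint disjoint_sdiff_sdiff]
  have h1 := card_sdiff_add_card_inter s t
  have h2 := card_sdiff_add_card_inter t s
  rw [inter_comm t s] at h2
  omega

theorem wgt_add (v w : α → ZMod 2) :
    wgt (v + w) + 2 * (Cfsg.support₂ v ∩ Cfsg.support₂ w).card = wgt v + wgt w := by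
  rw [wgt, support_add]; exact card_symmDiff_inter _ _

omit [DecidableEq α] in
theorem wgt_eq_zero {v : α → ZMod 2} : wgt v = 0 ↔ v = 0 := by
  simp [wgt, Cfsg.support₂, funext_iff]

theorem dot_eq_card (v w : α → ZMod 2) :
    v ⬝ᵥ w = ((Cfsg.support₂ v ∩ Cfsg.support₂ w).card : ZMod 2) := by
  have h : Cfsg.support₂ v ∩ Cfsg.support₂ w = univ.filter fun a => v a ≠ 0 ∧ w a ≠ 0 := by
    simp [Cfsg.support₂, filter_and]
  rw [h, card_filter, Nat.cast_sum]
  refine sum_congr rfl fun a _ => ?_
  generalize v a = x
  generalize w a = y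
  revert x y; decide

theorem dot_eq_zero_iff (v w : α → ZMod 2) :
    v ⬝ᵥ w = 0 ↔ Even (Cfsg.support₂ v ∩ Cfsg.support₂ w).card := by
  rw [dot_eq_card, ZMod.natCast_eq_zero_iff, even_iff_two_dvd]

/-- Orthogonal of a code. -/
noncomputable def perp (C : Submodule (ZMod 2) (α → ZMod 2)) : Submodule (ZMod 2) (α → ZMod 2) :=
  C.dualAnnihilator.comap (dotProductEquiv (ZMod 2) α).toLinearMap

theorem mem_perp {C : Submodule (ZMod 2) (α → ZMod 2)} {v : α → ZMod 2} :
    v ∈ perp C ↔ ∀ c ∈ C, v ⬝ᵥ c = 0 := by
  simp [perp, Submodule.mem_dualAnnihilator]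

theorem finrank_perp (C : Submodule (ZMod 2) (α → ZMod 2)) :
    Module.finrank (ZMod 2) C + Module.finrank (ZMod 2) (perp C) = Fintype.card α := by
  rw [perp, Submodule.comap_equiv_eq_map_symm, LinearEquiv.finrank_map_eq,
    Subspace.finrank_add_finrank_dualAnnihilator_eq, Module.finrank_pi]

theorem natCard_eq_two_pow {V : Type*} [AddCommGroup V] [Module (ZMod 2) V] [Finite V] :
    Nat.card V = 2 ^ Module.finrank (ZMod 2) V := by
  rw [Module.natCard_eq_pow_finrank (K := ZMod 2) (V := V), Nat.card_zmod]

/-- A doubly even code of length 24 and dimension 12 without words of weight four. -/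
structure IsGolay (C : Submodule (ZMod 2) (α → ZMod 2)) : Prop where
  len : Fintype.card α = 24
  dim : Module.finrank (ZMod 2) C = 12
  doubly : ∀ w ∈ C, 4 ∣ wgt w
  no4 : ∀ w ∈ C, wgt w ≠ 4

namespace IsGolay

variable {C : Submodule (ZMod 2) (α → ZMod 2)} (hC : IsGolay C)
include hC

theorem orth {v w : α → ZMod 2} (hv : v ∈ C) (hw : w ∈ C) : v ⬝ᵥ w = 0 := by
  rw [dot_eq_zero_iff, Nat.even_iff]
  have h := wgt_add v w
  obtain ⟨a, ha⟩ := hC.doubly v hv
  obtain ⟨b, hb⟩ := hC.doubly w hw
  obtain ⟨c, hc⟩ := hC.doubly _ (C.add_mem hv hw)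
  omega

theorem perp_eq : perp C = C := by
  refine (Submodule.eq_of_le_of_finrank_eq (fun v hv => mem_perp.mpr fun c hc => hC.orth hv hc) ?_).symm
  have := finrank_perp C
  rw [hC.dim, hC.len] at this
  rw [hC.dim]
  omega

theorem one_mem : (1 : α → ZMod 2) ∈ C := by
  rw [← hC.perp_eq, mem_perp]
  intro c hc
  rw [dot_eq_zero_iff, support_one, univ_inter, even_iff_two_dvd]
  exact (show 2 ∣ 4 by norm_num).trans (hC.doubly c hc)

theorem eq_zero_of_small {w : α → ZMod 2} (hw : w ∈ C) (h : wgt w < 8) : w = 0 := by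
  obtain ⟨a, ha⟩ := hC.doubly w hw
  have := hC.no4 w hw
  exact wgt_eq_zero.mp (by omega)

/-- The octads of the code. -/
def eights (C : Submodule (ZMod 2) (α → ZMod 2)) : Set (Finset α) := {s | s.card = 8 ∧ ind s ∈ C}

theorem eq_of_congr {s t : Finset α} (h : ind s - ind t ∈ C) (hlt : (symmDiff s t).card < 8) : s = t := by
  rw [word_sub, ← ind_symmDiff] at h
  have h0 := hC.eq_zero_of_small h (by rwa [wgt, support_ind])
  have := congrArg Cfsg.support₂ h0
  rw [support_ind, support_zero] at this
  exact symmDiff_eq_bot.mp this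

theorem exists_small (x : α → ZMod 2) : ∃ v : Finset α, v.card ≤ 4 ∧ x - ind v ∈ C := by
  classical
  haveI : Fintype ((α → ZMod 2) ⧸ C) := Fintype.ofFinite _
  let f : Finset α → (α → ZMod 2) ⧸ C := fun s => Submodule.Quotient.mk (ind s)
  have hcongr : ∀ {s t : Finset α}, f s = f t → ind s - ind t ∈ C := fun h =>
    (Submodule.Quotient.eq C).mp h
  let L := (range 4).biUnion fun k => (univ : Finset α).powersetCard k
  let F := (univ : Finset α).powersetCard 4
  have hL : ∀ s ∈ L, s.card ≤ 3 := fun s hs => by
    obtain ⟨k, hk, hs⟩ := mem_biUnion.mp hs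
    have := (mem_powersetCard.mp hs).2
    have := mem_range.mp hk
    omega
  have hsd : ∀ {s t : Finset α}, (symmDiff s t).card ≤ s.card + t.card := fun {s t} => by
    have := card_symmDiff_inter s t; omega
  have hLcard : L.card = 2325 := by
    rw [card_biUnion (fun i _ j _ hij => (pairwise_disjoint_powersetCard _ hij))]
    simp only [sum_range_succ, sum_range_zero, card_powersetCard, card_univ, hC.len]
    rfl
  have hLinj : (L.image f).card = 2325 := by
    rw [card_image_of_injOn, hLcard]
    intro s hs t ht h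
    have := hL s hs; have := hL t ht
    exact hC.eq_of_congr (hcongr h) (by have := hsd (s := s) (t := t); omega)
  have hFfib : ∀ b ∈ F.image f, (F.filter fun s => f s = b).card ≤ 6 := by
    intro b _
    set K := F.filter fun s => f s = b with hK
    have hdisj : (K : Set (Finset α)).PairwiseDisjoint id := by
      intro s hs t ht hne
      rw [hK, mem_coe, mem_filter, mem_powersetCard] at hs ht
      show Disjoint s t
      rw [disjoint_iff_inter_eq_empty, ← Finset.card_eq_zero]
      by_contra h
      refine hne (hC.eq_of_congr (hcongr (hs.2.trans ht.2.symm)) ?_)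
      have := card_symmDiff_inter s t
      omega
    have h1 := card_biUnion hdisj
    have h2 := card_le_univ (K.biUnion id)
    simp only [id_eq] at h1
    have h3 : ∑ s ∈ K, s.card = K.card * 4 := by
      rw [sum_congr rfl (fun s hs => (mem_powersetCard.mp (mem_filter.mp hs).1).2), sum_const, smul_eq_mul]
    rw [h1, h3, hC.len] at h2
    show K.card ≤ 6
    omega
  have hFimg : 1771 ≤ (F.image f).card := by
    have := card_le_mul_card_image F 6 hFfib
    rw [card_powersetCard, card_univ, hC.len, show Nat.choose 24 4 = 10626 from rfl] at this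
    omega
  have hd : Disjoint (L.image f) (F.image f) := by
    rw [disjoint_left]
    intro b hb hb'
    obtain ⟨s, hs, rfl⟩ := mem_image.mp hb
    obtain ⟨t, ht, hts⟩ := mem_image.mp hb'
    have h4 := (mem_powersetCard.mp ht).2
    have := hL s hs
    have := hC.eq_of_congr (hcongr hts) (by have := hsd (s := t) (t := s); omega)
    subst this
    omega
  have hq : Fintype.card ((α → ZMod 2) ⧸ C) = 4096 := by
    rw [← Nat.card_eq_fintype_card, natCard_eq_two_pow]
    have := C.finrank_quotient_add_finrank
    rw [hC.dim, Module.finrank_pi, hC.len] at this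
    rw [show Module.finrank (ZMod 2) ((α → ZMod 2) ⧸ C) = 12 by omega]; rfl
  have hall : L.image f ∪ F.image f = univ := by
    refine eq_univ_of_card _ (le_antisymm (card_le_univ _) ?_)
    rw [card_union_of_disjoint hd, hLinj, hq]
    omega
  have hx := hall.ge (mem_univ (Submodule.Quotient.mk x))
  rw [mem_union] at hx
  rcases hx with hx | hx <;> obtain ⟨s, hs, hsx⟩ := mem_image.mp hx
  · exact ⟨s, (hL s hs).trans (by norm_num), (Submodule.Quotient.eq C).mp hsx.symm⟩
  · exact ⟨s, (mem_powersetCard.mp hs).2.le, (Submodule.Quotient.eq C).mp hsx.symm⟩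

theorem steiner : Cfsg.IsSteinerSystem 5 8 (eights C) := by
  refine ⟨fun s hs => hs.1, fun s hs => ?_⟩
  obtain ⟨v, hv, hvC⟩ := hC.exists_small (ind s)
  rw [word_sub, ← ind_symmDiff] at hvC
  have hcard := card_symmDiff_inter s v
  have h8 : (symmDiff s v).card = 8 := by
    obtain ⟨a, ha⟩ := hC.doubly _ hvC
    rw [wgt, support_ind] at ha
    have hne : ¬ (symmDiff s v).card < 8 := fun h => by
      have h0 := hC.eq_zero_of_small hvC (by rwa [wgt, support_ind])
      have h1 := congrArg Cfsg.support₂ h0
      rw [support_ind, support_zero] at h1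
      have h2 : s = v := symmDiff_eq_bot.mp h1
      subst h2
      omega
    omega
  have hsv : s ∩ v = ∅ := Finset.card_eq_zero.mp (by omega)
  have hsub : s ⊆ symmDiff s v := fun a ha => Finset.mem_symmDiff.mpr (Or.inl ⟨ha, fun hav =>
    notMem_empty a (hsv ▸ mem_inter.mpr ⟨ha, hav⟩)⟩)
  refine ⟨symmDiff s v, ⟨⟨h8, hvC⟩, hsub⟩, ?_⟩
  rintro o ⟨⟨ho8, hoC⟩, hso⟩
  refine (hC.eq_of_congr (C.sub_mem hvC hoC) ?_).symm
  have := card_le_card (subset_inter hsub hso)
  have := card_symmDiff_inter (symmDiff s v) o
  omega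

end IsGolay

end CfsgLib.Steiner
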