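/-
The length 24 code attached to the Steiner systems S(5,8,24), S(4,7,23), S(3,6,22).
-/
import Cfsg.Agent.Steiner.Code
import Cfsg.Agent.Steiner.Numbers

set_option autoImplicit false

namespace CfsgLib.Steiner

open Finset

section Generic

variable {α : Type*} [Fintype α] [DecidableEq α]

theorem span_orth (S : Set (α → ZMod 2)) (horth : ∀ s ∈ S, ∀ t ∈ S, s ⬝ᵥ t = 0)
    {v w : α → ZMod 2} (hv : v ∈ Submodule.span (ZMod 2) S) (hw : w ∈ Submodule.span (ZMod 2) S) :
    v ⬝ᵥ w = 0 := by
  induction hv using Submodule.span_induction with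
  | mem x hx =>
    induction hw using Submodule.span_induction with
    | mem y hy => exact horth x hx y hy
    | zero => exact dotProduct_zero x
    | add y z _ _ hy hz => rw [dotProduct_add, hy, hz, add_zero]
    | smul r y _ hy => rw [dotProduct_smul, hy, smul_zero]
  | zero => exact zero_dotProduct w
  | add x y _ _ hx hy => rw [add_dotProduct, hx, hy, add_zero]
  | smul r x _ hx => rw [smul_dotProduct, hx, smul_zero]

theorem span_doubly (S : Set (α → ZMod 2)) (h4 : ∀ s ∈ S, 4 ∣ wgt s)
    (horth : ∀ s ∈ S, ∀ t ∈ S, s ⬝ᵥ t = 0) {v : α → ZMod 2} (hv : v ∈ Submodule.span (ZMod 2) S) :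
    4 ∣ wgt v := by
  induction hv using Submodule.span_induction with
  | mem x hx => exact h4 x hx
  | zero => rw [(wgt_eq_zero (v := (0 : α → ZMod 2))).mpr rfl]; exact dvd_zero 4
  | add x y hx hy ihx ihy =>
    obtain ⟨a, ha⟩ := ihx
    obtain ⟨b, hb⟩ := ihy
    obtain ⟨c, hc⟩ := (dot_eq_zero_iff x y).mp (span_orth S horth hx hy)
    have := wgt_add x y
    omega
  | smul r x hx ihx =>
    by_cases hr : r = 0
    · subst hr; rw [zero_smul, (wgt_eq_zero (v := (0 : α → ZMod 2))).mpr rfl]; exact dvd_zero 4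
    · rw [eq_one_of_ne_zero hr, one_smul]; exact ihx

theorem perp_perp (C : Submodule (ZMod 2) (α → ZMod 2)) : perp (perp C) = C := by
  refine (Submodule.eq_of_le_of_finrank_eq (fun c hc => mem_perp.mpr fun v hv => ?_) ?_).symm
  · rw [dotProduct_comm]; exact mem_perp.mp hv c hc
  · have h1 := finrank_perp C
    have h2 := finrank_perp (perp C)
    omega

/-- Self-orthogonal with few cosets forces dimension twelve. -/
theorem golay_of_reduction (C : Submodule (ZMod 2) (α → ZMod 2)) (hlen : Fintype.card α = 24)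
    (hd : ∀ w ∈ C, 4 ∣ wgt w) (hno4 : ∀ w ∈ C, wgt w ≠ 4) (p : α)
    (hred : ∀ x : Finset α, 5 ≤ x.card ∨ (x.card = 4 ∧ p ∉ x) →
      ∃ y : Finset α, ind x - ind y ∈ C ∧
        (y.card < x.card ∨ (y.card = x.card ∧ p ∈ y ∧ p ∉ x))) : IsGolay C := by
  refine ⟨hlen, ?_, hd, hno4⟩
  have hle : Module.finrank (ZMod 2) C ≤ 12 := by
    have h1 := finrank_perp C
    have h2 : C ≤ perp C := fun v hv => mem_perp.mpr fun c hc => by
      rw [dot_eq_zero_iff, Nat.even_iff]
      have h := wgt_add v c
      obtain ⟨a, ha⟩ := hd v hv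
      obtain ⟨b, hb⟩ := hd c hc
      obtain ⟨e, he⟩ := hd _ (C.add_mem hv hc)
      omega
    have := Submodule.finrank_mono h2
    omega
  let m : Finset α → ℕ := fun x => 2 * x.card + (if p ∈ x then 0 else 1)
  have hrep : ∀ n, ∀ x : Finset α, m x = n →
      ∃ y : Finset α, ind x - ind y ∈ C ∧ (y.card ≤ 3 ∨ (y.card = 4 ∧ p ∈ y)) := by
    intro n
    induction n using Nat.strong_induction_on with
    | _ n ih =>
      intro x hx
      by_cases hdone : x.card ≤ 3 ∨ (x.card = 4 ∧ p ∈ x)
      · exact ⟨x, by rw [sub_self]; exact C.zero_mem, hdone⟩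
      · push Not at hdone
        obtain ⟨y, hy, hcase⟩ := hred x (by
          by_cases h5 : 5 ≤ x.card
          · exact Or.inl h5
          · exact Or.inr ⟨by omega, hdone.2 (by omega)⟩)
        have hlt : m y < n := by
          rw [← hx]
          simp only [m]
          rcases hcase with h | ⟨h, h', h''⟩
          · split_ifs <;> omega
          · rw [if_pos h', if_neg h'']; omega
        obtain ⟨z, hz, hzc⟩ := ih _ hlt y rfl
        exact ⟨z, by simpa using C.add_mem hy hz, hzc⟩
  let R : Finset (Finset α) := ((range 4).biUnion fun k => (univ : Finset α).powersetCard k) ∪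
    ((univ : Finset α).powersetCard 4).filter (p ∈ ·)
  have hR : R.card ≤ 4349 := by
    have h4 : (((univ : Finset α).powersetCard 4).filter (p ∈ ·)).card ≤ 2024 := by
      have : ((univ : Finset α).powersetCard 4).filter (p ∈ ·) ⊆
          (((univ : Finset α).erase p).powersetCard 3).image (insert p) := by
        intro s hs
        rw [mem_filter, mem_powersetCard] at hs
        refine mem_image.mpr ⟨s.erase p, mem_powersetCard.mpr ⟨?_, ?_⟩, insert_erase hs.2⟩
        · exact erase_subset_erase p (subset_univ s)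
        · rw [card_erase_of_mem hs.2, hs.1.2]
      refine (card_le_card this).trans (card_image_le.trans ?_)
      rw [card_powersetCard, card_erase_of_mem (mem_univ p), card_univ, hlen]
      decide
    refine (card_union_le _ _).trans ?_
    have h3 : ((range 4).biUnion fun k => (univ : Finset α).powersetCard k).card = 2325 := by
      rw [card_biUnion (fun i _ j _ hij => (pairwise_disjoint_powersetCard _ hij))]
      simp only [sum_range_succ, sum_range_zero, card_powersetCard, card_univ, hlen]
      rfl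
    omega
  classical
  haveI : Fintype ((α → ZMod 2) ⧸ C) := Fintype.ofFinite _
  have hsurj : (univ : Finset ((α → ZMod 2) ⧸ C)) ⊆ R.image fun s => Submodule.Quotient.mk (ind s) := by
    intro q _
    obtain ⟨v, rfl⟩ := Submodule.Quotient.mk_surjective C q
    obtain ⟨y, hy, hyc⟩ := hrep _ (Cfsg.support₂ v) rfl
    rw [ind_support] at hy
    refine mem_image.mpr ⟨y, ?_, ((Submodule.Quotient.eq C).mpr hy).symm⟩
    rcases hyc with h | h
    · exact mem_union_left _ (mem_biUnion.mpr ⟨y.card, mem_range.mpr (by omega),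
        mem_powersetCard.mpr ⟨subset_univ y, rfl⟩⟩)
    · exact mem_union_right _ (mem_filter.mpr ⟨mem_powersetCard.mpr ⟨subset_univ y, h.1⟩, h.2⟩)
  have hq := (card_le_card hsurj).trans (card_image_le.trans hR)
  rw [card_univ, ← Nat.card_eq_fintype_card, natCard_eq_two_pow] at hq
  have hdim := C.finrank_quotient_add_finrank
  rw [Module.finrank_pi, hlen] at hdim
  have : Module.finrank (ZMod 2) ((α → ZMod 2) ⧸ C) ≤ 12 := by
    by_contra h
    have := Nat.pow_le_pow_right (show 1 ≤ 2 by norm_num) (show 13 ≤ Module.finrank (ZMod 2) ((α → ZMod 2) ⧸ C) by omega)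
    omega
  omega

theorem dot_ind_eq_zero {s t : Finset α} (h : Even (s ∩ t).card) : ind s ⬝ᵥ ind t = 0 := by
  rwa [dot_eq_zero_iff, support_ind, support_ind]

theorem even_of_dot {s t : Finset α} (h : ind s ⬝ᵥ ind t = 0) : Even (s ∩ t).card := by
  rwa [dot_eq_zero_iff, support_ind, support_ind] at h

omit [Fintype α] in
theorem exists_other {F : Finset (Finset α)} {a : ℕ} {s : Finset α} (h : (F.filter (s ⊆ ·)).card < a)
    {t : Finset α} (ht : (F.filter (t ⊆ ·)).card = a) : ∃ b ∈ F, t ⊆ b ∧ ¬ s ⊆ b := by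
  by_contra hne
  push Not at hne
  have := card_le_card (show F.filter (t ⊆ ·) ⊆ F.filter (s ⊆ ·) from fun b hb => by
    rw [mem_filter] at hb ⊢; exact ⟨hb.1, hne b hb.1 hb.2⟩)
  omega

end Generic

/-! ### S(5,8,24) -/

section T24

variable {α : Type*} [Fintype α] [DecidableEq α] {B : Set (Finset α)}
  (hB : Cfsg.IsSteinerSystem 5 8 B) (hα : Fintype.card α = 24)

/-- Span of the blocks. -/
def code24 (B : Set (Finset α)) : Submodule (ZMod 2) (α → ZMod 2) := Submodule.span (ZMod 2) (ind '' B)

include hB hα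

theorem orth24 : ∀ s ∈ ind '' B, ∀ t ∈ ind '' B, s ⬝ᵥ t = 0 := by
  rintro _ ⟨b, hb, rfl⟩ _ ⟨c, hc, rfl⟩
  refine dot_ind_eq_zero ?_
  by_cases h : b = c
  · rw [h, inter_self, hB.1 c hc]; decide
  · rcases inter_cases_24 hB hα hb hc h with h | h | h <;> rw [h] <;> decide

theorem no4_24 {w : α → ZMod 2} (hw : w ∈ code24 B) : wgt w ≠ 4 := by
  intro h4
  obtain ⟨q3, hq3, hq3c⟩ := exists_subset_card_eq (show 3 ≤ (Cfsg.support₂ w).card by rw [show (Cfsg.support₂ w).card = 4 from h4]; norm_num)
  have c3 := count_eq hB (i := 3) (n := 21) (by norm_num) (by rw [hα]; decide) (by decide) q3 hq3c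
  have c4 := count_eq hB (i := 4) (n := 5) (by norm_num) (by rw [hα]; decide) (by decide) _ h4
  obtain ⟨b, hb, h1, h2⟩ := exists_other (a := 21) (by rw [c4]; norm_num) c3
  have he := span_orth _ (orth24 hB hα) (Submodule.subset_span ⟨b, mem_blocks.mp hb, rfl⟩) hw
  rw [← ind_support w] at he
  have hev := even_of_dot he
  have hge : 3 ≤ (b ∩ Cfsg.support₂ w).card := hq3c ▸ card_le_card (subset_inter h1 hq3)
  have hlt : (b ∩ Cfsg.support₂ w).card < 4 := by
    by_contra h
    exact h2 (inter_eq_right.mp (eq_of_subset_of_card_le inter_subset_right (by rw [show (Cfsg.support₂ w).card = 4 from h4]; omega)))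
  obtain ⟨j, hj⟩ := hev
  omega

theorem golay24 : IsGolay (code24 B) := by
  obtain ⟨p⟩ : Nonempty α := Fintype.card_pos_iff.mp (by omega)
  refine golay_of_reduction _ hα (fun w hw => span_doubly _ ?_ (orth24 hB hα) hw)
    (fun w hw => no4_24 hB hα hw) p ?_
  · rintro _ ⟨b, hb, rfl⟩
    rw [wgt, support_ind, hB.1 b hb]; norm_num
  · rintro x hx
    have hmem : ∀ b ∈ B, ind x - ind (symmDiff x b) ∈ code24 B := fun b hb => by
      rw [word_sub, ind_symmDiff, ← add_assoc, show ind x + ind x = 0 from funext fun a => CharTwo.add_self_eq_zero _, zero_add]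
      exact Submodule.subset_span ⟨b, hb, rfl⟩
    rcases hx with h5 | ⟨h4, hp⟩
    · obtain ⟨s, hs, hsc⟩ := exists_subset_card_eq h5
      obtain ⟨b, ⟨hb, hsb⟩, -⟩ := hB.2 s hsc
      refine ⟨symmDiff x b, hmem b hb, Or.inl ?_⟩
      have := card_symmDiff_inter x b
      have := card_le_card (subset_inter hs hsb)
      have := hB.1 b hb
      omega
    · obtain ⟨b, ⟨hb, hsb⟩, -⟩ := hB.2 (insert p x) (by rw [card_insert_of_notMem hp, h4])
      refine ⟨symmDiff x b, hmem b hb, Or.inr ⟨?_, mem_symmDiff.mpr (Or.inr ⟨hsb (mem_insert_self p x), hp⟩), hp⟩⟩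
      have := card_symmDiff_inter x b
      rw [inter_eq_left.mpr ((subset_insert p x).trans hsb), hB.1 b hb] at this
      omega

theorem eights24 : IsGolay.eights (code24 B) = B := by
  ext w
  refine ⟨fun ⟨h8, hw⟩ => ?_, fun hw => ⟨hB.1 w hw, Submodule.subset_span ⟨w, hw, rfl⟩⟩⟩
  obtain ⟨s, hs, hsc⟩ := exists_subset_card_eq (show 5 ≤ w.card by omega)
  obtain ⟨b, ⟨hb, hsb⟩, -⟩ := hB.2 s hsc
  have hG := golay24 hB hα
  have h := hG.eq_of_congr (s := w) (t := b) (Submodule.sub_mem _ hw (Submodule.subset_span ⟨b, hb, rfl⟩)) (by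
    have := card_symmDiff_inter w b
    have := card_le_card (subset_inter hs hsb)
    have := hB.1 b hb
    omega)
  exact h ▸ hb

end T24

/-! ### S(4,7,23) -/

section T23

variable {α : Type*} [Fintype α] [DecidableEq α] {B : Set (Finset α)}
  (hB : Cfsg.IsSteinerSystem 4 7 B) (hα : Fintype.card α = 23)

/-- Span of the extended blocks. -/
def code23 (B : Set (Finset α)) : Submodule (ZMod 2) (Option α → ZMod 2) :=
  Submodule.span (ZMod 2) ((fun b => ind (insertNone b)) '' B)

theorem insertNone_inter (b c : Finset α) : (insertNone b ∩ insertNone c).card = (b ∩ c).card + 1 := by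
  rw [← card_insertNone]
  congr 1
  ext (_ | a) <;> simp

include hB hα

theorem orth23 : ∀ s ∈ (fun b => ind (insertNone b)) '' B, ∀ t ∈ (fun b => ind (insertNone b)) '' B,
    s ⬝ᵥ t = 0 := by
  rintro _ ⟨b, hb, rfl⟩ _ ⟨c, hc, rfl⟩
  refine dot_ind_eq_zero ?_
  rw [insertNone_inter]
  by_cases h : b = c
  · rw [h, inter_self, hB.1 c hc]; decide
  · obtain ⟨h0, h2⟩ := numbers_23 hB hα (mem_blocks.mpr hb)
    have hc' : c ∈ (blocks B).erase b := mem_erase.mpr ⟨Ne.symm h, mem_blocks.mpr hc⟩
    have hp := meet_pos (S := b) hc'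
    have := inter_lt hB (mem_blocks.mpr hb) hc'
    have hcase : (b ∩ c).card = 1 ∨ (b ∩ c).card = 3 := by
      generalize hj : (b ∩ c).card = j at hp this
      interval_cases j <;> omega
    rcases hcase with h | h <;> rw [h] <;> decide

theorem no4_23 {w : Option α → ZMod 2} (hw : w ∈ code23 B) : wgt w ≠ 4 := by
  intro h4
  have hev : ∀ b ∈ B, Even (insertNone b ∩ Cfsg.support₂ w).card := fun b hb => by
    have he := span_orth _ (orth23 hB hα) (Submodule.subset_span ⟨b, hb, rfl⟩) hw
    rw [← ind_support w] at he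
    exact even_of_dot he
  set q := eraseNone (Cfsg.support₂ w) with hq
  have hsplit : ∀ b : Finset α, (insertNone b ∩ Cfsg.support₂ w).card =
      (b ∩ q).card + if none ∈ Cfsg.support₂ w then 1 else 0 := by
    intro b
    split_ifs with h
    · rw [← card_insertNone]; congr 1
      ext (_ | a) <;> simp [hq, h]
    · rw [add_zero, ← card_map Function.Embedding.some (s := b ∩ q)]; congr 1
      ext (_ | a) <;> simp [hq, h]
  have hqc : q.card + (if none ∈ Cfsg.support₂ w then 1 else 0) = 4 := by
    rw [← show (Cfsg.support₂ w).card = 4 from h4, hq]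
    split_ifs with h
    · rw [card_eraseNone_of_mem h]; have := card_pos.mpr ⟨none, h⟩; omega
    · rw [card_eraseNone_of_not_mem h]; rfl
  obtain ⟨r, hr, hrc⟩ := exists_subset_card_eq (show q.card - 1 ≤ q.card by omega)
  have key : ∀ b ∈ B, r ⊆ b → q ⊆ b := by
    intro b hb hrb
    refine inter_eq_right.mp (eq_of_subset_of_card_le inter_subset_right ?_)
    obtain ⟨j, hj⟩ := hev b hb
    rw [hsplit] at hj
    have := card_le_card (subset_inter hrb hr)
    have := card_le_card (inter_subset_right (s₁ := b) (s₂ := q))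
    split_ifs at hqc hj <;> omega
  by_cases hn : none ∈ Cfsg.support₂ w
  · rw [if_pos hn] at hqc
    have c2 := count_eq hB (i := 2) (n := 21) (by norm_num) (by rw [hα]; decide) (by decide) r (by omega)
    have c3 := count_eq hB (i := 3) (n := 5) (by norm_num) (by rw [hα]; decide) (by decide) q (by omega)
    obtain ⟨b, hb, h1, h2⟩ := exists_other (a := 21) (by rw [c3]; norm_num) c2
    exact h2 (key b (mem_blocks.mp hb) h1)
  · rw [if_neg hn] at hqc
    have c3 := count_eq hB (i := 3) (n := 5) (by norm_num) (by rw [hα]; decide) (by decide) r (by omega)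
    have c4 := count_t hB q (by omega)
    obtain ⟨b, hb, h1, h2⟩ := exists_other (a := 5) (by rw [c4]; norm_num) c3
    exact h2 (key b (mem_blocks.mp hb) h1)

theorem golay23 : IsGolay (code23 B) := by
  refine golay_of_reduction _ (by rw [Fintype.card_option, hα])
    (fun w hw => span_doubly _ ?_ (orth23 hB hα) hw) (fun w hw => no4_23 hB hα hw) none ?_
  · rintro _ ⟨b, hb, rfl⟩
    show 4 ∣ wgt (ind (insertNone b))
    rw [wgt, support_ind, card_insertNone, hB.1 b hb]; norm_num
  · intro x hx
    have hxc : 4 ≤ (eraseNone x).card := by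
      rcases hx with h5 | ⟨h4, hp⟩
      · by_cases h : none ∈ x
        · rw [card_eraseNone_of_mem h]; omega
        · rw [card_eraseNone_of_not_mem h]; omega
      · rw [card_eraseNone_of_not_mem hp, h4]
    obtain ⟨s, hs, hsc⟩ := exists_subset_card_eq hxc
    obtain ⟨b, ⟨hb, hsb⟩, -⟩ := hB.2 s hsc
    refine ⟨symmDiff x (insertNone b), ?_, ?_⟩
    · rw [word_sub, ind_symmDiff, ← add_assoc, show ind x + ind x = 0 from funext fun a => CharTwo.add_self_eq_zero _, zero_add]
      exact Submodule.subset_span ⟨b, hb, rfl⟩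
    have h1 := card_symmDiff_inter x (insertNone b)
    rw [card_insertNone, hB.1 b hb] at h1
    have hsub : s.map Function.Embedding.some ⊆ x ∩ insertNone b := by
      intro a ha
      obtain ⟨z, hz, rfl⟩ := mem_map.mp ha
      exact mem_inter.mpr ⟨mem_eraseNone.mp (hs hz), some_mem_insertNone.mpr (hsb hz)⟩
    have h2 := card_le_card hsub
    rw [card_map, hsc] at h2
    by_cases h : none ∈ x
    · left
      have hlt : 4 < (x ∩ insertNone b).card := by
        refine lt_of_lt_of_le ?_ (card_le_card (insert_subset (mem_inter.mpr ⟨h, none_mem_insertNone⟩) hsub))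
        rw [card_insert_of_notMem (by simp), card_map, hsc]; norm_num
      omega
    · by_cases heq : (x ∩ insertNone b).card = 4
      · exact Or.inr ⟨by omega, mem_symmDiff.mpr (Or.inr ⟨none_mem_insertNone, h⟩), h⟩
      · exact Or.inl (by omega)

theorem eights23 (b : Finset α) : b ∈ B ↔ insertNone b ∈ IsGolay.eights (code23 B) := by
  refine ⟨fun hb => ⟨by rw [card_insertNone, hB.1 b hb], Submodule.subset_span ⟨b, hb, rfl⟩⟩, ?_⟩
  rintro ⟨h8, hw⟩
  rw [card_insertNone] at h8
  obtain ⟨s, hs, hsc⟩ := exists_subset_card_eq (show 4 ≤ b.card by omega)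
  obtain ⟨c, ⟨hc, hsc'⟩, -⟩ := hB.2 s hsc
  have h := (golay23 hB hα).eq_of_congr (s := insertNone b) (t := insertNone c)
    (Submodule.sub_mem _ hw (Submodule.subset_span ⟨c, hc, rfl⟩)) (by
      have := card_symmDiff_inter (insertNone b) (insertNone c)
      rw [card_insertNone, card_insertNone, insertNone_inter, hB.1 c hc] at this
      have := card_le_card (subset_inter hs hsc')
      omega)
  have : b = c := by rw [← eraseNone_insertNone b, ← eraseNone_insertNone c, h]
  exact this ▸ hc

end T23

end CfsgLib.Steiner
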