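/-
Injective maps of two-element subsets preserving incidence come from bijections of points.
-/
import Mathlib

set_option autoImplicit false

namespace CfsgLib.Steiner

open Finset

/-- Pairwise meeting pairs, more than three of them, have a common point. -/
theorem exists_common {β : Type*} [DecidableEq β] (F : Finset (Finset β)) (h4 : 4 ≤ F.card)
    (h2 : ∀ p ∈ F, p.card = 2) (hmeet : ∀ p ∈ F, ∀ q ∈ F, p ≠ q → (p ∩ q).Nonempty) :
    ∃ x, ∀ p ∈ F, x ∈ p := by
  obtain ⟨p, hp⟩ := card_pos.mp (show 0 < F.card by omega)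
  obtain ⟨u, v, huv, rfl⟩ := card_eq_two.mp (h2 p hp)
  have hor : ∀ q ∈ F, u ∈ q ∨ v ∈ q := by
    intro q hq
    by_cases h : q = {u, v}
    · exact Or.inl (h ▸ mem_insert_self _ _)
    · obtain ⟨x, hx⟩ := hmeet q hq _ hp h
      rw [mem_inter, mem_insert, mem_singleton] at hx
      rcases hx.2 with rfl | rfl
      · exact Or.inl hx.1
      · exact Or.inr hx.1
  by_contra hne
  push Not at hne
  obtain ⟨q, hq, huq⟩ := hne u
  obtain ⟨r, hr, hvr⟩ := hne v
  have hvq := (hor q hq).resolve_left huq
  have hur := (hor r hr).resolve_right hvr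
  obtain ⟨w, hw⟩ := hmeet q hq r hr (fun h => huq (h ▸ hur))
  rw [mem_inter] at hw
  have hqe : q = {v, w} := by
    refine (eq_of_subset_of_card_le (by simp [insert_subset_iff, hvq, hw.1]) ?_).symm
    rw [h2 q hq, card_pair (fun h : v = w => hvr (by rw [h]; exact hw.2))]
  have hre : r = {u, w} := by
    refine (eq_of_subset_of_card_le (by simp [insert_subset_iff, hur, hw.2]) ?_).symm
    rw [h2 r hr, card_pair (fun h : u = w => huq (by rw [h]; exact hw.1))]
  have hall : F ⊆ {{u, v}, q, r} := by
    intro s hs
    by_contra hcon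
    simp only [mem_insert, mem_singleton, not_or] at hcon
    obtain ⟨hs1, hs2, hs3⟩ := hcon
    have hcard := h2 s hs
    rcases hor s hs with hu | hv
    · obtain ⟨x, hx⟩ := hmeet s hs q hq hs2
      rw [hqe, mem_inter, mem_insert, mem_singleton] at hx
      rcases hx.2 with rfl | rfl
      · exact hs1 (eq_of_subset_of_card_le (by simp [insert_subset_iff, hu, hx.1])
          (by rw [hcard, card_pair huv])).symm
      · exact hs3 (hre ▸ (eq_of_subset_of_card_le (by simp [insert_subset_iff, hu, hx.1])
          (by rw [hcard, card_pair (fun h : u = _ => huq (by rw [h]; exact hw.1))])).symm)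
    · obtain ⟨x, hx⟩ := hmeet s hs r hr hs3
      rw [hre, mem_inter, mem_insert, mem_singleton] at hx
      rcases hx.2 with rfl | rfl
      · exact hs1 (eq_of_subset_of_card_le (by simp [insert_subset_iff, hv, hx.1])
          (by rw [hcard, card_pair huv])).symm
      · exact hs2 (hqe ▸ (eq_of_subset_of_card_le (by simp [insert_subset_iff, hv, hx.1])
          (by rw [hcard, card_pair (fun h : v = _ => hvr (by rw [h]; exact hw.2))])).symm)
  have := (card_le_card hall).trans card_le_three
  omega

variable {α β : Type*} [Fintype α] [DecidableEq α] [Fintype β] [DecidableEq β]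

theorem exists_bij_of_pairs (f : Finset α → Finset β) (hn : 5 ≤ Fintype.card α)
    (hcard : Fintype.card α = Fintype.card β) (hf : ∀ s : Finset α, s.card = 2 → (f s).card = 2)
    (hinj : ∀ s t : Finset α, s.card = 2 → t.card = 2 → f s = f t → s = t)
    (hmeet : ∀ s t : Finset α, s.card = 2 → t.card = 2 → (s ∩ t).card = 1 → (f s ∩ f t).Nonempty) :
    ∃ π : α ≃ β, ∀ a b, a ≠ b → f {a, b} = {π a, π b} := by
  have hstar : ∀ a, ∃ x, ∀ b, b ≠ a → x ∈ f {a, b} := by
    intro a
    have hpc : ∀ b ∈ (univ : Finset α).erase a, ({a, b} : Finset α).card = 2 := fun b hb =>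
      card_pair (mem_erase.mp hb).1.symm
    let F := ((univ : Finset α).erase a).image fun b => f {a, b}
    have hFc : F.card = Fintype.card α - 1 := by
      rw [card_image_of_injOn, card_erase_of_mem (mem_univ a), card_univ]
      intro b hb c hc h
      have h' := hinj _ _ (hpc b hb) (hpc c hc) h
      have : b ∈ ({a, c} : Finset α) := h' ▸ by simp
      rw [mem_insert, mem_singleton] at this
      exact this.resolve_left (mem_erase.mp hb).1
    obtain ⟨x, hx⟩ := exists_common F (by omega)
      (fun p hp => by obtain ⟨b, hb, rfl⟩ := mem_image.mp hp; exact hf _ (hpc b hb))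
      (by
        intro p hp q hq hne
        obtain ⟨b, hb, rfl⟩ := mem_image.mp hp
        obtain ⟨c, hc, rfl⟩ := mem_image.mp hq
        refine hmeet _ _ (hpc b hb) (hpc c hc) ?_
        have hbc : b ≠ c := fun h => hne (by rw [h])
        rw [card_eq_one]
        refine ⟨a, ?_⟩
        ext z
        simp only [mem_inter, mem_insert, mem_singleton]
        refine ⟨fun h => ?_, fun h => ⟨Or.inl h, Or.inl h⟩⟩
        rcases h.1 with h' | h'
        · exact h'
        · rcases h.2 with h'' | h''
          · exact h''
          · exact absurd (h'.symm.trans h'') hbc)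
    exact ⟨x, fun b hb => hx _ (mem_image_of_mem _ (mem_erase.mpr ⟨hb, mem_univ b⟩))⟩
  choose π hπ using hstar
  have hπinj : Function.Injective π := by
    intro a b hab
    by_contra hne
    have hin : ∀ s : Finset α, s.card = 2 → (a ∈ s ∨ b ∈ s) → π a ∈ f s := by
      intro s hs hor
      obtain ⟨u, v, huv, rfl⟩ := card_eq_two.mp hs
      simp only [mem_insert, mem_singleton] at hor
      rcases hor with (h | h) | (h | h)
      · subst h; exact hπ a v (Ne.symm huv)
      · subst h; rw [pair_comm]; exact hπ a u huv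
      · subst h; rw [hab]; exact hπ b v (Ne.symm huv)
      · subst h; rw [hab, pair_comm]; exact hπ b u huv
    let A := ((univ : Finset α).erase a).image fun c => ({a, c} : Finset α)
    let Bs := ((univ : Finset α).erase b).image fun c => ({b, c} : Finset α)
    have hA2 : ∀ s ∈ A ∪ Bs, s.card = 2 ∧ (a ∈ s ∨ b ∈ s) := by
      intro s hs
      rcases mem_union.mp hs with h | h <;> obtain ⟨c, hc, rfl⟩ := mem_image.mp h
      · exact ⟨card_pair (mem_erase.mp hc).1.symm, Or.inl (by simp)⟩
      · exact ⟨card_pair (mem_erase.mp hc).1.symm, Or.inr (by simp)⟩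
    have hsub : (A ∪ Bs).image f ⊆ ((univ : Finset β).erase (π a)).image fun y => {π a, y} := by
      intro t ht
      obtain ⟨s, hs, rfl⟩ := mem_image.mp ht
      have hm := hin s (hA2 s hs).1 (hA2 s hs).2
      obtain ⟨u, v, huv, he⟩ := card_eq_two.mp (hf s (hA2 s hs).1)
      rw [he, mem_insert, mem_singleton] at hm
      refine mem_image.mpr ?_
      rcases hm with h | h
      · exact ⟨v, mem_erase.mpr ⟨h ▸ huv.symm, mem_univ _⟩, by rw [he, h]⟩
      · exact ⟨u, mem_erase.mpr ⟨h ▸ huv, mem_univ _⟩, by rw [he, h, pair_comm]⟩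
    have hle := (card_le_card hsub).trans card_image_le
    rw [card_image_of_injOn (fun s hs t ht h => hinj s t (hA2 s hs).1 (hA2 t ht).1 h),
      card_erase_of_mem (mem_univ _), card_univ, ← hcard] at hle
    have hAc : A.card = Fintype.card α - 1 := by
      rw [card_image_of_injOn, card_erase_of_mem (mem_univ a), card_univ]
      intro c hc d hd h
      have h0 : c ∈ ({a, d} : Finset α) := (show ({a, c} : Finset α) = {a, d} from h) ▸ by simp
      rw [mem_insert, mem_singleton] at h0
      exact h0.resolve_left (mem_erase.mp hc).1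
    obtain ⟨c, hc⟩ : ∃ c, c ∈ ((univ : Finset α).erase a).erase b := card_pos.mp (by
      rw [card_erase_of_mem (mem_erase.mpr ⟨Ne.symm hne, mem_univ b⟩), card_erase_of_mem (mem_univ a),
        card_univ]
      omega)
    simp only [mem_erase] at hc
    have hnew : ({b, c} : Finset α) ∈ Bs ∧ ({b, c} : Finset α) ∉ A := by
      refine ⟨mem_image.mpr ⟨c, mem_erase.mpr ⟨hc.1, mem_univ _⟩, rfl⟩, fun h => ?_⟩
      obtain ⟨d, hd, hde⟩ := mem_image.mp h
      have : a ∈ ({b, c} : Finset α) := hde ▸ mem_insert_self _ _
      rw [mem_insert, mem_singleton] at this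
      rcases this with h | h
      · exact hne h
      · exact hc.2.1 h.symm
    have := card_le_card (show insert ({b, c} : Finset α) A ⊆ A ∪ Bs from
      insert_subset (mem_union_right _ hnew.1) subset_union_left)
    rw [card_insert_of_notMem hnew.2, hAc] at this
    omega
  refine ⟨Equiv.ofBijective π ((Fintype.bijective_iff_injective_and_card π).mpr ⟨hπinj, hcard⟩),
    fun a b hab => ?_⟩
  have h1 := hπ a b hab.symm
  have h2 := hπ b a hab
  rw [pair_comm] at h2
  refine (eq_of_subset_of_card_le (by simp [insert_subset_iff, h1, h2]) ?_).symm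
  rw [hf _ (card_pair hab)]
  show 2 ≤ ({π a, π b} : Finset β).card
  rw [card_pair (hπinj.ne hab)]

end CfsgLib.Steiner
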