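/-
A Golay code split along one of its octads.
-/
import Cfsg.Agent.Steiner.Code

set_option autoImplicit false

namespace CfsgLib.Steiner

open Finset

variable {α : Type*} [Fintype α] [DecidableEq α]

/-- Points inside. -/
abbrev Inn (O : Finset α) := {x // x ∈ O}
/-- Points outside. -/
abbrev Out (O : Finset α) := {x // x ∉ O}

omit [Fintype α] [DecidableEq α] in
/-- Restriction to the inside. -/
def resI (O : Finset α) : (α → ZMod 2) →ₗ[ZMod 2] (Inn O → ZMod 2) :=
  LinearMap.funLeft (ZMod 2) (ZMod 2) Subtype.val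

omit [Fintype α] [DecidableEq α] in
/-- Restriction to the outside. -/
def resX (O : Finset α) : (α → ZMod 2) →ₗ[ZMod 2] (Out O → ZMod 2) :=
  LinearMap.funLeft (ZMod 2) (ZMod 2) Subtype.val

omit [DecidableEq α] [Fintype α] in
theorem resI_apply (O : Finset α) (v : α → ZMod 2) (x : Inn O) : resI O v x = v x := rfl

omit [DecidableEq α] [Fintype α] in
theorem resX_apply (O : Finset α) (v : α → ZMod 2) (x : Out O) : resX O v x = v x := rfl

theorem wgt_split (O : Finset α) (v : α → ZMod 2) : wgt v = wgt (resI O v) + wgt (resX O v) := by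
  have h1 : (Cfsg.support₂ (resI O v)).map (Function.Embedding.subtype _) = Cfsg.support₂ v ∩ O := by
    ext a
    rw [mem_map, mem_inter]
    constructor
    · rintro ⟨x, hx, rfl⟩
      exact ⟨mem_filter.mpr ⟨mem_univ _, (mem_filter.mp hx).2⟩, x.2⟩
    · rintro ⟨ha, ha'⟩
      exact ⟨⟨a, ha'⟩, mem_filter.mpr ⟨mem_univ _, (mem_filter.mp ha).2⟩, rfl⟩
  have h2 : (Cfsg.support₂ (resX O v)).map (Function.Embedding.subtype _) = Cfsg.support₂ v \ O := by
    ext a
    rw [mem_map, mem_sdiff]
    constructor
    · rintro ⟨x, hx, rfl⟩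
      exact ⟨mem_filter.mpr ⟨mem_univ _, (mem_filter.mp hx).2⟩, x.2⟩
    · rintro ⟨ha, ha'⟩
      exact ⟨⟨a, ha'⟩, mem_filter.mpr ⟨mem_univ _, (mem_filter.mp ha).2⟩, rfl⟩
  rw [wgt, wgt, wgt, ← card_map (Function.Embedding.subtype (fun x => x ∈ O)), h1,
    ← card_map (Function.Embedding.subtype (fun x => x ∉ O)), h2, add_comm, card_sdiff_add_card_inter]

theorem dot_split (O : Finset α) (v w : α → ZMod 2) :
    v ⬝ᵥ w = resI O v ⬝ᵥ resI O w + resX O v ⬝ᵥ resX O w := by
  simp only [dotProduct, resI_apply, resX_apply]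
  convert (Fintype.sum_subtype_add_sum_subtype (fun x => x ∈ O) (fun x => v x * w x)).symm

omit [DecidableEq α] [Fintype α] in
theorem ext_split (O : Finset α) {v w : α → ZMod 2} (h1 : resI O v = resI O w)
    (h2 : resX O v = resX O w) : v = w := by
  funext a
  by_cases ha : a ∈ O
  · exact congrFun h1 ⟨a, ha⟩
  · exact congrFun h2 ⟨a, ha⟩

omit [Fintype α] in
theorem resI_ind (O : Finset α) : resI O (ind O) = 1 := funext fun x => by simp [resI_apply, ind, x.2]

omit [Fintype α] in
theorem resX_ind (O : Finset α) : resX O (ind O) = 0 := funext fun x => by simp [resX_apply, ind, x.2]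

theorem card_out {O : Finset α} : Fintype.card (Out O) = Fintype.card α - O.card := by
  rw [Fintype.card_subtype_compl, Fintype.card_coe]

variable (C : Submodule (ZMod 2) (α → ZMod 2)) (O : Finset α)

/-- The inside projection of the code. -/
def projI : ↥C →ₗ[ZMod 2] (Inn O → ZMod 2) := (resI O).comp C.subtype

/-- The outside projection of the code. -/
def projX : ↥C →ₗ[ZMod 2] (Out O → ZMod 2) := (resX O).comp C.subtype

/-- The words vanishing inside, seen outside. -/
def hyper : Submodule (ZMod 2) (Out O → ZMod 2) := (LinearMap.ker (projI C O)).map (projX C O)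

theorem mem_hyper {w : Out O → ZMod 2} :
    w ∈ hyper C O ↔ ∃ c ∈ C, resI O c = 0 ∧ resX O c = w := by
  constructor
  · rintro ⟨c, hc, rfl⟩
    exact ⟨(c : α → ZMod 2), c.2, hc, rfl⟩
  · rintro ⟨c, hc, h0, rfl⟩
    exact ⟨⟨c, hc⟩, h0, rfl⟩

variable {C O}
variable (hC : IsGolay C) (hO : O.card = 8) (hOC : ind O ∈ C)
include hC hO hOC

theorem card_out16 : Fintype.card (Out O) = 16 := by rw [card_out, hC.len, hO]

theorem exists_pair_inside {a b : Inn O} (hab : a ≠ b) :
    ∃ c ∈ C, resI O c = ind {a, b} := by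
  -- two four-sets differing by exchanging `a` and `b`
  obtain ⟨x, hx⟩ : ∃ x : α, x ∉ O := by
    by_contra h
    push Not at h
    have := hC.len
    rw [← card_univ, ← eq_univ_iff_forall.mpr h, hO] at this
    omega
  have key : ∀ F : Finset α, F ⊆ O → F.card = 4 → ∃ c ∈ C, ∀ y : Inn O, c y = ind F y := by
    intro F hF hF4
    obtain ⟨o, ⟨⟨ho8, hoC⟩, hsub⟩, -⟩ := hC.steiner.2 (insert x F)
      (by rw [card_insert_of_notMem (fun h => hx (hF h)), hF4])
    refine ⟨ind o, hoC, fun y => ?_⟩
    have hint : o ∩ O = F := by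
      refine (eq_of_subset_of_card_le (subset_inter ((subset_insert x F).trans hsub) hF) ?_).symm
      have h1 := card_symmDiff_inter o O
      have h2 : (o ∩ O).card ≤ o.card := card_le_card inter_subset_left
      obtain ⟨d, hd⟩ := hC.doubly _ (C.add_mem hoC hOC)
      have h4 := hC.no4 _ (C.add_mem hoC hOC)
      rw [wgt, ← ind_symmDiff, support_ind] at hd h4
      have h3 : (o ∩ O).card ≠ 8 := by
        intro h
        have := eq_of_subset_of_card_le (inter_subset_left (s₁ := o) (s₂ := O)) (by omega)
        exact hx (mem_inter.mp (this.symm ▸ hsub (mem_insert_self x F) : x ∈ o ∩ O)).2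
      omega
    have : ((y : α) ∈ o) ↔ (y : α) ∈ F := by
      rw [← hint, mem_inter]; exact ⟨fun h => ⟨h, y.2⟩, fun h => h.1⟩
    simp only [ind, this]
  have hab' : (a : α) ≠ b := fun h => hab (Subtype.ext h)
  obtain ⟨R, hR, hR3⟩ := exists_subset_card_eq (s := (O.erase (a : α)).erase b) (n := 3) (by
    rw [card_erase_of_mem (mem_erase.mpr ⟨hab'.symm, b.2⟩), card_erase_of_mem a.2, hO]
    norm_num)
  have hRO : R ⊆ O := hR.trans ((erase_subset _ _).trans (erase_subset _ _))
  have haR : (a : α) ∉ R := fun h => (mem_erase.mp (mem_erase.mp (hR h)).2).1 rfl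
  have hbR : (b : α) ∉ R := fun h => (mem_erase.mp (hR h)).1 rfl
  obtain ⟨c1, hc1, h1⟩ := key (insert (a : α) R) (insert_subset a.2 hRO) (by rw [card_insert_of_notMem haR, hR3])
  obtain ⟨c2, hc2, h2⟩ := key (insert (b : α) R) (insert_subset b.2 hRO) (by rw [card_insert_of_notMem hbR, hR3])
  refine ⟨c1 + c2, C.add_mem hc1 hc2, funext fun y => ?_⟩
  rw [resI_apply, Pi.add_apply, h1, h2]
  simp only [ind, mem_insert, mem_singleton, ← Subtype.ext_iff]
  by_cases hya : y = a
  · subst hya
    simp [hab, haR]
  · by_cases hyb : y = b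
    · subst hyb
      simp [hya, hbR]
    · by_cases hyR : (y : α) ∈ R <;> simp [hya, hyb, hyR]
      decide

omit hO hOC in
theorem even_inside {c : α → ZMod 2} (hc : c ∈ C) (h : ind O ∈ C) : Even (wgt (resI O c)) := by
  have h0 := hC.orth hc h
  rw [dot_split O, resX_ind, dotProduct_zero, add_zero, resI_ind, dot_eq_zero_iff, support_one, inter_univ] at h0
  exact h0

theorem pairs_span {s : Inn O → ZMod 2} (hs : Even (wgt s)) :
    s ∈ Submodule.span (ZMod 2) {t | ∃ a b : Inn O, a ≠ b ∧ t = ind {a, b}} := by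
  suffices h : ∀ n, ∀ t : Finset (Inn O), t.card = 2 * n →
      ind t ∈ Submodule.span (ZMod 2) {t | ∃ a b : Inn O, a ≠ b ∧ t = ind {a, b}} by
    obtain ⟨n, hn⟩ := hs
    rw [← ind_support s]
    exact h n _ (by rw [wgt] at hn; omega)
  intro n
  induction n with
  | zero => intro t ht; rw [show t = ∅ from card_eq_zero.mp ht]; exact (show ind (∅ : Finset (Inn O)) = 0 from
      funext fun y => by simp [ind]) ▸ Submodule.zero_mem _
  | succ n ih =>
    intro t ht
    obtain ⟨a, ha, b, hb, hab⟩ := one_lt_card.mp (show 1 < t.card by omega)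
    have hsub : ({a, b} : Finset (Inn O)) ⊆ t := by simp [insert_subset_iff, ha, hb]
    have he : t = symmDiff ({a, b} : Finset (Inn O)) (t \ {a, b}) := by
      rw [symmDiff_def]
      ext z
      have := @hsub z
      simp only [sup_eq_union, mem_union, mem_sdiff]
      tauto
    rw [he, ind_symmDiff]
    exact Submodule.add_mem _ (Submodule.subset_span ⟨a, b, hab, rfl⟩)
      (ih _ (by rw [card_sdiff_of_subset hsub, card_pair hab]; omega))

theorem range_projI : Module.finrank (ZMod 2) (LinearMap.range (projI C O)) = 7 := by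
  set one8 : Inn O → ZMod 2 := 1
  have heq : LinearMap.range (projI C O) = perp (Submodule.span (ZMod 2) {one8}) := by
    apply le_antisymm
    · rintro _ ⟨c, rfl⟩
      rw [mem_perp]
      intro d hd
      obtain ⟨r, rfl⟩ := Submodule.mem_span_singleton.mp hd
      have h := even_inside hC c.2 hOC
      rw [dotProduct_smul, (dot_eq_zero_iff _ _).mpr (by rw [support_one, inter_univ]; exact h), smul_zero]
    · intro s hs
      have h := mem_perp.mp hs one8 (Submodule.mem_span_singleton_self _)
      rw [dot_eq_zero_iff, support_one, inter_univ] at h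
      refine (Submodule.span_le.mpr ?_) (pairs_span hC hO hOC h)
      rintro _ ⟨a, b, hab, rfl⟩
      obtain ⟨c, hc, he⟩ := exists_pair_inside hC hO hOC hab
      exact ⟨⟨c, hc⟩, he⟩
  have h := finrank_perp (Submodule.span (ZMod 2) {one8})
  rw [finrank_span_singleton (fun h : one8 = 0 => by
    obtain ⟨y, hy⟩ := card_pos.mp (show 0 < O.card by omega)
    exact one_ne_zero (congrFun h ⟨y, hy⟩)), Fintype.card_coe, hO, ← heq] at h
  omega

theorem ker_projX {c : α → ZMod 2} (hc : c ∈ C) (h : resX O c = 0) : c = 0 ∨ c = ind O := by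
  have hw := wgt_split O c
  rw [h, (wgt_eq_zero (v := (0 : Out O → ZMod 2))).mpr rfl, add_zero] at hw
  have hle : wgt (resI O c) ≤ 8 := by
    rw [← hO, ← Fintype.card_coe O]; exact card_le_univ _
  by_cases h8 : wgt c < 8
  · exact Or.inl (hC.eq_zero_of_small hc h8)
  · right
    refine ext_split O ?_ (h.trans (resX_ind O).symm)
    rw [resI_ind, ← ind_support (resI O c), eq_univ_of_card (Cfsg.support₂ (resI O c))
      (by rw [Fintype.card_coe, hO]; exact le_antisymm hle (by show 8 ≤ wgt (resI O c); omega))]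
    funext y; simp [ind]

theorem finrank_hyper : Module.finrank (ZMod 2) (hyper C O) = 5 := by
  have h1 := (projI C O).finrank_range_add_finrank_ker
  rw [range_projI hC hO hOC, hC.dim] at h1
  have h2 : Function.Injective ((projX C O).domRestrict (LinearMap.ker (projI C O))) := by
    rw [injective_iff_map_eq_zero]
    rintro ⟨c, hc⟩ h
    rcases ker_projX hC hO hOC c.2 h with h' | h'
    · exact Subtype.ext (Subtype.ext h')
    · exfalso
      have hI : resI O (c : α → ZMod 2) = 0 := hc
      rw [h', resI_ind] at hI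
      obtain ⟨y, hy⟩ := card_pos.mp (show 0 < O.card by omega)
      exact one_ne_zero (congrFun hI ⟨y, hy⟩)
  have h3 : hyper C O = LinearMap.range ((projX C O).domRestrict (LinearMap.ker (projI C O))) := by
    rw [LinearMap.range_domRestrict]; rfl
  rw [h3, LinearMap.finrank_range_of_inj h2]
  omega

theorem range_projX : LinearMap.range (projX C O) = perp (hyper C O) := by
  refine Submodule.eq_of_le_of_finrank_eq ?_ ?_
  · rintro _ ⟨c, rfl⟩
    rw [mem_perp]
    intro w hw
    obtain ⟨d, hd, hd0, rfl⟩ := (mem_hyper C O).mp hw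
    have h := hC.orth c.2 hd
    rwa [dot_split O, hd0, dotProduct_zero, zero_add] at h
  · have h := finrank_perp (hyper C O)
    rw [finrank_hyper hC hO hOC, card_out16 hC hO hOC] at h
    have h1 := (projX C O).finrank_range_add_finrank_ker
    rw [hC.dim] at h1
    have h2 : LinearMap.ker (projX C O) = Submodule.span (ZMod 2) {(⟨ind O, hOC⟩ : C)} := by
      apply le_antisymm
      · intro c hc
        rcases ker_projX hC hO hOC c.2 hc with h' | h'
        · rw [show c = 0 from Subtype.ext h']; exact Submodule.zero_mem _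
        · rw [show c = ⟨ind O, hOC⟩ from Subtype.ext h']; exact Submodule.mem_span_singleton_self _
      · rw [Submodule.span_singleton_le_iff_mem]; exact resX_ind O
    rw [h2, finrank_span_singleton (fun h0 : (⟨ind O, hOC⟩ : C) = 0 => by
      have := congrArg (fun z : C => Cfsg.support₂ (z : α → ZMod 2)) h0
      simp only [support_ind, ZeroMemClass.coe_zero, support_zero] at this
      rw [this] at hO; simp at hO)] at h1
    omega

theorem one_mem_hyper : (1 : Out O → ZMod 2) ∈ hyper C O :=
  (mem_hyper C O).mpr ⟨1 + ind O, C.add_mem hC.one_mem hOC,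
    by rw [map_add, resI_ind]; funext y; simp [resI_apply]; decide,
    by rw [map_add, resX_ind]; funext y; simp [resX_apply]⟩

theorem separated {x y : Out O} (h : ∀ w ∈ hyper C O, w x = w y) : x = y := by
  by_contra hne
  have hmem : ind {x, y} ∈ perp (hyper C O) := mem_perp.mpr fun w hw => by
    simp only [dotProduct, ind, mem_insert, mem_singleton, ite_mul, one_mul, zero_mul]
    rw [← sum_filter, show (univ.filter fun z => z = x ∨ z = y) = {x, y} by ext; simp,
      sum_pair hne, h w hw]
    exact CharTwo.add_self_eq_zero _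
  rw [← range_projX hC hO hOC] at hmem
  obtain ⟨c, hc⟩ := hmem
  have hc' : resX O (c : α → ZMod 2) = ind {x, y} := hc
  have hw := wgt_split O (c : α → ZMod 2)
  have hx2 : wgt (ind ({x, y} : Finset (Out O))) = 2 := by rw [wgt, support_ind, card_pair hne]
  rw [hc', hx2] at hw
  have hd : (c : α → ZMod 2) + ind O ∈ C := C.add_mem c.2 hOC
  have hw2 := wgt_split O ((c : α → ZMod 2) + ind O)
  rw [map_add, map_add, resI_ind, resX_ind, add_zero, hc', hx2] at hw2
  have hI := wgt_add (resI O (c : α → ZMod 2)) 1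
  rw [support_one, inter_univ] at hI
  have h8 : wgt (1 : Inn O → ZMod 2) = 8 := by rw [wgt, support_one, card_univ, Fintype.card_coe, hO]
  rw [h8] at hI
  have hle : wgt (resI O (c : α → ZMod 2)) ≤ 8 := by rw [← hO, ← Fintype.card_coe O]; exact card_le_univ _
  obtain ⟨p, hp⟩ := hC.doubly _ c.2
  have := hC.no4 _ c.2
  obtain ⟨q, hq⟩ := hC.doubly _ hd
  have := hC.no4 _ hd
  simp only [wgt] at *
  omega

end CfsgLib.Steiner
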