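/-
Uniqueness of the length 24 code.
-/
import Cfsg.Agent.Steiner.Split
import Cfsg.Agent.Steiner.Pairs

set_option autoImplicit false

namespace CfsgLib.Steiner

open Finset

/-- A linear equivalence carrying one non-zero vector to another. -/
theorem exists_equiv_map {V W : Type*} [AddCommGroup V] [Module (ZMod 2) V] [AddCommGroup W]
    [Module (ZMod 2) W] [Finite V] [Finite W]
    (h : Module.finrank (ZMod 2) V = Module.finrank (ZMod 2) W) {v : V} {w : W} (hv : v ≠ 0) (hw : w ≠ 0) :
    ∃ L : V ≃ₗ[ZMod 2] W, L v = w := by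
  obtain ⟨P, hP⟩ := Submodule.exists_isCompl (Submodule.span (ZMod 2) {v})
  obtain ⟨Q, hQ⟩ := Submodule.exists_isCompl (Submodule.span (ZMod 2) {w})
  have h1 := Submodule.finrank_add_eq_of_isCompl hP
  have h2 := Submodule.finrank_add_eq_of_isCompl hQ
  rw [finrank_span_singleton hv] at h1
  rw [finrank_span_singleton hw] at h2
  let e2 : P ≃ₗ[ZMod 2] Q := LinearEquiv.ofFinrankEq _ _ (by omega)
  let e1 : Submodule.span (ZMod 2) {v} ≃ₗ[ZMod 2] Submodule.span (ZMod 2) {w} :=
    (LinearEquiv.toSpanNonzeroSingleton (ZMod 2) V v hv).symm.trans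
      (LinearEquiv.toSpanNonzeroSingleton (ZMod 2) W w hw)
  refine ⟨(Submodule.prodEquivOfIsCompl _ _ hP).symm.trans
    ((e1.prodCongr e2).trans (Submodule.prodEquivOfIsCompl _ _ hQ)), ?_⟩
  have hv' : (Submodule.prodEquivOfIsCompl _ _ hP).symm v =
      ((⟨v, Submodule.mem_span_singleton_self v⟩ : Submodule.span (ZMod 2) {v}), 0) :=
    Submodule.prodEquivOfIsCompl_symm_apply_left _ _ hP ⟨v, Submodule.mem_span_singleton_self v⟩
  have he : e1 ⟨v, Submodule.mem_span_singleton_self v⟩ = ⟨w, Submodule.mem_span_singleton_self w⟩ := by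
    have h1 : (LinearEquiv.toSpanNonzeroSingleton (ZMod 2) V v hv).symm ⟨v, Submodule.mem_span_singleton_self v⟩ = 1 := by
      rw [LinearEquiv.symm_apply_eq]; exact Subtype.ext (one_smul _ v).symm
    rw [LinearEquiv.trans_apply, h1]
    exact Subtype.ext (one_smul _ w)
  rw [LinearEquiv.trans_apply, hv', LinearEquiv.trans_apply, LinearEquiv.prodCongr_apply, he, map_zero,
    Submodule.coe_prodEquivOfIsCompl']
  simp

/-- Points are recovered from a five-dimensional separating space with the all-one word. -/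
theorem exists_point_bij {X Y : Type*} [Fintype X] [DecidableEq X] [Fintype Y] [DecidableEq Y]
    (hX : Fintype.card X = 16) (hY : Fintype.card Y = 16)
    (W : Submodule (ZMod 2) (X → ZMod 2)) (W' : Submodule (ZMod 2) (Y → ZMod 2))
    (hW : Module.finrank (ZMod 2) W = 5) (hW' : Module.finrank (ZMod 2) W' = 5)
    (h1 : (1 : X → ZMod 2) ∈ W) (h1' : (1 : Y → ZMod 2) ∈ W')
    (hsep : ∀ x y, (∀ w ∈ W, w x = w y) → x = y) (hsep' : ∀ x y, (∀ w ∈ W', w x = w y) → x = y) :
    ∃ σ : X ≃ Y, ∀ v : Y → ZMod 2, v ∈ W' ↔ (v ∘ σ) ∈ W := by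
  classical
  obtain ⟨x0⟩ : Nonempty X := Fintype.card_pos_iff.mp (by omega)
  obtain ⟨y0⟩ : Nonempty Y := Fintype.card_pos_iff.mp (by omega)
  have hone : (⟨1, h1⟩ : W) ≠ 0 := fun h => one_ne_zero (congrFun (congrArg Subtype.val h) x0)
  have hone' : (⟨1, h1'⟩ : W') ≠ 0 := fun h => one_ne_zero (congrFun (congrArg Subtype.val h) y0)
  obtain ⟨L, hL⟩ := exists_equiv_map (hW.trans hW'.symm) hone hone'
  let T := {f : Module.Dual (ZMod 2) W // f ⟨1, h1⟩ = 1}
  haveI : Finite (Module.Dual (ZMod 2) W) := Module.finite_of_finite (ZMod 2)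
  haveI := Fintype.ofFinite (Module.Dual (ZMod 2) W)
  haveI : Fintype T := Fintype.ofFinite T
  let a : X → T := fun x => ⟨(LinearMap.proj x).comp W.subtype, rfl⟩
  let b : Y → T := fun y => ⟨((LinearMap.proj y).comp W'.subtype).comp L.toLinearMap, by
    show ((L ⟨1, h1⟩ : W') : Y → ZMod 2) y = 1
    rw [hL]; rfl⟩
  have ha : Function.Injective a := fun x y h =>
    hsep x y fun w hw => LinearMap.congr_fun (congrArg Subtype.val h) ⟨w, hw⟩
  have hb : Function.Injective b := fun x y h => hsep' x y fun w hw => by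
    have := LinearMap.congr_fun (congrArg Subtype.val h) (L.symm ⟨w, hw⟩)
    simpa [b] using this
  have hT : Fintype.card T ≤ 16 := by
    have hc : Fintype.card (Module.Dual (ZMod 2) W) = 32 := by
      rw [← Nat.card_eq_fintype_card, natCard_eq_two_pow, Subspace.dual_finrank_eq, hW]; rfl
    let f : T ⊕ T → Module.Dual (ZMod 2) W := Sum.elim Subtype.val fun t => t.1 + (a x0).1
    have hf : Function.Injective f := by
      rintro (s | s) (t | t) h
      · exact congrArg Sum.inl (Subtype.ext h)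
      · exfalso
        have h2 := LinearMap.congr_fun h ⟨1, h1⟩
        simp only [f, Sum.elim_inl, Sum.elim_inr, LinearMap.add_apply, s.2, t.2, (a x0).2] at h2
        exact absurd h2 (by decide)
      · exfalso
        have h2 := LinearMap.congr_fun h ⟨1, h1⟩
        simp only [f, Sum.elim_inl, Sum.elim_inr, LinearMap.add_apply, s.2, t.2, (a x0).2] at h2
        exact absurd h2 (by decide)
      · exact congrArg Sum.inr (Subtype.ext (add_right_cancel h))
    have := Fintype.card_le_of_injective f hf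
    rw [Fintype.card_sum, hc] at this
    omega
  have haT := Fintype.card_le_of_injective a ha
  have hab : Function.Bijective a := (Fintype.bijective_iff_injective_and_card a).mpr ⟨ha, by omega⟩
  have hbb : Function.Bijective b := (Fintype.bijective_iff_injective_and_card b).mpr ⟨hb, by
    have := Fintype.card_le_of_injective b hb; omega⟩
  let σ : X ≃ Y := (Equiv.ofBijective a hab).trans (Equiv.ofBijective b hbb).symm
  have hσ : ∀ (w : W) (x : X), (L w : Y → ZMod 2) (σ x) = (w : X → ZMod 2) x := fun w x => by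
    have h : b (σ x) = a x := (Equiv.ofBijective b hbb).apply_symm_apply _
    exact LinearMap.congr_fun (congrArg Subtype.val h) w
  refine ⟨σ, fun v => ⟨fun hv => ?_, fun hv => ?_⟩⟩
  · have : v ∘ σ = (L.symm ⟨v, hv⟩ : W) := funext fun x => by
      rw [← hσ, LinearEquiv.apply_symm_apply]; rfl
    rw [this]; exact Subtype.prop _
  · have : v = (L ⟨v ∘ σ, hv⟩ : W') := funext fun y => by
      obtain ⟨x, rfl⟩ := σ.surjective y
      rw [hσ]; rfl
    rw [this]; exact Subtype.prop _

section

variable {α β : Type*} [Fintype α] [DecidableEq α] [Fintype β] [DecidableEq β]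
variable {C : Submodule (ZMod 2) (α → ZMod 2)} {D : Submodule (ZMod 2) (β → ZMod 2)}
variable {O : Finset α} {P : Finset β}

/-- Compatible words of the two codes. -/
def Compat (C : Submodule (ZMod 2) (α → ZMod 2)) (D : Submodule (ZMod 2) (β → ZMod 2))
    (σ : Out O ≃ Out P) (c : α → ZMod 2) (d : β → ZMod 2) : Prop :=
  c ∈ C ∧ d ∈ D ∧ resX P d ∘ σ = resX O c

omit [DecidableEq α] [DecidableEq β] in
theorem wgt_comp {X Y : Type*} [Fintype X] [Fintype Y] (σ : X ≃ Y) (v : Y → ZMod 2) : wgt (v ∘ σ) = wgt v := by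
  refine card_equiv σ fun x => ?_
  simp [Cfsg.support₂]

variable (hC : IsGolay C) (hD : IsGolay D) (hO : O.card = 8) (hOC : ind O ∈ C)
  (hP : P.card = 8) (hPD : ind P ∈ D) (σ : Out O ≃ Out P)
  (hσ : ∀ v : Out P → ZMod 2, v ∈ hyper D P ↔ (v ∘ σ) ∈ hyper C O)

include hC hD hO hOC hP hPD hσ

theorem exists_compat {c : α → ZMod 2} (hc : c ∈ C) : ∃ d, Compat C D σ c d := by
  have h : resX O c ∈ perp (hyper C O) := by
    rw [← range_projX hC hO hOC]; exact ⟨⟨c, hc⟩, rfl⟩
  have h' : resX O c ∘ σ.symm ∈ perp (hyper D P) := mem_perp.mpr fun w hw => by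
    have := mem_perp.mp h (w ∘ σ) ((hσ w).mp hw)
    rw [← this]
    simp only [dotProduct, Function.comp_apply]
    exact (Fintype.sum_equiv σ _ _ fun x => by simp).symm
  rw [← range_projX hD hP hPD] at h'
  obtain ⟨d, hd⟩ := h'
  refine ⟨d, hc, d.2, ?_⟩
  have hd' : resX P (d : β → ZMod 2) = resX O c ∘ σ.symm := hd
  rw [hd']; funext x; simp

omit hC hO hOC hD hP hPD hσ in
theorem Compat.add {c c' : α → ZMod 2} {d d' : β → ZMod 2} (h : Compat C D σ c d)
    (h' : Compat C D σ c' d') : Compat C D σ (c + c') (d + d') :=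
  ⟨C.add_mem h.1 h'.1, D.add_mem h.2.1 h'.2.1, funext fun x => by
    have e1 := congrFun h.2.2 x
    have e2 := congrFun h'.2.2 x
    simp only [Function.comp_apply, map_add, Pi.add_apply] at e1 e2 ⊢
    rw [e1, e2]⟩

omit hO hOC hP hPD hσ in
theorem Compat.parity {c : α → ZMod 2} {d : β → ZMod 2} (h : Compat C D σ c d) :
    wgt (resI O c) % 4 = wgt (resI P d) % 4 := by
  obtain ⟨a, ha⟩ := hC.doubly c h.1
  obtain ⟨b, hb⟩ := hD.doubly d h.2.1
  rw [wgt_split O] at ha
  rw [wgt_split P] at hb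
  have := wgt_comp σ (resX P d)
  rw [h.2.2] at this
  omega

/-- A compatible partner of a word supported outside is supported outside, up to the octad. -/
theorem Compat.zero_inside {c : α → ZMod 2} {d : β → ZMod 2} (h : Compat C D σ c d)
    (hc : resI O c = 0) : resI P d = 0 ∨ resI P d = 1 := by
  have hmem : resX P d ∈ hyper D P :=
    (hσ _).mpr (h.2.2 ▸ (mem_hyper C O).mpr ⟨c, h.1, hc, rfl⟩)
  obtain ⟨d', hd', hd0, hdX⟩ := (mem_hyper D P).mp hmem
  rcases ker_projX hD hP hPD (D.sub_mem h.2.1 hd') (by rw [map_sub, hdX, sub_self]) with h' | h'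
  · left; rw [sub_eq_zero.mp h', hd0]
  · right
    have := congrArg (resI P) h'
    rw [map_sub, hd0, sub_zero, resI_ind] at this
    exact this

/-- The partner of an inside pair may be taken to be an inside pair. -/
theorem exists_pair_compat {a b : Inn O} (hab : a ≠ b) :
    ∃ c d, Compat C D σ c d ∧ resI O c = ind {a, b} ∧ wgt (resI P d) = 2 := by
  obtain ⟨c, hc, hcI⟩ := exists_pair_inside hC hO hOC hab
  obtain ⟨d, hd⟩ := exists_compat hC hD hO hOC hP hPD σ hσ hc
  have hpar := Compat.parity hC hD σ hd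
  rw [hcI, show wgt (ind ({a, b} : Finset (Inn O))) = 2 by rw [wgt, support_ind, card_pair hab]] at hpar
  have h8 : wgt (1 : Inn P → ZMod 2) = 8 := by rw [wgt, support_one, card_univ, Fintype.card_coe, hP]
  have hle : wgt (resI P d) ≤ 8 := by rw [← hP, ← Fintype.card_coe P]; exact card_le_univ _
  by_cases h2 : wgt (resI P d) = 2
  · exact ⟨c, d, hd, hcI, h2⟩
  · refine ⟨c, d + ind P, ⟨hc, D.add_mem hd.2.1 hPD, ?_⟩, hcI, ?_⟩
    · rw [map_add, resX_ind, add_zero]; exact hd.2.2
    · rw [map_add, resI_ind]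
      have := wgt_add (resI P d) 1
      rw [support_one, inter_univ, h8] at this
      simp only [wgt] at *
      omega

theorem compat_pair_unique {c c' : α → ZMod 2} {d d' : β → ZMod 2} (h : Compat C D σ c d)
    (h' : Compat C D σ c' d') (he : resI O c = resI O c') (h2 : wgt (resI P d) = 2)
    (h2' : wgt (resI P d') = 2) : resI P d = resI P d' := by
  have hs := h.add σ h'
  have h0 : resI O (c + c') = 0 := by
    rw [map_add, he]; exact funext fun y => CharTwo.add_self_eq_zero _
  rcases Compat.zero_inside hC hD hO hOC hP hPD σ hσ hs h0 with h0' | h1'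
  · rw [map_add, add_eq_zero_iff_eq_neg] at h0'
    rw [h0']; funext y; exact CharTwo.neg_eq _
  · exfalso
    have hw := wgt_add (resI P d) (resI P d')
    rw [← map_add, h1'] at hw
    have h8 : wgt (1 : Inn P → ZMod 2) = 8 := by rw [wgt, support_one, card_univ, Fintype.card_coe, hP]
    omega

theorem code_iso : ∃ e : α ≃ β, ∀ v : β → ZMod 2, v ∈ D ↔ (v ∘ e) ∈ C := by
  classical
  have hσ' : ∀ v : Out O → ZMod 2, v ∈ hyper C O ↔ (v ∘ σ.symm) ∈ hyper D P := fun v => by
    rw [hσ, show (v ∘ σ.symm) ∘ σ = v from funext fun x => by simp]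
  -- the map on pairs
  have hex : ∀ s : Finset (Inn O), s.card = 2 → ∃ t : Finset (Inn P), t.card = 2 ∧
      ∃ c d, Compat C D σ c d ∧ resI O c = ind s ∧ resI P d = ind t := by
    intro s hs
    obtain ⟨a, b, hab, rfl⟩ := card_eq_two.mp hs
    obtain ⟨c, d, h, hc, hd⟩ := exists_pair_compat hC hD hO hOC hP hPD σ hσ hab
    exact ⟨_, hd, c, d, h, hc, (ind_support _).symm⟩
  choose! f hf2 hfw using hex
  have hsymm : ∀ {c : α → ZMod 2} {d : β → ZMod 2}, Compat C D σ c d → Compat D C σ.symm d c :=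
    fun {c d} h => ⟨h.2.1, h.1, by rw [← h.2.2]; funext x; simp⟩
  obtain ⟨π, hπ⟩ := exists_bij_of_pairs f (by rw [Fintype.card_coe, hO]; norm_num)
    (by rw [Fintype.card_coe, Fintype.card_coe, hO, hP]) hf2
    (by
      intro s t hs ht he
      obtain ⟨c, d, h, hc, hd⟩ := hfw s hs
      obtain ⟨c', d', h', hc', hd'⟩ := hfw t ht
      have := compat_pair_unique hD hC hP hPD hO hOC σ.symm hσ' (hsymm h) (hsymm h')
        (by rw [hd, hd', he]) (by rw [hc, wgt, support_ind, hs]) (by rw [hc', wgt, support_ind, ht])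
      rw [hc, hc'] at this
      have := congrArg Cfsg.support₂ this
      rwa [support_ind, support_ind] at this)
    (by
      intro s t hs ht h1
      obtain ⟨c, d, h, hc, hd⟩ := hfw s hs
      obtain ⟨c', d', h', hc', hd'⟩ := hfw t ht
      have hpar := Compat.parity hC hD σ (h.add σ h')
      rw [map_add, map_add, hc, hc', hd, hd', ← ind_symmDiff, ← ind_symmDiff] at hpar
      simp only [wgt, support_ind] at hpar
      have e1 := card_symmDiff_inter s t
      have e2 := card_symmDiff_inter (f s) (f t)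
      have := hf2 s hs
      have := hf2 t ht
      have := card_le_card (inter_subset_left (s₁ := f s) (s₂ := f t))
      exact card_pos.mp (by omega))
  let e : α ≃ β := (Equiv.sumCompl (fun x => x ∈ O)).symm.trans
    ((π.sumCongr σ).trans (Equiv.sumCompl (fun y => y ∈ P)))
  have heI : ∀ x : Inn O, e x = (π x : β) := fun x => by
    simp only [e, Equiv.trans_apply]
    rw [Equiv.sumCompl_symm_apply_of_pos x.2]; rfl
  have heX : ∀ x : Out O, e x = (σ x : β) := fun x => by
    simp only [e, Equiv.trans_apply]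
    rw [Equiv.sumCompl_symm_apply_of_neg x.2]; rfl
  let M : Submodule (ZMod 2) (α → ZMod 2) := C ⊓ D.map (LinearMap.funLeft (ZMod 2) (ZMod 2) e)
  have hmem : ∀ {c : α → ZMod 2} {d : β → ZMod 2}, Compat C D σ c d → resI P d ∘ π = resI O c → c ∈ M := by
    intro c d h hI
    refine ⟨h.1, d, h.2.1, funext fun a => ?_⟩
    show d (e a) = c a
    by_cases ha : a ∈ O
    · have := congrFun hI ⟨a, ha⟩
      rw [heI ⟨a, ha⟩]; exact this
    · have := congrFun h.2.2 ⟨a, ha⟩
      rw [heX ⟨a, ha⟩]; exact this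
  have hall : C ≤ M := by
    intro c hc
    have hIO : ind O ∈ M := hmem (c := ind O) (d := ind P) ⟨hOC, hPD, by rw [resX_ind, resX_ind]; rfl⟩
      (by rw [resI_ind, resI_ind]; rfl)
    have hzero : ∀ m ∈ C, resI O m = 0 → m ∈ M := by
      intro m hm hm0
      have hX : resX O m ∘ σ.symm ∈ hyper D P := (hσ' _).mp ((mem_hyper C O).mpr ⟨m, hm, hm0, rfl⟩)
      obtain ⟨d, hd, hd0, hdX⟩ := (mem_hyper D P).mp hX
      exact hmem (c := m) (d := d) ⟨hm, hd, by rw [hdX]; funext x; simp⟩ (by rw [hd0, hm0]; rfl)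
    have hspan : ∀ s, s ∈ Submodule.span (ZMod 2) {t | ∃ a b : Inn O, a ≠ b ∧ t = ind {a, b}} →
        ∃ m ∈ M, resI O m = s := by
      intro s hs
      have hle : Submodule.span (ZMod 2) {t | ∃ a b : Inn O, a ≠ b ∧ t = ind {a, b}} ≤ M.map (resI O) := by
        rw [Submodule.span_le]
        rintro _ ⟨a, b, hab, rfl⟩
        obtain ⟨c', d', h', hc', hd'⟩ := hfw {a, b} (card_pair hab)
        refine ⟨c', hmem h' ?_, hc'⟩
        rw [hd', hc', hπ a b hab]
        funext x
        simp [ind]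
      exact hle hs
    obtain ⟨m, hm, hme⟩ := hspan _ (pairs_span hC hO hOC (even_inside hC hc hOC))
    have := hzero (c + m) (C.add_mem hc hm.1) (by
      rw [map_add, hme]; exact funext fun y => CharTwo.add_self_eq_zero _)
    have h' := M.add_mem this hm
    rwa [add_assoc, show m + m = 0 from funext fun y => CharTwo.add_self_eq_zero _, add_zero] at h'
  have heq : C = D.map (LinearMap.funLeft (ZMod 2) (ZMod 2) e) := by
    refine Submodule.eq_of_le_of_finrank_le (fun c hc => (hall hc).2) ?_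
    rw [hC.dim, ← hD.dim]
    exact Submodule.finrank_map_le _ _
  refine ⟨e, fun v => ?_⟩
  rw [heq]
  refine ⟨fun hv => ⟨v, hv, rfl⟩, ?_⟩
  rintro ⟨w, hw, hwv⟩
  have : w = v := funext fun y => by
    obtain ⟨a, rfl⟩ := e.surjective y
    exact congrFun hwv a
  exact this ▸ hw

end

/-- Any two such codes are equivalent. -/
theorem golay_unique {α β : Type*} [Fintype α] [DecidableEq α] [Fintype β] [DecidableEq β]
    {C : Submodule (ZMod 2) (α → ZMod 2)} {D : Submodule (ZMod 2) (β → ZMod 2)}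
    (hC : IsGolay C) (hD : IsGolay D) : ∃ e : α ≃ β, ∀ v : β → ZMod 2, v ∈ D ↔ (v ∘ e) ∈ C := by
  obtain ⟨s, -, hs⟩ := exists_subset_card_eq (s := (univ : Finset α)) (n := 5)
    (by rw [card_univ, hC.len]; norm_num)
  obtain ⟨t, -, ht⟩ := exists_subset_card_eq (s := (univ : Finset β)) (n := 5)
    (by rw [card_univ, hD.len]; norm_num)
  obtain ⟨O, ⟨⟨hO, hOC⟩, -⟩, -⟩ := hC.steiner.2 s hs
  obtain ⟨P, ⟨⟨hP, hPD⟩, -⟩, -⟩ := hD.steiner.2 t ht
  obtain ⟨σ, hσ⟩ := exists_point_bij (card_out16 hC hO hOC) (card_out16 hD hP hPD) (hyper C O) (hyper D P)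
    (finrank_hyper hC hO hOC) (finrank_hyper hD hP hPD) (one_mem_hyper hC hO hOC) (one_mem_hyper hD hP hPD)
    (fun _ _ h => separated hC hO hOC h) (fun _ _ h => separated hD hP hPD h)
  exact code_iso hC hD hO hOC hP hPD σ hσ

end CfsgLib.Steiner
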