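/-
Steiner systems with parameters of the large Mathieu groups: uniqueness and automorphism groups.
-/
import Cfsg.Agent.Steiner.Iso
import Cfsg.Agent.Steiner.FromSystem
import Cfsg.Agent.Golay.Mathieu
import Cfsg.Prelude.Def_Sporadic

set_option autoImplicit false

namespace CfsgLib.Steiner

open Finset Cfsg MulAction
open scoped Pointwise

theorem golay_isGolay : IsGolay golayCode := by
  refine ⟨Golay.card_golayPt, Golay.code_finrank, fun w hw => ?_, fun w hw h4 => ?_⟩ <;>
    rcases Golay.supports_card (s := support₂ w) ⟨w, hw, rfl⟩ with h | h | h | h | h <;>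
      simp only [wgt] at * <;> omega

theorem eights_golay : IsGolay.eights golayCode = octads := by
  ext s
  constructor
  · rintro ⟨h8, hw⟩
    exact ⟨⟨ind s, hw, support_ind s⟩, h8⟩
  · rintro ⟨⟨w, hw, rfl⟩, h8⟩
    exact ⟨h8, by rw [ind_support]; exact hw⟩

section Image

variable {α β : Type*} [DecidableEq α] [DecidableEq β]

theorem ind_image (e : α ≃ β) (s : Finset α) : ind (s.image e) ∘ e = ind s := by
  funext a; simp [ind]

theorem image_mem_eights [Fintype α] [Fintype β] {C : Submodule (ZMod 2) (α → ZMod 2)}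
    {D : Submodule (ZMod 2) (β → ZMod 2)} (e : α ≃ β) (he : ∀ v, v ∈ D ↔ (v ∘ e) ∈ C) (s : Finset α) :
    s.image e ∈ IsGolay.eights D ↔ s ∈ IsGolay.eights C := by
  show (s.image e).card = 8 ∧ ind (s.image e) ∈ D ↔ s.card = 8 ∧ ind s ∈ C
  rw [card_image_of_injective _ e.injective, he, ind_image]

theorem image_eights [Fintype α] [Fintype β] {C : Submodule (ZMod 2) (α → ZMod 2)}
    {D : Submodule (ZMod 2) (β → ZMod 2)} (e : α ≃ β) (he : ∀ v, v ∈ D ↔ (v ∘ e) ∈ C) :
    (fun b => b.image e) '' IsGolay.eights C = IsGolay.eights D := by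
  ext t
  constructor
  · rintro ⟨s, hs, rfl⟩; exact (image_mem_eights e he s).mpr hs
  · intro ht
    have h : (t.image e.symm).image e = t := by rw [image_image]; simp
    exact ⟨t.image e.symm, (image_mem_eights e he _).mp (by rw [h]; exact ht), h⟩

theorem smul_eq_image (g : Equiv.Perm α) (b : Finset α) : g • b = b.image g := by
  ext x; simp [Finset.mem_smul_finset]

theorem mem_aut_iff [Fintype α] {B : Set (Finset α)} {g : Equiv.Perm α} :
    g ∈ setSystemAut B ↔ ∀ b ∈ B, b.image g ∈ B := by
  rw [mem_stabilizer_iff]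
  constructor
  · intro h b hb
    rw [← smul_eq_image, ← h]
    exact Set.smul_mem_smul_set hb
  · intro h
    refine Set.eq_of_subset_of_ncard_le ?_ ?_ (Set.toFinite _)
    · rintro _ ⟨b, hb, rfl⟩
      show g • b ∈ B
      rw [smul_eq_image]; exact h b hb
    · rw [Set.ncard_smul_set]

/-- Automorphism groups of isomorphic systems. -/
theorem aut_map [Fintype α] [Fintype β] (e : α ≃ β) {B : Set (Finset α)} {B' : Set (Finset β)}
    (h : (fun b => b.image e) '' B = B') :
    (setSystemAut B).map e.permCongrHom.toMonoidHom = setSystemAut B' := by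
  ext g
  rw [Subgroup.mem_map_equiv, mem_aut_iff, mem_aut_iff, ← h]
  simp only [Set.forall_mem_image]
  refine forall₂_congr fun b _ => ?_
  have e1 : (b.image e).image g = (b.image ((e.permCongrHom.symm g : Equiv.Perm α))).image e := by
    rw [image_image, image_image]
    refine image_congr fun a _ => ?_
    simp
  rw [e1, Set.mem_image]
  exact ⟨fun hb => ⟨_, hb, rfl⟩, fun ⟨c, hc, hce⟩ => image_injective e.injective hce ▸ hc⟩

/-- The isomorphism between automorphism groups. -/
noncomputable def autEquiv [Fintype α] [Fintype β] (e : α ≃ β) {B : Set (Finset α)} {B' : Set (Finset β)}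
    (h : (fun b => b.image e) '' B = B') : setSystemAut B ≃* setSystemAut B' :=
  ((setSystemAut B).equivMapOfInjective _ e.permCongrHom.injective).trans (MulEquiv.subgroupCongr (aut_map e h))

theorem autEquiv_apply [Fintype α] [Fintype β] (e : α ≃ β) {B : Set (Finset α)} {B' : Set (Finset β)}
    (h : (fun b => b.image e) '' B = B') (g : setSystemAut B) (a : α) :
    (autEquiv e h g : Equiv.Perm β) (e a) = e ((g : Equiv.Perm α) a) := by
  show (e.permCongrHom (g : Equiv.Perm α)) (e a) = _
  simp

end Image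

theorem ind_comp_symm {β : Type*} [DecidableEq β] {α : Type*} [DecidableEq α] (e : α ≃ β) (s : Finset α) :
    ind s ∘ e.symm = ind (s.image e) := by
  funext y
  obtain ⟨a, rfl⟩ := e.surjective y
  simp [ind]

/-- A code symmetry gives an element of the Mathieu group. -/
theorem conj_mem_M24 {X : Type*} [Fintype X] [DecidableEq X] {C : Submodule (ZMod 2) (X → ZMod 2)}
    (e : X ≃ GolayPt) (he : ∀ v, v ∈ golayCode ↔ (v ∘ e) ∈ C) (g : Equiv.Perm X)
    (hg : ∀ v ∈ C, v ∘ g.symm ∈ C) : e.permCongr g ∈ M24 := by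
  rw [Golay.M24_eq_octAut, mem_aut_iff]
  intro o ho
  rw [← eights_golay, ← image_eights e he] at ho
  obtain ⟨s, ⟨h8, hs⟩, rfl⟩ := ho
  have h2 : (s.image e).image (e.permCongr g) = (s.image g).image e := by
    rw [image_image, image_image]
    refine image_congr fun x _ => ?_
    simp
  rw [h2, ← eights_golay, image_mem_eights e he]
  exact ⟨by rw [card_image_of_injective _ g.injective]; exact h8, ind_comp_symm g s ▸ hg _ hs⟩

/-! ### S(5,8,24) -/

variable {α : Type*} [Fintype α] [DecidableEq α]

theorem exists_iso24 {B : Set (Finset α)} (hB : IsSteinerSystem 5 8 B) (hα : Fintype.card α = 24) :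
    ∃ e : α ≃ GolayPt, (fun b => b.image e) '' B = octads := by
  obtain ⟨e, he⟩ := golay_unique (golay24 hB hα) golay_isGolay
  refine ⟨e, ?_⟩
  have h := image_eights e he
  rw [eights24 hB hα, eights_golay] at h
  exact h

theorem iso24 {β : Type*} [Fintype β] [DecidableEq β] {B : Set (Finset α)} {B' : Set (Finset β)}
    (hB : IsSteinerSystem 5 8 B) (hα : Fintype.card α = 24) (hB' : IsSteinerSystem 5 8 B')
    (hβ : Fintype.card β = 24) : SetSystemIso B B' := by
  obtain ⟨e, he⟩ := exists_iso24 hB hα
  obtain ⟨f, hf⟩ := exists_iso24 hB' hβ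
  refine ⟨e.trans f.symm, ?_⟩
  have h2 : (fun b : Finset GolayPt => b.image f.symm) '' octads = B' := by
    rw [← hf, Set.image_image]
    convert Set.image_id B' using 2
    ext b; simp [image_image]
  rw [← h2, ← he, Set.image_image]
  refine Set.image_congr fun b _ => ?_
  rw [image_image]; rfl

theorem aut24 {B : Set (Finset α)} (hB : IsSteinerSystem 5 8 B) (hα : Fintype.card α = 24) :
    IsM24 (setSystemAut B) ∧ IsMultiplyPretransitive (setSystemAut B) α 5 := by
  obtain ⟨e, he⟩ := exists_iso24 hB hα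
  let φ : setSystemAut B ≃* M24 := (autEquiv e he).trans (MulEquiv.subgroupCongr Golay.M24_eq_octAut.symm)
  haveI := Golay.m24_simple
  haveI := φ.toEquiv.nontrivial
  refine ⟨⟨IsSimpleGroup.isSimpleGroup_of_surjective φ.symm.toMonoidHom φ.symm.surjective, ?_⟩, ⟨fun x y => ?_⟩⟩
  · rw [Nat.card_congr φ.toEquiv]; exact Golay.card_M24
  · haveI := Golay.five_transitive
    obtain ⟨g, hg⟩ := MulAction.exists_smul_eq M24 (x.trans e.toEmbedding) (y.trans e.toEmbedding)
    refine ⟨φ.symm g, ?_⟩
    ext i
    have h1 := autEquiv_apply e he (φ.symm g) (x i)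
    have h2 : ((autEquiv e he (φ.symm g) : setSystemAut octads) : Equiv.Perm GolayPt) = (g : Equiv.Perm GolayPt) :=
      congrArg (fun z : M24 => (z : Equiv.Perm GolayPt)) (φ.apply_symm_apply g)
    have h3 : (g : Equiv.Perm GolayPt) (e (x i)) = e (y i) := congrArg (fun z : Fin 5 ↪ GolayPt => z i) hg
    rw [h2, h3] at h1
    exact (e.injective h1).symm

end CfsgLib.Steiner
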