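/-
A small exact cover search with a soundness theorem.
-/
import Mathlib

set_option autoImplicit false

namespace CfsgLib.Steiner.Search

/-- `b` shares a constraint with `a`. -/
def clash (Ks0 : List (List ℕ)) (a b : ℕ) : Bool := Ks0.any fun K => K.contains a && K.contains b

/-- Constraints left after choosing `a`. -/
def step (Ks0 : List (List ℕ)) (a : ℕ) (Ks : List (List ℕ)) : List (List ℕ) :=
  (Ks.filter fun K => !K.contains a).map fun K => K.filter fun b => !clash Ks0 a b

/-- All exact covers. -/
def solve (Ks0 : List (List ℕ)) : ℕ → List (List ℕ) → List ℕ → List (List ℕ)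
  | _, [], acc => [acc]
  | 0, _ :: _, _ => []
  | n + 1, K :: Ks, acc => K.flatMap fun a => solve Ks0 n (step Ks0 a (K :: Ks)) (a :: acc)

/-- A selection meeting each constraint exactly once. -/
def Exact (w : ℕ → Prop) (Ks : List (List ℕ)) : Prop := ∀ K ∈ Ks, ∃ a ∈ K, w a ∧ ∀ b ∈ K, w b → b = a

theorem step_length (Ks0 : List (List ℕ)) {a : ℕ} {K : List ℕ} (Ks : List (List ℕ)) (ha : a ∈ K) :
    (step Ks0 a (K :: Ks)).length ≤ Ks.length := by
  rw [step, List.length_map, List.filter_cons_of_neg (by simp [ha])]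
  exact List.length_filter_le _ _

theorem solve_sound (w : ℕ → Prop) (Ks0 : List (List ℕ)) (h0 : Exact w Ks0) :
    ∀ (n : ℕ) (Ks : List (List ℕ)) (acc : List ℕ), Ks.length ≤ n → Exact w Ks →
      (∀ a ∈ acc, w a) → (∀ a, w a → (∃ K ∈ Ks0, a ∈ K) → a ∈ acc ∨ ∃ K ∈ Ks, a ∈ K) →
      ∃ L ∈ solve Ks0 n Ks acc, ∀ a, (∃ K ∈ Ks0, a ∈ K) → (w a → a ∈ L) ∧ (a ∈ L → w a) := by
  intro n
  induction n with
  | zero =>
    intro Ks acc hlen _ hacc hall
    obtain rfl : Ks = [] := List.length_eq_zero_iff.mp (by omega)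
    refine ⟨acc, by simp [solve], fun a ha => ⟨fun hw => ?_, hacc a⟩⟩
    rcases hall a hw ha with h | ⟨K, hK, -⟩
    · exact h
    · simp at hK
  | succ n ih =>
    intro Ks acc hlen hex hacc hall
    cases Ks with
    | nil =>
      refine ⟨acc, by simp [solve], fun a ha => ⟨fun hw => ?_, hacc a⟩⟩
      rcases hall a hw ha with h | ⟨K, hK, -⟩
      · exact h
      · simp at hK
    | cons K Ks =>
      obtain ⟨a, haK, hwa, -⟩ := hex K (by simp)
      have hsub : ∀ b, w b → clash Ks0 a b = true → b = a := by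
        intro b hb hc
        simp only [clash, List.any_eq_true, Bool.and_eq_true, List.contains_iff_mem] at hc
        obtain ⟨K0, hK0, ha0, hb0⟩ := hc
        obtain ⟨c, -, -, hu⟩ := h0 K0 hK0
        exact (hu b hb0 hb).trans (hu a ha0 hwa).symm
      obtain ⟨L, hL, hLspec⟩ := ih (step Ks0 a (K :: Ks)) (a :: acc)
        ((step_length Ks0 Ks haK).trans (by simp at hlen; omega)) (by
          intro K' hK'
          simp only [step, List.mem_map, List.mem_filter] at hK'
          obtain ⟨K1, ⟨hK1, hna⟩, rfl⟩ := hK'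
          obtain ⟨b, hb, hwb, hu⟩ := hex K1 hK1
          have hne : b ≠ a := by rintro rfl; simp [hb] at hna
          refine ⟨b, List.mem_filter.mpr ⟨hb, ?_⟩, hwb, fun c hc hwc => hu c (List.mem_filter.mp hc).1 hwc⟩
          cases hcl : clash Ks0 a b with
          | false => rfl
          | true => exact absurd (hsub b hwb hcl) hne)
        (by
          intro b hb
          rcases List.mem_cons.mp hb with rfl | hb
          · exact hwa
          · exact hacc b hb)
        (by
          intro b hwb hbK
          by_cases hba : b = a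
          · exact Or.inl (by simp [hba])
          rcases hall b hwb hbK with h | ⟨K1, hK1, hb1⟩
          · exact Or.inl (List.mem_cons_of_mem _ h)
          · right
            obtain ⟨c, -, -, hu⟩ := hex K1 hK1
            have hna : a ∉ K1 := fun h => hba ((hu b hb1 hwb).trans (hu a h hwa).symm)
            refine ⟨_, List.mem_map.mpr ⟨K1, List.mem_filter.mpr ⟨hK1, by simpa using hna⟩, rfl⟩,
              List.mem_filter.mpr ⟨hb1, ?_⟩⟩
            cases hcl : clash Ks0 a b with
            | false => rfl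
            | true => exact absurd (hsub b hwb hcl) hba)
      exact ⟨L, List.mem_flatMap.mpr ⟨a, haK, hL⟩, hLspec⟩

theorem solve_spec (w : ℕ → Prop) (Ks : List (List ℕ)) (h : Exact w Ks) :
    ∃ L ∈ solve Ks Ks.length Ks [], ∀ a, (∃ K ∈ Ks, a ∈ K) → (w a → a ∈ L) ∧ (a ∈ L → w a) :=
  solve_sound w Ks h Ks.length Ks [] le_rfl h (by simp) fun _ _ ha => Or.inr ha

end CfsgLib.Steiner.Search
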