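/-
The Steiner system S(5,6,12) is unique.
-/
import Cfsg.Agent.Steiner.Numbers
import Cfsg.Agent.Steiner.Search

set_option autoImplicit false

namespace CfsgLib.Steiner.Twelve

set_option maxRecDepth 8000

open Finset Cfsg

/-- Points of a mask. -/
def pts (m : ℕ) : Finset (Fin 12) := univ.filter fun i => m.testBit i

/-- Mask of a set. -/
def mask (s : Finset (Fin 12)) : ℕ := ∑ i ∈ s, 2 ^ (i : ℕ)

theorem mask_lt (s : Finset (Fin 12)) : mask s < 4096 := by
  have h : mask s ≤ mask univ := sum_le_sum_of_subset (subset_univ s)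
  have : mask univ = 4095 := by decide
  omega

theorem pts_mask_split : ∀ a < 64, ∀ b < 64, mask (pts (64 * a + b)) = 64 * a + b := by decide +kernel

theorem pts_mask_list (m : ℕ) (hm : m < 4096) : mask (pts m) = m := by
  have h := pts_mask_split (m / 64) (by omega) (m % 64) (by omega)
  rwa [show 64 * (m / 64) + m % 64 = m by omega] at h

theorem pts_injOn {m n : ℕ} (hm : m < 4096) (hn : n < 4096) (h : pts m = pts n) : m = n := by
  rw [← pts_mask_list m hm, ← pts_mask_list n hn, h]

theorem pts_mask (s : Finset (Fin 12)) : pts (mask s) = s := by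
  have hinj : Function.Injective fun m : Fin 4096 => pts m := fun m n h => Fin.ext (pts_injOn m.2 n.2 h)
  have hbij : Function.Bijective fun m : Fin 4096 => pts m :=
    (Fintype.bijective_iff_injective_and_card _).mpr ⟨hinj, by
      rw [Fintype.card_finset, Fintype.card_fin, Fintype.card_fin]; norm_num⟩
  obtain ⟨m, rfl⟩ := hbij.2 s
  show pts (mask (pts m)) = pts m
  rw [pts_mask_list m m.2]

/-- The three distinguished points. -/
def top : Finset (Fin 12) := {9, 10, 11}

/-- Masks of the three-subsets of the plane. -/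
def triples : List ℕ := (List.range 512).filter fun m => (pts m).card == 3

/-- The lines of the standard plane. -/
def lineL : List ℕ := [7, 73, 273, 161, 266, 146, 98, 140, 84, 292, 56, 448]

/-- Lines forced by the labelling. -/
def forced : List (List ℕ) := [[7], [73], [273], [161]]

/-- Pairs of plane points with the triples containing them. -/
def pairKs : List (List ℕ) :=
  (List.range 9).flatMap fun i => ((List.range 9).filter fun j => i < j).map fun j =>
    triples.filter fun m => m.testBit i && m.testBit j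

/-- Relabellings. -/
def relabels : List (List ℕ) := [[0, 1, 2, 3, 8, 5, 6, 7, 4], [0, 1, 2, 3, 8, 7, 6, 5, 4], [0, 1, 2, 3, 5, 8, 6, 4, 7],
  [0, 1, 2, 3, 7, 8, 6, 4, 5], [0, 1, 2, 3, 7, 4, 6, 8, 5], [0, 1, 2, 3, 5, 4, 6, 8, 7],
  [0, 1, 2, 3, 4, 7, 6, 5, 8], [0, 1, 2, 3, 4, 5, 6, 7, 8]]

/-- A relabelling as a function on the twelve points. -/
def relabelFun (p : List ℕ) (i : Fin 12) : Fin 12 := Fin.ofNat 12 (p.getD i i)

/-- The classes of four-arcs. -/
def arcL : ℕ → List ℕ
  | 0 => [27, 45, 54, 78, 113, 149, 170, 195, 216, 228, 284, 291, 325, 338, 360, 390, 393, 432]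
  | 1 => [30, 43, 53, 83, 108, 153, 166, 197, 202, 240, 269, 306, 326, 344, 353, 387, 404, 424]
  | _ => [29, 46, 51, 90, 101, 139, 180, 198, 209, 232, 278, 297, 323, 332, 368, 389, 408, 418]

/-- Four-sets of the plane without a line. -/
def arcs : List ℕ := (List.range 512).filter fun m => (pts m).card == 4 && lineL.all fun l => m &&& l != l

/-- Triangles with the arcs containing them. -/
def triKs : List (List ℕ) :=
  (triples.filter fun t => !lineL.contains t).map fun t => arcs.filter fun m => m &&& t == t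

/-- The standard system. -/
def std : List ℕ :=
  lineL.map (· + 3584) ++ lineL.map (fun l => 511 - l) ++
    (List.range 3).flatMap fun k => (arcL k).map (fun a => a + (3584 - 2 ^ (9 + k))) ++
      (arcL k).map (fun a => (511 - a) + 2 ^ (9 + k))

theorem plane_solutions : ∀ L ∈ Search.solve (forced ++ pairKs) (forced ++ pairKs).length (forced ++ pairKs) [],
    ∃ p ∈ relabels, (∀ i : Fin 12, ∀ j : Fin 12, relabelFun p i = relabelFun p j → i = j) ∧
      (∀ i : Fin 12, 9 ≤ (i : ℕ) → relabelFun p i = i) ∧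
      ∀ l ∈ lineL, mask (univ.filter fun i => l.testBit (relabelFun p i)) ∈ L := by decide +kernel

theorem arc_solutions : ∀ L ∈ Search.solve triKs triKs.length triKs [],
    ∃ k < 3, (∀ a ∈ arcL k, a ∈ L) ∧ ∀ a ∈ L, a ∈ arcL k := by decide +kernel

theorem arcL_covered : ∀ k < 3, ∀ a ∈ arcL k, ∃ K ∈ triKs, a ∈ K := by decide +kernel

theorem lineL_covered : ∀ m ∈ triples, ∃ K ∈ forced ++ pairKs, m ∈ K := by decide +kernel

theorem std_card : (std.map pts).toFinset.card = 132 := by decide +kernel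

variable {B : Set (Finset (Fin 12))}

/-- Transport along a permutation. -/
def moved (σ : Equiv.Perm (Fin 12)) (B : Set (Finset (Fin 12))) : Set (Finset (Fin 12)) :=
  {s | s.image σ ∈ B}

theorem steiner_moved (σ : Equiv.Perm (Fin 12)) (hB : IsSteinerSystem 5 6 B) : IsSteinerSystem 5 6 (moved σ B) := by
  refine ⟨fun s hs => by rw [← card_image_of_injective s σ.injective]; exact hB.1 _ hs, fun s hs => ?_⟩
  obtain ⟨b, ⟨hb, hsb⟩, hu⟩ := hB.2 (s.image σ) (by rw [card_image_of_injective _ σ.injective, hs])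
  have hbb : (b.image σ.symm).image σ = b := by rw [image_image]; simp
  refine ⟨b.image σ.symm, ⟨by show _ ∈ B; rw [hbb]; exact hb, ?_⟩, ?_⟩
  · rw [← image_subset_image_iff σ.injective, hbb]; exact hsb
  · rintro c ⟨hc, hsc⟩
    refine image_injective σ.injective ?_
    show c.image σ = (b.image σ.symm).image σ
    rw [hbb, hu _ ⟨hc, image_subset_image hsc⟩]

variable (hB : IsSteinerSystem 5 6 B)
include hB

theorem compl_mem {b : Finset (Fin 12)} (hb : b ∈ B) : bᶜ ∈ B := by
  have hb' := mem_blocks.mpr hb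
  obtain ⟨c, hc⟩ := card_eq_one.mp (numbers_12 hB (Fintype.card_fin 12) hb')
  have hc' := mem_filter.mp (hc.ge (mem_singleton_self c))
  have hcB := mem_blocks.mp (mem_erase.mp hc'.1).2
  have hle : c ⊆ bᶜ := fun x hx => mem_compl.mpr fun hxb => by
    have := mem_inter.mpr ⟨hxb, hx⟩
    rw [card_eq_zero.mp hc'.2] at this
    exact notMem_empty _ this
  rw [← eq_of_subset_of_card_le hle (by rw [card_compl, Fintype.card_fin, hB.1 b hb, hB.1 c hcB])]
  exact hcB

omit hB in
/-- The four lines through the point zero. -/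
def Labelled (B : Set (Finset (Fin 12))) : Prop := ∀ K ∈ forced, ∀ l ∈ K, pts l ∪ top ∈ B

theorem line_through {p q : Fin 12} (hp : p ∉ top) (hq : q ∉ top) (hpq : p ≠ q) :
    ∃! r, r ∉ top ∧ r ≠ p ∧ r ≠ q ∧ insert r (insert p (insert q top)) ∈ B := by
  have hc : (insert p (insert q top)).card = 5 := by
    rw [card_insert_of_notMem (by simp [hpq, hp]), card_insert_of_notMem hq]; rfl
  obtain ⟨b, ⟨hb, hsb⟩, hu⟩ := hB.2 _ hc
  obtain ⟨r, hr⟩ := card_eq_one.mp (show (b \ insert p (insert q top)).card = 1 by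
    rw [card_sdiff_of_subset hsb, hB.1 b hb, hc])
  have hrb := mem_sdiff.mp (hr.ge (mem_singleton_self r))
  simp only [mem_insert, not_or] at hrb
  have hins : insert r (insert p (insert q top)) = b := by
    refine eq_of_subset_of_card_le (insert_subset hrb.1 hsb) ?_
    rw [card_insert_of_notMem (by simp only [mem_insert, not_or]; exact hrb.2), hc, hB.1 b hb]
  refine ⟨r, ⟨hrb.2.2.2, hrb.2.1, hrb.2.2.1, hins ▸ hb⟩, ?_⟩
  rintro s ⟨hs, hsp, hsq, hsB⟩
  have h := hu _ ⟨hsB, subset_insert _ _⟩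
  have : s ∈ b \ insert p (insert q top) := mem_sdiff.mpr ⟨h ▸ mem_insert_self _ _, by simp [hsp, hsq, hs]⟩
  rw [hr, mem_singleton] at this
  exact this

theorem exists_labelling : ∃ σ : Equiv.Perm (Fin 12), Labelled (moved σ B) := by
  have h0 : (0 : Fin 12) ∉ top := by decide
  have key : ∀ a : Fin 12, a ∉ top → a ≠ 0 → ∃ b, b ∉ top ∧ b ≠ 0 ∧ b ≠ a ∧ insert b (insert 0 (insert a top)) ∈ B := by
    intro a ha ha0
    obtain ⟨b, hb, -⟩ := line_through hB h0 ha (Ne.symm ha0)
    exact ⟨b, hb.1, hb.2.1, hb.2.2.1, hb.2.2.2⟩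
  choose f hf using key
  have huniq : ∀ {a b c : Fin 12}, a ∉ top → a ≠ 0 → b ∉ top → b ≠ 0 → b ≠ a → c ∉ top → c ≠ 0 → c ≠ a →
      insert b (insert 0 (insert a top)) ∈ B → insert c (insert 0 (insert a top)) ∈ B → b = c := by
    intro a b c ha ha0 hb hb0 hba hc hc0 hca h1 h2
    obtain ⟨r, -, hu⟩ := line_through hB h0 ha (Ne.symm ha0)
    exact (hu b ⟨hb, hb0, hba, h1⟩).trans (hu c ⟨hc, hc0, hca, h2⟩).symm
  have pick : ∀ U : Finset (Fin 12), U.card < 12 → ∃ a, a ∉ U := fun U hU => by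
    by_contra h
    push Not at h
    rw [eq_univ_iff_forall.mpr h, card_univ, Fintype.card_fin] at hU
    omega
  have hsmall : ∀ (U : Finset (Fin 12)) (n : ℕ), U.card ≤ n → n < 8 → (insert 0 (top ∪ U)).card < 12 := by
    intro U n hU hn
    have := card_insert_le (0 : Fin 12) (top ∪ U)
    have := card_union_le top U
    have : top.card = 3 := rfl
    omega
  obtain ⟨a1, ha1⟩ := pick (insert 0 (top ∪ ∅)) (hsmall _ 0 (by simp) (by norm_num))
  simp only [mem_insert, mem_union, notMem_empty, or_false, not_or] at ha1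
  set a2 := f a1 ha1.2 ha1.1 with ha2
  obtain ⟨ht2, hz2, hn2, hB2⟩ := hf a1 ha1.2 ha1.1
  obtain ⟨a3, ha3⟩ := pick (insert 0 (top ∪ {a1, a2})) (hsmall _ 2 card_le_two (by norm_num))
  simp only [mem_insert, mem_union, mem_singleton, not_or] at ha3
  set a6 := f a3 ha3.2.1 ha3.1 with ha6
  obtain ⟨ht6, hz6, hn6, hB6⟩ := hf a3 ha3.2.1 ha3.1
  obtain ⟨a4, ha4⟩ := pick (insert 0 (top ∪ {a1, a2, a3, a6})) (hsmall _ 4 card_le_four (by norm_num))
  simp only [mem_insert, mem_union, mem_singleton, not_or] at ha4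
  set a8 := f a4 ha4.2.1 ha4.1 with ha8
  obtain ⟨ht8, hz8, hn8, hB8⟩ := hf a4 ha4.2.1 ha4.1
  obtain ⟨a5, ha5⟩ := pick (insert 0 (top ∪ {a1, a2, a3, a6, a4, a8})) (hsmall _ 6 (by
    refine (card_insert_le _ _).trans ?_
    have : ({a2, a3, a6, a4, a8} : Finset (Fin 12)).card ≤ 5 := card_le_five
    omega) (by norm_num))
  simp only [mem_insert, mem_union, mem_singleton, not_or] at ha5
  set a7 := f a5 ha5.2.1 ha5.1 with ha7
  obtain ⟨ht7, hz7, hn7, hB7⟩ := hf a5 ha5.2.1 ha5.1
  -- partners are symmetric and unique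
  have hsym : ∀ {a b : Fin 12}, insert b (insert 0 (insert a top)) = insert a (insert 0 (insert b top)) := by
    intro a b
    rw [Finset.insert_comm b 0, Finset.insert_comm b a, Finset.insert_comm 0 a]
  have hne : ∀ {a b a' b' : Fin 12}, a ∉ top → a ≠ 0 → b ∉ top → b ≠ 0 → b ≠ a →
      a' ∉ top → a' ≠ 0 → b' ∉ top → b' ≠ 0 → b' ≠ a' → a' ≠ a → a' ≠ b →
      insert b (insert 0 (insert a top)) ∈ B → insert b' (insert 0 (insert a' top)) ∈ B → b' ≠ a ∧ b' ≠ b := by
    intro a b a' b' ha ha0 hb hb0 hba ha' ha'0 hb' hb'0 hba' h1 h2 hBab hBab'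
    constructor
    · rintro rfl
      rw [hsym] at hBab'
      exact h2 (huniq hb' hb'0 ha' ha'0 (Ne.symm hba') hb hb0 hba hBab' hBab)
    · rintro rfl
      rw [hsym] at hBab' hBab
      exact h1 (huniq hb' hb'0 ha' ha'0 (Ne.symm hba') ha ha0 (Ne.symm hba) hBab' hBab)
  obtain ⟨h61, h62⟩ := hne ha1.2 ha1.1 ht2 hz2 hn2 ha3.2.1 ha3.1 ht6 hz6 hn6 ha3.2.2.1 ha3.2.2.2 hB2 hB6
  obtain ⟨h81, h82⟩ := hne ha1.2 ha1.1 ht2 hz2 hn2 ha4.2.1 ha4.1 ht8 hz8 hn8 ha4.2.2.1 ha4.2.2.2.1 hB2 hB8
  obtain ⟨h83, h86⟩ := hne ha3.2.1 ha3.1 ht6 hz6 hn6 ha4.2.1 ha4.1 ht8 hz8 hn8 ha4.2.2.2.2.1 ha4.2.2.2.2.2 hB6 hB8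
  obtain ⟨h71, h72⟩ := hne ha1.2 ha1.1 ht2 hz2 hn2 ha5.2.1 ha5.1 ht7 hz7 hn7 ha5.2.2.1 ha5.2.2.2.1 hB2 hB7
  obtain ⟨h73, h76⟩ := hne ha3.2.1 ha3.1 ht6 hz6 hn6 ha5.2.1 ha5.1 ht7 hz7 hn7 ha5.2.2.2.2.1 ha5.2.2.2.2.2.1 hB6 hB7
  obtain ⟨h74, h78⟩ := hne ha4.2.1 ha4.1 ht8 hz8 hn8 ha5.2.1 ha5.1 ht7 hz7 hn7 ha5.2.2.2.2.2.2.1 ha5.2.2.2.2.2.2.2 hB8 hB7
  let L : List (Fin 12) := [0, a1, a2, a3, a4, a5, a6, a7, a8, 9, 10, 11]
  have hnd : L.Nodup := by
    have e : ∀ x : Fin 12, x ∉ top → x ≠ 9 ∧ x ≠ 10 ∧ x ≠ 11 := by decide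
    have e1 := e _ ha1.2; have e2 := e _ ht2; have e3 := e _ ha3.2.1; have e4 := e _ ha4.2.1
    have e5 := e _ ha5.2.1; have e6 := e _ ht6; have e7 := e _ ht7; have e8 := e _ ht8
    simp only [L, List.nodup_cons, List.mem_cons, List.not_mem_nil, or_false, not_or, List.nodup_nil, and_true,
      not_false_eq_true]
    refine ⟨⟨?_, ?_, ?_, ?_, ?_, ?_, ?_, ?_, ?_⟩, ⟨?_, ?_, ?_, ?_, ?_, ?_, ?_, ?_⟩, ?_⟩ <;>
      first | decide | (repeat' apply And.intro) <;> grind
  let σ : Equiv.Perm (Fin 12) := Equiv.ofBijective (fun i => L.get (Fin.cast rfl i)) (Finite.injective_iff_bijective.mp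
    fun i j h => by simpa using (hnd.get_inj_iff).mp h)
  refine ⟨σ, ?_⟩
  have hset : ∀ (l : ℕ) (u v : Fin 12), (pts l ∪ top) = {0, u, v, 9, 10, 11} →
      insert (σ v) (insert 0 (insert (σ u) top)) ∈ B → pts l ∪ top ∈ moved σ B := by
    intro l u v hl hmem
    show (pts l ∪ top).image σ ∈ B
    rw [hl]
    convert hmem using 1
    simp only [image_insert, image_singleton]
    rw [show σ 0 = 0 from rfl, show σ 9 = 9 from rfl, show σ 10 = 10 from rfl, show σ 11 = 11 from rfl]
    ext x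
    simp only [top, mem_insert, mem_singleton]
    grind
  intro K hK l hl
  simp only [forced, List.mem_cons, List.not_mem_nil, or_false] at hK
  rcases hK with rfl | rfl | rfl | rfl <;> simp only [List.mem_cons, List.not_mem_nil, or_false] at hl <;> subst hl
  · exact hset 7 1 2 (by decide +kernel) hB2
  · exact hset 73 3 6 (by decide +kernel) hB6
  · exact hset 273 4 8 (by decide +kernel) hB8
  · exact hset 161 5 7 (by decide +kernel) hB7

theorem pair_exact (hlab : Labelled B) :
    Search.Exact (fun m => m ∈ triples ∧ pts m ∪ top ∈ B) (forced ++ pairKs) := by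
  intro K hK
  rcases List.mem_append.mp hK with hF | hP
  · simp only [forced, List.mem_cons, List.not_mem_nil, or_false] at hF
    rcases hF with rfl | rfl | rfl | rfl <;>
      refine ⟨_, List.mem_singleton_self _, ⟨by decide +kernel, hlab _ (by simp [forced]) _ (List.mem_singleton_self _)⟩,
        fun b hb _ => List.mem_singleton.mp hb⟩
  · obtain ⟨i, hi, hP'⟩ := List.mem_flatMap.mp hP
    obtain ⟨j, hj, rfl⟩ := List.mem_map.mp hP'
    rw [List.mem_filter, List.mem_range] at hj
    rw [List.mem_range] at hi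
    have hij : i < j := of_decide_eq_true hj.2
    have hj9 : j < 9 := hj.1
    set p : Fin 12 := ⟨i, by omega⟩ with hp
    set q : Fin 12 := ⟨j, by omega⟩ with hq
    have htop : ∀ x : Fin 12, (x : ℕ) < 9 → x ∉ top := by decide
    have hbit : ∀ x : Fin 12, x ∉ top → (x : ℕ) < 9 := by decide
    obtain ⟨r, ⟨hr, hrp, hrq, hrB⟩, hu⟩ := line_through hB (htop p hi) (htop q hj9) (fun h => by
      have := congrArg Fin.val h; simp only [hp, hq] at this; omega)
    have hpq : p ≠ q := fun h => by have := congrArg Fin.val h; simp only [hp, hq] at this; omega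
    have hcard : ({r, p, q} : Finset (Fin 12)).card = 3 := card_eq_three.mpr ⟨r, p, q, hrp, hrq, hpq, rfl⟩
    have hun : ({r, p, q} : Finset (Fin 12)) ∪ top = insert r (insert p (insert q top)) := by
      ext x; simp only [mem_union, mem_insert, mem_singleton]; tauto
    have hlt : mask ({r, p, q} : Finset (Fin 12)) < 512 := by
      have h1 : ∀ x : Fin 12, x ∉ top → (x : ℕ) < 9 := hbit
      have hsub : ({r, p, q} : Finset (Fin 12)) ⊆ univ.filter fun x => (x : ℕ) < 9 := by
        intro x hx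
        simp only [mem_insert, mem_singleton] at hx
        rcases hx with rfl | rfl | rfl
        · simp [h1 _ hr]
        · simp [hp, hi]
        · simp [hq, hj9]
      have := sum_le_sum_of_subset (f := fun x : Fin 12 => 2 ^ (x : ℕ)) hsub
      have h511 : ∑ x ∈ (univ : Finset (Fin 12)).filter (fun x : Fin 12 => (x : ℕ) < 9), 2 ^ (x : ℕ) = 511 := by decide +kernel
      show mask _ < 512
      rw [mask]; omega
    have hmem : mask ({r, p, q} : Finset (Fin 12)) ∈ triples.filter (fun m => m.testBit i && m.testBit j) := by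
      have hb : ∀ x ∈ ({r, p, q} : Finset (Fin 12)), (mask ({r, p, q} : Finset (Fin 12))).testBit x = true := fun x hx => by
        rw [← pts_mask ({r, p, q} : Finset (Fin 12))] at hx
        exact (mem_filter.mp hx).2
      refine List.mem_filter.mpr ⟨List.mem_filter.mpr ⟨List.mem_range.mpr hlt, by rw [pts_mask, hcard]; rfl⟩, ?_⟩
      rw [show i = ((p : Fin 12) : ℕ) from rfl, show j = ((q : Fin 12) : ℕ) from rfl, hb p (by simp), hb q (by simp)]
      rfl
    refine ⟨_, hmem, ⟨(List.mem_filter.mp hmem).1, by rw [pts_mask, hun]; exact hrB⟩, ?_⟩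
    intro m hm hmw
    rw [List.mem_filter, Bool.and_eq_true] at hm
    have hmt := List.mem_filter.mp hm.1
    have hm512 := List.mem_range.mp hmt.1
    have hc3 : (pts m).card = 3 := by simpa using hmt.2
    have hpm : p ∈ pts m := mem_filter.mpr ⟨mem_univ _, hm.2.1⟩
    have hqm : q ∈ pts m := mem_filter.mpr ⟨mem_univ _, hm.2.2⟩
    obtain ⟨s, hs⟩ := card_eq_one.mp (show (pts m \ {p, q}).card = 1 by
      rw [card_sdiff_of_subset (by simp [insert_subset_iff, hpm, hqm]), hc3, card_pair hpq])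
    have hsm := mem_sdiff.mp (hs.ge (mem_singleton_self s))
    simp only [mem_insert, mem_singleton, not_or] at hsm
    have heq : pts m = {s, p, q} := by
      refine (eq_of_subset_of_card_le (by simp [insert_subset_iff, hpm, hqm, hsm.1]) ?_).symm
      rw [hc3, card_eq_three.mpr ⟨s, p, q, hsm.2.1, hsm.2.2, hpq, rfl⟩]
    have hst : s ∉ top := by
      apply htop
      have h1 := (mem_filter.mp hsm.1).2
      by_contra h
      rw [Nat.testBit_lt_two_pow (lt_of_lt_of_le hm512 (Nat.pow_le_pow_right (show 1 ≤ 2 by norm_num) (show 9 ≤ (s : ℕ) by omega)))] at h1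
      exact Bool.false_ne_true h1
    have := hu s ⟨hst, hsm.2.1, hsm.2.2, by
      have h := hmw.2
      rw [heq] at h
      convert h using 1
      ext x; simp only [mem_union, mem_insert, mem_singleton]; tauto⟩
    subst this
    rw [← heq, pts_mask_list m (by omega)]

theorem exists_plane : ∃ σ : Equiv.Perm (Fin 12), ∀ l ∈ lineL, pts l ∪ top ∈ moved σ B := by
  obtain ⟨σ, hσ⟩ := exists_labelling hB
  obtain ⟨L, hL, hspec⟩ := Search.solve_spec _ _ (pair_exact (steiner_moved σ hB) hσ)
  obtain ⟨p, -, hinj, htop, hp⟩ := plane_solutions L hL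
  let π : Equiv.Perm (Fin 12) := Equiv.ofBijective (relabelFun p) (Finite.injective_iff_bijective.mp fun i j h => hinj i j h)
  refine ⟨π.symm.trans σ, fun l hl => ?_⟩
  have hlin : ∀ l ∈ lineL, mask (univ.filter fun i => l.testBit (relabelFun p i)) ∈ triples := by
    intro l hl
    have hc : ∀ l ∈ lineL, l < 512 ∧ (pts l).card = 3 := by decide +kernel
    obtain ⟨hl512, hlc⟩ := hc l hl
    have he : (univ.filter fun i => l.testBit (relabelFun p i)) = (pts l).image π.symm := by
      ext i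
      simp only [mem_filter, mem_univ, true_and, mem_image, pts]
      exact ⟨fun h => ⟨π i, h, by simp⟩, fun ⟨x, hx, hxi⟩ => by subst hxi; rw [show relabelFun p (π.symm x) = π (π.symm x) from rfl]; simpa using hx⟩
    refine List.mem_filter.mpr ⟨List.mem_range.mpr ?_, ?_⟩
    · have hsub : (univ.filter fun i => l.testBit (relabelFun p i)) ⊆ univ.filter fun x : Fin 12 => (x : ℕ) < 9 := by
        intro i hi
        rw [mem_filter] at hi ⊢
        refine ⟨mem_univ _, ?_⟩
        by_contra h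
        rw [htop i (by omega), Nat.testBit_lt_two_pow (lt_of_lt_of_le hl512 (Nat.pow_le_pow_right (show 1 ≤ 2 by norm_num) (show 9 ≤ (i : ℕ) by omega)))] at hi
        exact Bool.false_ne_true hi.2
      have := sum_le_sum_of_subset (f := fun x : Fin 12 => 2 ^ (x : ℕ)) hsub
      have h511 : ∑ x ∈ (univ : Finset (Fin 12)).filter (fun x : Fin 12 => (x : ℕ) < 9), 2 ^ (x : ℕ) = 511 := by decide +kernel
      rw [mask]; omega
    · rw [pts_mask, he, card_image_of_injective _ π.symm.injective, hlc]; rfl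
  have hw := (hspec _ (lineL_covered _ (hlin l hl))).2 (hp l hl)
  have h1 : (pts (mask (univ.filter fun i => l.testBit (relabelFun p i))) ∪ top).image σ ∈ B := hw.2
  rw [pts_mask] at h1
  show (pts l ∪ top).image (π.symm.trans σ) ∈ B
  convert h1 using 1
  rw [Equiv.coe_trans, ← image_image]
  congr 1
  ext i
  have hπ : π i = relabelFun p i := rfl
  simp only [mem_image, mem_union, mem_filter, mem_univ, true_and, pts]
  constructor
  · rintro ⟨x, hx, rfl⟩
    have hx' : relabelFun p (π.symm x) = x := π.apply_symm_apply x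
    rcases hx with hx | hx
    · left; rw [hx']; exact hx
    · right
      have h9 : ∀ x : Fin 12, x ∈ top → 9 ≤ (x : ℕ) := by decide
      have hpx : π x = x := htop x (h9 x hx)
      rwa [show π.symm x = x from (Equiv.symm_apply_eq π).mpr hpx.symm]
  · intro hi
    refine ⟨π i, ?_, by simp⟩
    rcases hi with h | h
    · left; rw [hπ]; exact h
    · right
      have h9 : ∀ x : Fin 12, x ∈ top → 9 ≤ (x : ℕ) := by decide
      rwa [hπ, htop i (h9 i h)]

end CfsgLib.Steiner.Twelve
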