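/-
Every S(5,6,12) is the standard one after relabelling.
-/
import Cfsg.Agent.Steiner.Twelve

set_option autoImplicit false
set_option maxRecDepth 8000

namespace CfsgLib.Steiner.Twelve

open Finset Cfsg

/-- The top point with index `k`. -/
def topPt (k : Fin 3) : Fin 12 := Fin.ofNat 12 (9 + k)

/-- The other two top points. -/
def others (k : Fin 3) : Finset (Fin 12) := top.erase (topPt k)

theorem arcs_facts : (∀ m ∈ arcs, m < 512 ∧ (pts m).card = 4 ∧ ∀ l ∈ lineL, ¬ pts l ⊆ pts m) := by
  decide +kernel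

theorem tri_facts : ∀ t ∈ triples, ¬ t ∈ lineL → ∀ K, K = arcs.filter (fun m => m &&& t == t) →
    ∀ l ∈ lineL, pts l ≠ pts t := by
  intro t ht hl K _ l hlL h
  have hb : ∀ t ∈ triples, t < 512 := fun t ht => List.mem_range.mp (List.mem_filter.mp ht).1
  have hb' : ∀ l ∈ lineL, l < 4096 := by decide
  exact hl (pts_injOn (hb' l hlL) (by have := hb t ht; omega) h ▸ hlL)

theorem low_facts : ∀ x : Fin 12, x ∈ top ↔ 9 ≤ (x : ℕ) := by decide

theorem others_facts : ∀ k : Fin 3, others k ⊆ top ∧ (others k).card = 2 ∧ topPt k ∉ others k ∧ topPt k ∈ top := by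
  decide +kernel

theorem arc_std : ∀ k : Fin 3, ∀ j : Fin 3, ∀ a ∈ arcL j,
    pts (a + (3584 - 2 ^ (9 + (k : ℕ)))) = pts a ∪ others k := by decide +kernel

theorem arc_std_compl : ∀ k : Fin 3, ∀ a ∈ arcL k,
    pts ((511 - a) + 2 ^ (9 + (k : ℕ))) = (pts a ∪ others k)ᶜ := by decide +kernel

theorem line_std : ∀ l ∈ lineL, pts (l + 3584) = pts l ∪ top ∧ pts (511 - l) = (pts l ∪ top)ᶜ := by decide +kernel

theorem arcs_disjoint : ∀ i : Fin 3, ∀ j : Fin 3, ∀ a ∈ arcL i, a ∈ arcL j → i = j := by decide +kernel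

theorem arcL_nonempty : ∀ i : Fin 3, arcL i ≠ [] := by decide

/-- Permutation of the top from a permutation of indices. -/
def liftTop (ρ : Equiv.Perm (Fin 3)) : Equiv.Perm (Fin 12) :=
  (finSumFinEquiv (m := 9) (n := 3)).permCongr (Equiv.sumCongr (Equiv.refl _) ρ)

theorem liftTop_facts : ∀ ρ : Equiv.Perm (Fin 3), (∀ x : Fin 12, (x : ℕ) < 9 → liftTop ρ x = x) ∧
    (∀ k : Fin 3, (others k).image (liftTop ρ) = others (ρ k)) ∧ top.image (liftTop ρ) = top := by decide +kernel

variable {B : Set (Finset (Fin 12))} (hB : IsSteinerSystem 5 6 B) (hl : ∀ l ∈ lineL, pts l ∪ top ∈ B)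
include hB hl

theorem tri_exact (k : Fin 3) :
    Search.Exact (fun m => m ∈ arcs ∧ pts m ∪ others k ∈ B) triKs := by
  intro K hK
  obtain ⟨t, ht, rfl⟩ := List.mem_map.mp hK
  rw [List.mem_filter] at ht
  have ht512 : t < 512 := List.mem_range.mp (List.mem_filter.mp ht.1).1
  have htc : (pts t).card = 3 := by simpa using (List.mem_filter.mp ht.1).2
  have htnl : t ∉ lineL := by simpa using ht.2
  have hlow : ∀ m < 512, ∀ x ∈ pts m, (x : ℕ) < 9 := by
    intro m hm x hx
    by_contra h
    have h1 := (mem_filter.mp hx).2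
    rw [Nat.testBit_lt_two_pow (lt_of_lt_of_le hm (Nat.pow_le_pow_right (show 1 ≤ 2 by norm_num) (show 9 ≤ (x : ℕ) by omega)))] at h1
    exact Bool.false_ne_true h1
  obtain ⟨hot, hoc, hok, hkt⟩ := others_facts k
  have hdisj : Disjoint (pts t) (others k) := disjoint_left.mpr fun x hx hx' => by
    have := hlow t ht512 x hx
    have := (low_facts x).mp (hot hx')
    omega
  obtain ⟨b, ⟨hb, hsb⟩, hu⟩ := hB.2 (pts t ∪ others k) (by rw [card_union_of_disjoint hdisj, htc, hoc])
  have hkb : topPt k ∉ b := by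
    intro hin
    -- otherwise the three points are collinear
    have htop : top ⊆ b := by
      intro x hx
      by_cases h : x = topPt k
      · exact h ▸ hin
      · exact hsb (mem_union_right _ (mem_erase.mpr ⟨h, hx⟩))
    obtain ⟨p, q, r, hpq, hpr, hqr, hpts⟩ := card_eq_three.mp htc
    have hlines : ∀ p q : Fin 12, (p : ℕ) < 9 → (q : ℕ) < 9 → p ≠ q → ∃ l ∈ lineL, p ∈ pts l ∧ q ∈ pts l := by
      decide +kernel
    have hp : p ∈ pts t := by rw [hpts]; simp
    have hq : q ∈ pts t := by rw [hpts]; simp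
    obtain ⟨l, hlL, hpl, hql⟩ := hlines p q (hlow t ht512 p hp) (hlow t ht512 q hq) hpq
    have hl512 : ∀ l ∈ lineL, l < 512 ∧ (pts l).card = 3 := by decide +kernel
    have hsame : b = pts l ∪ top := by
      obtain ⟨c, -, hu5⟩ := hB.2 (insert p (insert q top)) (by
        rw [card_insert_of_notMem, card_insert_of_notMem]
        · rfl
        · intro h; have := (low_facts q).mp h; have := hlow t ht512 q hq; omega
        · rw [mem_insert]
          rintro (h | h)
          · exact hpq h
          · have := (low_facts p).mp h; have := hlow t ht512 p hp; omega)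
      rw [hu5 b ⟨hb, insert_subset (hsb (mem_union_left _ hp)) (insert_subset (hsb (mem_union_left _ hq)) htop)⟩,
        hu5 _ ⟨hl l hlL, insert_subset (mem_union_left _ hpl) (insert_subset (mem_union_left _ hql) subset_union_right)⟩]
    have hsub : pts t ⊆ pts l := fun x hx => by
      have := hsb (mem_union_left _ hx)
      rw [hsame, mem_union] at this
      refine this.resolve_right fun h => ?_
      have := (low_facts x).mp h
      have := hlow t ht512 x hx
      omega
    have heq := eq_of_subset_of_card_le hsub (by rw [(hl512 l hlL).2, htc])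
    exact htnl (pts_injOn (by omega) (by have := (hl512 l hlL).1; omega) heq ▸ hlL)
  set a := b \ others k with ha
  have hbo : others k ⊆ b := fun x hx => hsb (mem_union_right _ hx)
  have hac : a.card = 4 := by rw [ha, card_sdiff_of_subset hbo, hB.1 b hb, hoc]
  have hau : a ∪ others k = b := sdiff_union_of_subset hbo
  have halow : ∀ x ∈ a, (x : ℕ) < 9 := by
    intro x hx
    rw [ha, mem_sdiff] at hx
    by_contra h
    have hxt := (low_facts x).mpr (not_lt.mp h)
    exact hx.2 (mem_erase.mpr ⟨fun e => hkb (e ▸ hx.1), hxt⟩)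
  have ham : mask a < 512 := by
    have := sum_le_sum_of_subset (f := fun x : Fin 12 => 2 ^ (x : ℕ))
      (show a ⊆ (univ : Finset (Fin 12)).filter (fun x : Fin 12 => (x : ℕ) < 9) from fun x hx => mem_filter.mpr ⟨mem_univ _, halow x hx⟩)
    have h511 : ∑ x ∈ (univ : Finset (Fin 12)).filter (fun x : Fin 12 => (x : ℕ) < 9), 2 ^ (x : ℕ) = 511 := by decide +kernel
    rw [mask]; omega
  have hnoline : ∀ l ∈ lineL, ¬ pts l ⊆ a := by
    intro l hlL hsub
    have hl512 : ∀ l ∈ lineL, l < 512 ∧ (pts l).card = 3 := by decide +kernel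
    have hd : Disjoint (pts l) (others k) := disjoint_left.mpr fun x hx hx' => by
      have := hlow l (hl512 l hlL).1 x hx
      have := (low_facts x).mp (hot hx')
      omega
    obtain ⟨c, -, hu5⟩ := hB.2 (pts l ∪ others k) (by rw [card_union_of_disjoint hd, (hl512 l hlL).2, hoc])
    have h1 := hu5 b ⟨hb, union_subset (hsub.trans sdiff_subset) hbo⟩
    have h2 := hu5 _ ⟨hl l hlL, union_subset_union Subset.rfl hot⟩
    exact hkb ((h1.trans h2.symm) ▸ mem_union_right _ hkt)
  have hchar : ∀ m ∈ List.range 512, m ∈ arcs ↔ ((pts m).card = 4 ∧ ∀ l ∈ lineL, ¬ pts l ⊆ pts m) := by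
    decide +kernel
  have hat : pts t ⊆ a := fun x hx => mem_sdiff.mpr ⟨hsb (mem_union_left _ hx), disjoint_left.mp hdisj hx⟩
  have hsubmask : ∀ m < 512, ∀ t < 512, pts t ⊆ pts m → (m &&& t == t) = true := by
    intro m hm t ht h
    rw [beq_iff_eq]
    apply Nat.eq_of_testBit_eq
    intro i
    rw [Nat.testBit_and]
    cases hi : t.testBit i with
    | false => simp
    | true =>
      have hi9 : i < 12 := by
        by_contra h'
        rw [Nat.testBit_lt_two_pow (lt_of_lt_of_le ht (Nat.pow_le_pow_right (show 1 ≤ 2 by norm_num) (show 9 ≤ i by omega)))] at hi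
        exact Bool.false_ne_true hi
      have := h (mem_filter.mpr ⟨mem_univ (⟨i, hi9⟩ : Fin 12), hi⟩)
      simp [(mem_filter.mp this).2]
  have hmem : mask a ∈ arcs.filter (fun m => m &&& t == t) := by
    refine List.mem_filter.mpr ⟨(hchar _ (List.mem_range.mpr ham)).mpr ⟨by rw [pts_mask]; exact hac,
      by rw [pts_mask]; exact hnoline⟩, hsubmask _ ham t ht512 (by rw [pts_mask]; exact hat)⟩
  refine ⟨_, hmem, ⟨(List.mem_filter.mp hmem).1, by rw [pts_mask, hau]; exact hb⟩, fun m hm hmw => ?_⟩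
  rw [List.mem_filter, beq_iff_eq] at hm
  obtain ⟨hm512, hmc, -⟩ := arcs_facts m hm.1
  have hsub : pts t ⊆ pts m := fun x hx => by
    refine mem_filter.mpr ⟨mem_univ _, ?_⟩
    have := (mem_filter.mp hx).2
    rw [← hm.2, Nat.testBit_and, Bool.and_eq_true] at this
    exact this.1
  have := hu _ ⟨hmw.2, union_subset_union hsub Subset.rfl⟩
  have hma : pts m = a := by
    refine eq_of_subset_of_card_le (fun x hx => mem_sdiff.mpr ⟨this ▸ mem_union_left _ hx, fun hx' => ?_⟩) (by rw [hmc, hac])
    have := hlow m hm512 x hx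
    have := (low_facts x).mp (hot hx')
    omega
  rw [← hma, pts_mask_list m (by omega)]

theorem exists_class (k : Fin 3) : ∃ j : Fin 3, ∀ a ∈ arcL j, pts a ∪ others k ∈ B := by
  obtain ⟨L, hL, hspec⟩ := Search.solve_spec _ _ (tri_exact hB hl k)
  obtain ⟨j, hj, hsub, -⟩ := arc_solutions L hL
  exact ⟨⟨j, hj⟩, fun a ha => ((hspec a (arcL_covered j hj a ha)).2 (hsub a ha)).2⟩

theorem exists_matching : ∃ ρ : Equiv.Perm (Fin 3), ∀ j : Fin 3, ∀ a ∈ arcL j, pts a ∪ others (ρ j) ∈ B := by
  choose f hf using exists_class hB hl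
  have hinj : Function.Injective f := by
    intro i j hij
    by_contra hne
    obtain ⟨a, ha⟩ := List.exists_mem_of_ne_nil _ (arcL_nonempty (f i))
    have h1 := hf i a ha
    have h2 := hf j a (hij ▸ ha)
    have hcov := arcL_covered (f i) (f i).2 a ha
    obtain ⟨K, hK, haK⟩ := hcov
    obtain ⟨t, -, rfl⟩ := List.mem_map.mp hK
    obtain ⟨ha512, ha4, -⟩ := arcs_facts a (List.mem_filter.mp haK).1
    obtain ⟨oi, hoi⟩ : ∃ z, z ∈ others i ∩ others j := by
      have : ∀ i j : Fin 3, (others i ∩ others j).Nonempty := by decide +kernel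
      exact this i j
    have hz : oi ∉ pts a := fun h => by
      have := (low_facts oi).mp ((others_facts i).1 (mem_inter.mp hoi).1)
      have h1 := (mem_filter.mp h).2
      rw [Nat.testBit_lt_two_pow (lt_of_lt_of_le ha512 (Nat.pow_le_pow_right (show 1 ≤ 2 by norm_num) this))] at h1
      exact Bool.false_ne_true h1
    obtain ⟨b, -, hu⟩ := hB.2 (insert oi (pts a)) (by rw [card_insert_of_notMem hz, ha4])
    have h : pts a ∪ others i = pts a ∪ others j :=
      (hu _ ⟨h1, insert_subset (mem_union_right _ (mem_inter.mp hoi).1) subset_union_left⟩).trans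
        (hu _ ⟨h2, insert_subset (mem_union_right _ (mem_inter.mp hoi).2) subset_union_left⟩).symm
    have hk : topPt i ∈ others j := by
      have : ∀ i j : Fin 3, i ≠ j → topPt i ∈ others j := by decide +kernel
      exact this i j hne
    have : topPt i ∈ pts a ∪ others i := h ▸ mem_union_right _ hk
    rcases mem_union.mp this with h' | h'
    · have := (low_facts _).mp (others_facts i).2.2.2
      have h1 := (mem_filter.mp h').2
      rw [Nat.testBit_lt_two_pow (lt_of_lt_of_le ha512 (Nat.pow_le_pow_right (show 1 ≤ 2 by norm_num) this))] at h1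
      exact Bool.false_ne_true h1
    · exact (others_facts i).2.2.1 h'
  let ψ := Equiv.ofBijective f (Finite.injective_iff_bijective.mp hinj)
  refine ⟨ψ.symm, fun j a ha => hf (ψ.symm j) a ?_⟩
  have : f (ψ.symm j) = j := ψ.apply_symm_apply j
  rw [this]; exact ha

omit hl in
theorem exists_standard : ∃ σ : Equiv.Perm (Fin 12), moved σ B = {s | s ∈ (std.map pts).toFinset} := by
  obtain ⟨σ₁, hσ₁⟩ := exists_plane hB
  obtain ⟨ρ, hρ⟩ := exists_matching (steiner_moved σ₁ hB) hσ₁
  obtain ⟨hlow, hoth, htop⟩ := liftTop_facts ρ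
  refine ⟨(liftTop ρ).trans σ₁, ?_⟩
  have hB2 := steiner_moved ((liftTop ρ).trans σ₁) hB
  have hfix : ∀ m < 512, (pts m).image (liftTop ρ) = pts m := by
    intro m hm
    refine (image_congr fun x hx => hlow x ?_).trans image_id
    by_contra h
    have h1 := (mem_filter.mp hx).2
    rw [Nat.testBit_lt_two_pow (lt_of_lt_of_le hm (Nat.pow_le_pow_right (show 1 ≤ 2 by norm_num) (not_lt.mp h)))] at h1
    exact Bool.false_ne_true h1
  have hmov : ∀ s, s.image (liftTop ρ) ∈ moved σ₁ B → s ∈ moved ((liftTop ρ).trans σ₁) B := by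
    intro s hs
    show s.image ((liftTop ρ).trans σ₁) ∈ B
    rw [Equiv.coe_trans, ← image_image]
    exact hs
  have hA : ∀ l ∈ lineL, pts l ∪ top ∈ moved ((liftTop ρ).trans σ₁) B := fun l hl => hmov _ (by
    have hl512 : ∀ l ∈ lineL, l < 512 := by decide
    rw [image_union, hfix l (hl512 l hl), htop]; exact hσ₁ l hl)
  have hC : ∀ j : Fin 3, ∀ a ∈ arcL j, pts a ∪ others j ∈ moved ((liftTop ρ).trans σ₁) B := fun j a ha => hmov _ (by
    obtain ⟨K, hK, haK⟩ := arcL_covered j j.2 a ha
    obtain ⟨t, -, rfl⟩ := List.mem_map.mp hK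
    rw [image_union, hfix a (arcs_facts a (List.mem_filter.mp haK).1).1, hoth]; exact hρ j a ha)
  have hsub : ∀ s ∈ (std.map pts).toFinset, s ∈ moved ((liftTop ρ).trans σ₁) B := by
    intro s hs
    rw [List.mem_toFinset, List.mem_map] at hs
    obtain ⟨m, hm, rfl⟩ := hs
    rcases List.mem_append.mp hm with hm | hm
    · rcases List.mem_append.mp hm with hm | hm <;> obtain ⟨l, hl', rfl⟩ := List.mem_map.mp hm
      · rw [(line_std l hl').1]; exact hA l hl'
      · rw [(line_std l hl').2]; exact compl_mem hB2 (hA l hl')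
    · obtain ⟨k, hk, hm⟩ := List.mem_flatMap.mp hm
      rw [List.mem_range] at hk
      rcases List.mem_append.mp hm with hm | hm <;> obtain ⟨a, ha, rfl⟩ := List.mem_map.mp hm
      · have := arc_std ⟨k, hk⟩ ⟨k, hk⟩ a ha
        rw [this]; exact hC ⟨k, hk⟩ a ha
      · have := arc_std_compl ⟨k, hk⟩ a ha
        rw [this]; exact compl_mem hB2 (hC ⟨k, hk⟩ a ha)
  have hcard : (blocks (moved ((liftTop ρ).trans σ₁) B)).card = 132 := by
    have h := count_mul hB2 ∅ (by simp)
    rw [filter_true_of_mem (fun c _ => empty_subset c), card_empty, Fintype.card_fin] at h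
    norm_num [Nat.choose] at h
    omega
  ext s
  have heq : (std.map pts).toFinset = blocks (moved ((liftTop ρ).trans σ₁) B) :=
    eq_of_subset_of_card_le (fun s hs => mem_blocks.mpr (hsub s hs)) (by rw [hcard, std_card])
  show _ ↔ s ∈ (std.map pts).toFinset
  rw [heq, mem_blocks]

end CfsgLib.Steiner.Twelve
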