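/-
The systems S(5,6,12) and S(4,5,11) and their automorphism groups.
-/
import Cfsg.Agent.Steiner.TwelveUnique
import Cfsg.Agent.Steiner.Transport
import Cfsg.Agent.Golay.MathieuSmall

set_option autoImplicit false

namespace CfsgLib.Steiner

open Finset Cfsg MulAction
open scoped Pointwise

namespace Twelve

/-- The blocks of the standard system. -/
def stdSet : Set (Finset (Fin 12)) := {s | s ∈ (std.map pts).toFinset}

/-- The six points outside the reference block. -/
def outs : List (Fin 12) := [3, 4, 5, 6, 7, 8]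

/-- Four-subsets of the reference block, as masks. -/
def fours : List ℕ := (List.range 4096).filter fun m => m &&& 3591 == m && (pts m).card == 4

/-- The reference five points. -/
def fivePts : Fin 5 ↪ Fin 12 := ⟨![0, 1, 2, 9, 10], by decide⟩

theorem fours_lt : ∀ T ∈ fours, T < 4096 := fun _ hT => List.mem_range.mp (List.mem_filter.mp hT).1

theorem rigid_check : ∀ p ∈ outs, ∀ p' ∈ outs, p ≠ p' → ∃ q ∈ outs, q ≠ p ∧ ∀ q' ∈ outs, q' ≠ p' →
    ∃ T ∈ fours, (T + 2 ^ (p : ℕ) + 2 ^ (q : ℕ)) ∈ std ∧ (T + 2 ^ (p' : ℕ) + 2 ^ (q' : ℕ)) ∉ std := by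
  decide +kernel

theorem outs_add : ∀ p ∈ outs, ∀ q ∈ outs, q ≠ p → ∀ T ∈ fours,
    pts (T + 2 ^ (p : ℕ) + 2 ^ (q : ℕ)) = pts T ∪ {p, q} ∧ T + 2 ^ (p : ℕ) + 2 ^ (q : ℕ) < 4096 := by
  decide +kernel

theorem fours_sub : ∀ T ∈ fours, pts T ⊆ pts 3591 := by decide +kernel

theorem std_lt : ∀ m ∈ std, m < 4096 := by decide +kernel

theorem ref_mem : pts 3591 ∈ stdSet :=
  List.mem_toFinset.mpr (List.mem_map_of_mem (by decide +kernel))

theorem ref_split : pts 3591 = insert 11 (univ.map fivePts) ∧ ∀ x : Fin 12, x ∉ pts 3591 → x ∈ outs := by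
  decide +kernel

theorem rigid (hstd : IsSteinerSystem 5 6 stdSet) {g : Equiv.Perm (Fin 12)} (hg : g ∈ setSystemAut stdSet)
    (hfix : ∀ i, g (fivePts i) = fivePts i) : g = 1 := by
  rw [mem_aut_iff] at hg
  have hs : (univ.map fivePts).image g = univ.map fivePts := by
    rw [map_eq_image, image_image]
    exact image_congr fun i _ => hfix i
  have hh : (pts 3591).image g = pts 3591 := by
    obtain ⟨b, -, hu⟩ := hstd.2 (univ.map fivePts) (by simp)
    refine (hu _ ⟨hg _ ref_mem, ?_⟩).trans (hu _ ⟨ref_mem, ?_⟩).symm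
    · conv_lhs => rw [← hs]
      exact image_subset_image (by rw [ref_split.1]; exact subset_insert _ _)
    · rw [ref_split.1]; exact subset_insert _ _
  have h11 : g 11 = 11 := by
    have h : g 11 ∈ pts 3591 := hh ▸ mem_image_of_mem g (by rw [ref_split.1]; exact mem_insert_self _ _)
    rw [ref_split.1, mem_insert] at h
    refine h.resolve_right fun h' => ?_
    obtain ⟨i, -, hi⟩ := mem_map.mp h'
    have hne : ∀ i, fivePts i ≠ (11 : Fin 12) := by decide
    exact hne i (g.injective ((hfix i).trans hi))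
  have hin : ∀ x ∈ pts 3591, g x = x := by
    intro x hx
    rw [ref_split.1, mem_insert] at hx
    rcases hx with rfl | hx
    · exact h11
    · obtain ⟨i, -, rfl⟩ := mem_map.mp hx
      exact hfix i
  have hout : ∀ x ∈ outs, g x ∈ outs := by
    intro x hx
    refine ref_split.2 _ fun h => ?_
    have hd : ∀ x ∈ outs, x ∉ pts 3591 := by decide +kernel
    exact hd x hx (g.injective (hin _ h) ▸ h)
  refine Equiv.ext fun p => ?_
  by_cases hp : p ∈ pts 3591
  · exact hin p hp
  by_contra hne
  have hpo := ref_split.2 p hp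
  obtain ⟨q, hqo, hqp, hq⟩ := rigid_check p hpo (g p) (hout p hpo) (fun h => hne h.symm)
  have hgq : g q ≠ g p := g.injective.ne hqp
  obtain ⟨T, hT, hin', hnot⟩ := hq (g q) (hout q hqo) hgq
  have h := hg _ (List.mem_toFinset.mpr (List.mem_map_of_mem hin') :
    pts (T + 2 ^ (p : ℕ) + 2 ^ (q : ℕ)) ∈ stdSet)
  rw [(outs_add p hpo q hqo hqp T hT).1, image_union,
    (image_congr fun x hx => hin x (fours_sub T hT hx)).trans image_id, image_insert, image_singleton,
    ← (outs_add (g p) (hout p hpo) (g q) (hout q hqo) hgq T hT).1] at h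
  obtain ⟨m, hm, hme⟩ := List.mem_map.mp (List.mem_toFinset.mp h)
  exact hnot (pts_injOn (std_lt m hm) (outs_add (g p) (hout p hpo) (g q) (hout q hqo) hgq T hT).2 hme ▸ hm)

end Twelve

variable {α β : Type*} [Fintype α] [DecidableEq α] [Fintype β] [DecidableEq β]

omit [Fintype α] [Fintype β] in
theorem steiner_image (e : α ≃ β) {t k : ℕ} {B : Set (Finset α)} (hB : IsSteinerSystem t k B) :
    IsSteinerSystem t k ((fun b => b.image e) '' B) := by
  refine ⟨?_, fun s hs => ?_⟩
  · rintro _ ⟨b, hb, rfl⟩
    rw [card_image_of_injective _ e.injective]; exact hB.1 b hb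
  · have hss : (s.image e.symm).image e = s := by rw [image_image]; simp
    obtain ⟨b, ⟨hb, hsb⟩, hu⟩ := hB.2 (s.image e.symm) (by rw [card_image_of_injective _ e.symm.injective, hs])
    refine ⟨b.image e, ⟨⟨b, hb, rfl⟩, hss ▸ image_subset_image hsb⟩, ?_⟩
    rintro _ ⟨⟨c, hc, rfl⟩, hsc⟩
    refine congrArg (fun b : Finset α => b.image e) (hu c ⟨hc, ?_⟩)
    rw [← image_subset_image_iff e.injective, hss]
    exact hsc

variable {B : Set (Finset α)} {B' : Set (Finset β)}

theorem exists_iso_std (hB : IsSteinerSystem 5 6 B) (hα : Fintype.card α = 12) :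
    ∃ e : α ≃ Fin 12, (fun b => b.image e) '' B = Twelve.stdSet := by
  let e0 := Fintype.equivFinOfCardEq hα
  obtain ⟨σ, hσ⟩ := Twelve.exists_standard (steiner_image e0 hB)
  refine ⟨e0.trans σ.symm, ?_⟩
  rw [Twelve.stdSet, ← hσ]
  ext s
  constructor
  · rintro ⟨b, hb, rfl⟩
    refine ⟨b, hb, ?_⟩
    show b.image e0 = (b.image (e0.trans σ.symm)).image σ
    rw [image_image]
    exact image_congr fun x _ => by simp
  · rintro ⟨b, hb, hbs⟩
    refine ⟨b, hb, ?_⟩
    show b.image (e0.trans σ.symm) = s
    have h : (b.image e0).image σ.symm = s := by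
      have hbs' : b.image e0 = s.image σ := hbs
      rw [hbs', image_image]; simp
    rw [← h, image_image]; rfl

theorem iso12 (hB : IsSteinerSystem 5 6 B) (hα : Fintype.card α = 12) (hB' : IsSteinerSystem 5 6 B')
    (hβ : Fintype.card β = 12) : SetSystemIso B B' := by
  obtain ⟨e, he⟩ := exists_iso_std hB hα
  obtain ⟨f, hf⟩ := exists_iso_std hB' hβ
  refine ⟨e.trans f.symm, ?_⟩
  have h2 : (fun b : Finset (Fin 12) => b.image f.symm) '' Twelve.stdSet = B' := by
    rw [← hf, Set.image_image]
    convert Set.image_id B' using 2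
    ext b; simp [image_image]
  rw [← h2, ← he, Set.image_image]
  refine Set.image_congr fun b _ => ?_
  rw [image_image]; rfl

theorem natCard_embedding {n : ℕ} : Nat.card (Fin n ↪ α) = (Fintype.card α).descFactorial n := by
  rw [Nat.card_eq_fintype_card, Fintype.card_embedding_eq, Fintype.card_fin]

theorem aut12_full (hB : IsSteinerSystem 5 6 B) (hα : Fintype.card α = 12) {d : Finset GolayPt}
    (hd : d ∈ dodecads) :
    (∃ z : {p // p ∈ d} ≃ α, ∃ ψ : stabilizer M24 d ≃* setSystemAut B, ∀ (g : stabilizer M24 d) (p : {p // p ∈ d}),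
      (ψ g : Equiv.Perm α) (z p) = z ⟨g • (p : GolayPt), (Golay.mem_iff_of_stab g _).mpr p.2⟩) ∧
      IsMultiplyPretransitive (setSystemAut B) α 5 ∧
      (∀ x : Fin 5 ↪ α, stabilizer (setSystemAut B) x = ⊥) ∧ Nat.card (setSystemAut B) = 95040 := by
  obtain ⟨e, he⟩ := exists_iso_std hB hα
  have hstd : IsSteinerSystem 5 6 Twelve.stdSet := he ▸ steiner_image e hB
  let x0 : Fin 5 ↪ α := Twelve.fivePts.trans e.symm.toEmbedding
  have hinj : Function.Injective fun g : setSystemAut B => g • x0 := by
    intro a b hab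
    have h1 : (b⁻¹ * a) • x0 = x0 :=
      ((mul_smul b⁻¹ a x0).trans (congrArg (b⁻¹ • ·) hab)).trans (inv_smul_smul b x0)
    have h2 := Twelve.rigid hstd (autEquiv e he (b⁻¹ * a)).2 fun i => by
      have h := autEquiv_apply e he (b⁻¹ * a) (x0 i)
      have h3 : ((b⁻¹ * a : setSystemAut B) : Equiv.Perm α) (x0 i) = x0 i :=
        congrArg (fun t : Fin 5 ↪ α => t i) h1
      rw [h3] at h
      simpa [x0] using h
    have : b⁻¹ * a = 1 := (autEquiv e he).injective (by rw [map_one]; exact Subtype.ext h2)
    exact (inv_mul_eq_one.mp this).symm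
  have hle : Nat.card (setSystemAut B) ≤ 95040 := by
    have := Nat.card_le_card_of_injective _ hinj
    rwa [natCard_embedding, hα] at this
  have hX : Fintype.card {p // p ∈ d} = 12 := by rw [Fintype.card_coe, Golay.dodecad_card hd]
  obtain ⟨z, hz⟩ := iso12 (Golay.hexads_steiner hd) hX hB hα
  let act : stabilizer M24 d →* Equiv.Perm {p // p ∈ d} :=
    { toFun := fun g => (g : M24).1.subtypePerm fun p => (Golay.mem_iff_of_stab g p).symm.symm
      map_one' := by ext; rfl
      map_mul' := fun _ _ => by ext; rfl }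
  have hact : ∀ g (p : {p // p ∈ d}), (act g p : GolayPt) = g • (p : GolayPt) := fun _ _ => rfl
  have hmem : ∀ g, act g ∈ setSystemAut {h : Finset {p : GolayPt // p ∈ d} |
      ∃ o ∈ octads, (o ∩ d).card = 6 ∧ h = Finset.subtype (fun p => p ∈ d) o} := by
    intro g
    rw [mem_aut_iff]
    rintro _ ⟨o, ho, h6, rfl⟩
    refine ⟨o.image (g : M24).1, Golay.M24_octad (g : M24).2 ho, ?_, ?_⟩
    · rw [← h6, ← card_image_of_injective (o ∩ d) (g : M24).1.injective, image_inter _ _ (g : M24).1.injective]
      congr 2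
      have := mem_stabilizer_iff.mp g.2
      rw [Golay.smul_finset_eq_image] at this
      exact this.symm
    · ext ⟨p, hp⟩
      simp only [mem_image, mem_subtype, Subtype.exists]
      constructor
      · rintro ⟨a, ha, hao, h⟩
        exact ⟨a, hao, congrArg Subtype.val h⟩
      · rintro ⟨a, hao, rfl⟩
        exact ⟨a, (Golay.mem_iff_of_stab g a).mp hp, hao, Subtype.ext rfl⟩
  let ι : stabilizer M24 d →* setSystemAut B := (autEquiv z hz).toMonoidHom.comp (act.codRestrict _ hmem)
  have hιinj : Function.Injective ι := by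
    refine (autEquiv z hz).injective.comp fun a b h => Golay.eq_of_agree hd fun x hx => ?_
    exact congrArg Subtype.val (congrArg (fun f : Equiv.Perm {p // p ∈ d} => f ⟨x, hx⟩) (congrArg Subtype.val h))
  have hcard : Nat.card (setSystemAut B) = 95040 :=
    le_antisymm hle (Golay.card_dodecad_stabilizer hd ▸ Nat.card_le_card_of_injective _ hιinj)
  let ψ := MulEquiv.ofBijective ι ((Nat.bijective_iff_injective_and_card ι).mpr
    ⟨hιinj, (Golay.card_dodecad_stabilizer hd).trans hcard.symm⟩)
  have hbij := (Nat.bijective_iff_injective_and_card fun g : setSystemAut B => g • x0).mpr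
    ⟨hinj, by rw [hcard, natCard_embedding, hα]; rfl⟩
  refine ⟨⟨z, ψ, fun g p => autEquiv_apply z hz _ p⟩, ⟨fun x y => ?_⟩, fun x => ?_, hcard⟩
  · obtain ⟨a, ha⟩ := hbij.2 x
    obtain ⟨b, hb⟩ := hbij.2 y
    refine ⟨b * a⁻¹, ?_⟩
    simp only at ha hb
    exact ((congrArg ((b * a⁻¹) • ·) ha.symm).trans ((mul_smul b a⁻¹ _).trans
      (congrArg (b • ·) (inv_smul_smul a x0)))).trans hb
  · obtain ⟨a, ha⟩ := hbij.2 x
    simp only at ha
    refine (Subgroup.eq_bot_iff_forall _).mpr fun g hg => ?_
    have hga : (g * a) • x0 = a • x0 :=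
      (mul_smul g a x0).trans ((congrArg (g • ·) ha).trans ((mem_stabilizer_iff.mp hg).trans ha.symm))
    exact mul_eq_right.mp (hbij.1 hga)

theorem aut12 (hB : IsSteinerSystem 5 6 B) (hα : Fintype.card α = 12) :
    IsM12 (setSystemAut B) ∧ IsMultiplyPretransitive (setSystemAut B) α 5 ∧
      ∀ x : Fin 5 ↪ α, stabilizer (setSystemAut B) x = ⊥ := by
  obtain ⟨⟨z, ψ, -⟩, ht, hs, hc⟩ := aut12_full hB hα Golay.refDodecad_mem
  haveI := Golay.m12_simple Golay.refDodecad_mem
  exact ⟨⟨ψ.symm.isSimpleGroup, hc⟩, ht, hs⟩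

/-! ### The eleven-point systems -/

/-- The one-point extension of a system on eleven points. -/
def ext11 (B : Set (Finset α)) : Set (Finset (Option α)) :=
  {s | ∃ b ∈ B, s = insertNone b ∨ s = bᶜ.map Function.Embedding.some}

theorem insertNone_mem_ext11 {b : Finset α} : insertNone b ∈ ext11 B ↔ b ∈ B := by
  constructor
  · rintro ⟨c, hc, h | h⟩
    · exact (insertNone.injective h) ▸ hc
    · have : (none : Option α) ∈ bᶜᶜ.map Function.Embedding.some ∪ insertNone b :=
        mem_union_right _ (none_mem_insertNone)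
      have h' : (none : Option α) ∈ cᶜ.map Function.Embedding.some := h ▸ none_mem_insertNone
      simp at h'
  · exact fun hb => ⟨b, hb, Or.inl rfl⟩

theorem steiner_ext11 (hB : IsSteinerSystem 4 5 B) (hα : Fintype.card α = 11) :
    IsSteinerSystem 5 6 (ext11 B) := by
  refine ⟨?_, fun s hs => ?_⟩
  · rintro _ ⟨b, hb, rfl | rfl⟩
    · rw [card_insertNone, hB.1 b hb]
    · rw [card_map, card_compl, hα, hB.1 b hb]
  by_cases hn : none ∈ s
  · have hsn : insertNone (eraseNone s) = s := by
      ext (_ | a) <;> simp [hn]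
    have hc : (eraseNone s).card = 4 := by
      have := card_insertNone (eraseNone s)
      rw [hsn, hs] at this
      omega
    obtain ⟨b, ⟨hb, hsb⟩, hu⟩ := hB.2 _ hc
    refine ⟨insertNone b, ⟨insertNone_mem_ext11.mpr hb, by rw [← hsn]; exact insertNone.monotone hsb⟩, ?_⟩
    rintro _ ⟨⟨c, hc, rfl | rfl⟩, hsc⟩
    · refine congrArg insertNone (hu c ⟨hc, ?_⟩)
      have := eraseNone.monotone hsc
      rwa [eraseNone_insertNone] at this
    · exact absurd (hsc hn) (by simp)
  · set t := eraseNone s with ht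
    have hst : t.map Function.Embedding.some = s := by
      ext (_ | a) <;> simp [t, hn]
    have htc : t.card = 5 := by rw [← hs, ← hst, card_map]
    have h0 := moment hB (i := 0) (n := 66) (by norm_num) (by rw [hα]; decide) (by decide) t
    have h1 := moment hB (i := 1) (n := 30) (by norm_num) (by rw [hα]; decide) (by decide) t
    have h2 := moment hB (i := 2) (n := 12) (by norm_num) (by rw [hα]; decide) (by decide) t
    have h3 := moment hB (i := 3) (n := 4) (by norm_num) (by rw [hα]; decide) (by decide) t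
    have h4 := moment hB (i := 4) (n := 1) (by norm_num) (by rw [hα]; decide) (by decide) t
    have hlt : ∀ c ∈ blocks B, (t ∩ c).card < 6 := fun c _ => by
      have := card_le_card (inter_subset_left : t ∩ c ⊆ t); omega
    rw [sum_meet hlt (fun j => j.choose 0), htc] at h0
    rw [sum_meet hlt (fun j => j.choose 1), htc] at h1
    rw [sum_meet hlt (fun j => j.choose 2), htc] at h2
    rw [sum_meet hlt (fun j => j.choose 3), htc] at h3
    rw [sum_meet hlt (fun j => j.choose 4), htc] at h4
    simp only [sum_range_succ, sum_range_zero] at h0 h1 h2 h3 h4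
    norm_num [Nat.choose] at h0 h1 h2 h3 h4
    have hsum : meet (blocks B) t 0 + meet (blocks B) t 5 = 1 := by omega
    have h5 : ∀ b, b ∈ blocks B → ((t ∩ b).card = 5 ↔ b = t) := fun b hb => by
      constructor
      · intro h
        have h1 := eq_of_subset_of_card_le (inter_subset_left : t ∩ b ⊆ t) (by omega)
        exact (eq_of_subset_of_card_le (inter_eq_left.mp h1) (by rw [block_card hB hb, htc])).symm
      · rintro rfl; rw [inter_self, htc]
    rcases Nat.add_eq_one_iff.mp hsum with ⟨hm0, hm5⟩ | ⟨hm0, hm5⟩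
    · obtain ⟨b, hb⟩ := card_eq_one.mp hm5
      obtain ⟨hbB, hb5⟩ := mem_filter.mp (hb.ge (mem_singleton_self b))
      obtain rfl := (h5 b hbB).mp hb5
      refine ⟨insertNone t, ⟨insertNone_mem_ext11.mpr (mem_blocks.mp hbB), fun x hx => ?_⟩, ?_⟩
      · rw [← hst] at hx; obtain ⟨a, ha, rfl⟩ := mem_map.mp hx; simpa using ha
      · rintro _ ⟨⟨c, hc, rfl | rfl⟩, hsc⟩
        · refine congrArg insertNone (eq_of_subset_of_card_le (fun a ha => ?_) (by rw [hB.1 c hc, htc])).symm
          exact some_mem_insertNone.mp (hsc (hst ▸ mem_map_of_mem Function.Embedding.some ha))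
        · exfalso
          have : c ∈ (blocks B).filter fun c => (t ∩ c).card = 0 := by
            refine mem_filter.mpr ⟨mem_blocks.mpr hc, card_eq_zero.mpr (eq_empty_of_forall_notMem fun a ha => ?_)⟩
            have h := hsc (hst ▸ mem_map_of_mem Function.Embedding.some (mem_inter.mp ha).1)
            simp at h
            exact h (mem_inter.mp ha).2
          rw [card_eq_zero.mp hm0] at this
          exact notMem_empty _ this
    · obtain ⟨b, hb⟩ := card_eq_one.mp hm0
      obtain ⟨hbB, hb0⟩ := mem_filter.mp (hb.ge (mem_singleton_self b))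
      refine ⟨bᶜ.map Function.Embedding.some, ⟨⟨b, mem_blocks.mp hbB, Or.inr rfl⟩, ?_⟩, ?_⟩
      · rw [← hst, map_subset_map]
        exact fun a ha => mem_compl.mpr fun hab => by
          have := mem_inter.mpr ⟨ha, hab⟩
          rw [card_eq_zero.mp hb0] at this
          exact notMem_empty _ this
      · rintro _ ⟨⟨c, hc, rfl | rfl⟩, hsc⟩
        · exfalso
          have hsub : t ⊆ c := fun a ha =>
            some_mem_insertNone.mp (hsc (hst ▸ mem_map_of_mem Function.Embedding.some ha))
          have : c ∈ (blocks B).filter fun c => (t ∩ c).card = 5 :=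
            mem_filter.mpr ⟨mem_blocks.mpr hc, by rw [inter_eq_left.mpr hsub, htc]⟩
          rw [card_eq_zero.mp hm5] at this
          exact notMem_empty _ this
        · rw [← hst, map_subset_map] at hsc
          have : c ∈ (blocks B).filter fun c => (t ∩ c).card = 0 :=
            mem_filter.mpr ⟨mem_blocks.mpr hc, card_eq_zero.mpr (eq_empty_of_forall_notMem fun a ha =>
              mem_compl.mp (hsc (mem_inter.mp ha).1) (mem_inter.mp ha).2)⟩
          have hcb : c = b := mem_singleton.mp (hb ▸ this)
          rw [hcb]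

theorem image_insertNone (π : α ≃ β) (b : Finset α) :
    insertNone (b.image π) = (insertNone b).image (Equiv.optionCongr π) := by
  ext (_ | y) <;> simp

theorem iso11 (hB : IsSteinerSystem 4 5 B) (hα : Fintype.card α = 11) (hB' : IsSteinerSystem 4 5 B')
    (hβ : Fintype.card β = 11) : SetSystemIso B B' := by
  have hX : Fintype.card (Option α) = 12 := by rw [Fintype.card_option, hα]
  have hY : Fintype.card (Option β) = 12 := by rw [Fintype.card_option, hβ]
  obtain ⟨f, hf⟩ := iso12 (steiner_ext11 hB hα) hX (steiner_ext11 hB' hβ) hY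
  haveI := (aut12 (steiner_ext11 hB' hβ) hY).2.1
  haveI : IsPretransitive (setSystemAut (ext11 B')) (Option β) := by
    have := isMultiplyPretransitive_of_le (G := setSystemAut (ext11 B')) (α := Option β) (m := 1) (n := 5)
      (by norm_num) (by rw [Nat.card_eq_fintype_card, hY]; norm_num)
    exact (is_one_pretransitive_iff).mp this
  obtain ⟨g, hg⟩ := exists_smul_eq (setSystemAut (ext11 B')) (f none) none
  let E : Option α ≃ Option β := f.trans (g : Equiv.Perm (Option β))
  have hE0 : E none = none := hg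
  let π : α ≃ β := Equiv.removeNone E
  have hEeq : Equiv.optionCongr π = E := Equiv.ext fun o => by
    rcases o with _ | a
    · simp [hE0]
    · show some (π a) = _
      exact Equiv.removeNone_some _ (by
        rcases h : E (some a) with _ | y
        · exact absurd (E.injective (h.trans hE0.symm)) (by simp)
        · exact ⟨y, rfl⟩)
  refine ⟨π, ?_⟩
  refine Set.eq_of_subset_of_ncard_le ?_ ?_ (Set.toFinite _)
  · rintro _ ⟨b, hb, rfl⟩
    rw [← insertNone_mem_ext11, image_insertNone, hEeq, show ⇑E = (g : Equiv.Perm (Option β)) ∘ f from rfl,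
      ← image_image]
    exact (mem_aut_iff.mp g.2) _ (hf ▸ ⟨_, insertNone_mem_ext11.mpr hb, rfl⟩)
  · rw [Set.ncard_image_of_injective _ (image_injective π.injective), ← card_blocks, ← card_blocks]
    have h1 := moment hB (i := 0) (n := 66) (by norm_num) (by rw [hα]; decide) (by decide) ∅
    have h2 := moment hB' (i := 0) (n := 66) (by norm_num) (by rw [hβ]; decide) (by decide) ∅
    simp at h1 h2
    omega

theorem optionCongr_mem {g : Equiv.Perm α} (hg : g ∈ setSystemAut B) :
    Equiv.optionCongr g ∈ setSystemAut (ext11 B) := by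
  rw [mem_aut_iff] at hg ⊢
  rintro _ ⟨b, hb, rfl | rfl⟩
  · rw [← image_insertNone]; exact insertNone_mem_ext11.mpr (hg b hb)
  · refine ⟨b.image g, hg b hb, Or.inr ?_⟩
    ext (_ | y)
    · simp
    · obtain ⟨a, rfl⟩ := g.surjective y
      simp

theorem exists_restrict {g : Equiv.Perm (Option α)} (hg : g ∈ setSystemAut (ext11 B)) (h0 : g none = none) :
    ∃ h ∈ setSystemAut B, Equiv.optionCongr h = g := by
  let π : Equiv.Perm α := Equiv.removeNone g
  have hEeq : Equiv.optionCongr π = g := Equiv.ext fun o => by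
    rcases o with _ | a
    · simp [h0]
    · show some (π a) = _
      exact Equiv.removeNone_some _ (by
        rcases h : g (some a) with _ | y
        · exact absurd (g.injective (h.trans h0.symm)) (by simp)
        · exact ⟨y, rfl⟩)
  refine ⟨π, mem_aut_iff.mpr fun b hb => ?_, hEeq⟩
  rw [← insertNone_mem_ext11, image_insertNone, hEeq]
  exact mem_aut_iff.mp hg _ (insertNone_mem_ext11.mpr hb)

theorem aut11 (hB : IsSteinerSystem 4 5 B) (hα : Fintype.card α = 11) :
    IsM11 (setSystemAut B) ∧ IsMultiplyPretransitive (setSystemAut B) α 4 ∧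
      ∀ x : Fin 4 ↪ α, stabilizer (setSystemAut B) x = ⊥ := by
  have hX : Fintype.card (Option α) = 12 := by rw [Fintype.card_option, hα]
  obtain ⟨⟨z, ψ, hψ⟩, ht, hs, -⟩ := aut12_full (steiner_ext11 hB hα) hX Golay.refDodecad_mem
  let lift : (Fin 4 ↪ α) → (Fin 5 ↪ Option α) := fun x => ⟨Fin.cons none (some ∘ x), by
    rw [Fin.cons_injective_iff]
    exact ⟨by simp, (Option.some_injective α).comp x.injective⟩⟩
  let up : setSystemAut B →* setSystemAut (ext11 B) :=
    { toFun := fun g => ⟨Equiv.optionCongr g, optionCongr_mem g.2⟩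
      map_one' := by ext o; rcases o with _ | a <;> rfl
      map_mul' := fun a b => by ext o; rcases o with _ | c <;> rfl }
  have hup : Function.Injective up := fun a b h => Subtype.ext (Equiv.ext fun x => Option.some_injective α
    (congrArg (fun g : Equiv.Perm (Option α) => g (some x)) (congrArg Subtype.val h)))
  have hstab : ∀ x : Fin 4 ↪ α, stabilizer (setSystemAut B) x = ⊥ := by
    intro x
    refine (Subgroup.eq_bot_iff_forall _).mpr fun g hg => hup ?_
    rw [map_one]
    refine (Subgroup.eq_bot_iff_forall _).mp (hs (lift x)) _ (mem_stabilizer_iff.mpr (Function.Embedding.ext fun i => ?_))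
    refine Fin.cases ?_ (fun j => ?_) i
    · rfl
    · show Equiv.optionCongr (g : Equiv.Perm α) (some (x j)) = some (x j)
      have h := congrArg (fun t : Fin 4 ↪ α => t j) (mem_stabilizer_iff.mp hg)
      exact congrArg some h
  have htrans : IsMultiplyPretransitive (setSystemAut B) α 4 := ⟨fun x y => by
    haveI := ht
    obtain ⟨g, hg⟩ := exists_smul_eq (setSystemAut (ext11 B)) (lift x) (lift y)
    have hg0 : (g : Equiv.Perm (Option α)) none = none := congrArg (fun t : Fin 5 ↪ Option α => t 0) hg
    obtain ⟨h, hh, he⟩ := exists_restrict g.2 hg0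
    refine ⟨⟨h, hh⟩, Function.Embedding.ext fun j => Option.some_injective α ?_⟩
    have h' : (g : Equiv.Perm (Option α)) (some (x j)) = some (y j) :=
      congrArg (fun t : Fin 5 ↪ Option α => t j.succ) hg
    rw [← he] at h'
    exact h'⟩
  have hcard : Nat.card (setSystemAut B) = 7920 := by
    obtain ⟨x⟩ : Nonempty (Fin 4 ↪ α) := Function.Embedding.nonempty_of_card_le (by rw [Fintype.card_fin, hα]; norm_num)
    haveI := htrans
    have h : Function.Bijective fun g : setSystemAut B => g • x := by
      refine ⟨fun a b hab => ?_, fun y => exists_smul_eq _ x y⟩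
      have : b⁻¹ * a ∈ stabilizer (setSystemAut B) x :=
        mem_stabilizer_iff.mpr (((mul_smul b⁻¹ a x).trans (congrArg (b⁻¹ • ·) hab)).trans (inv_smul_smul b x))
      rw [hstab x, Subgroup.mem_bot] at this
      exact (inv_mul_eq_one.mp this).symm
    rw [Nat.card_eq_of_bijective _ h, natCard_embedding, hα]; rfl
  refine ⟨⟨?_, hcard⟩, htrans, hstab⟩
  set p := z.symm none with hp
  let θ : setSystemAut B →* stabilizer M24 Golay.refDodecad := ψ.symm.toMonoidHom.comp up
  have hθ : ∀ g, ((θ g : stabilizer M24 Golay.refDodecad) : M24) ∈ stabilizer M24 Golay.refDodecad ⊓ stabilizer M24 (p : GolayPt) := by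
    intro g
    refine ⟨(θ g).2, mem_stabilizer_iff.mpr ?_⟩
    have h := hψ (θ g) p
    rw [show ψ (θ g) = up g from ψ.apply_symm_apply _, hp, Equiv.apply_symm_apply] at h
    have h' := congrArg z.symm h
    rw [Equiv.symm_apply_apply] at h'
    exact (congrArg Subtype.val h').symm
  let θ' : setSystemAut B →* ↥(stabilizer M24 Golay.refDodecad ⊓ stabilizer M24 (p : GolayPt)) :=
    ((stabilizer M24 Golay.refDodecad).subtype.comp θ).codRestrict _ hθ
  have hinj : Function.Injective θ' := fun a b h => by
    have h1 : θ a = θ b := Subtype.ext (congrArg (fun u => (u : M24)) (congrArg Subtype.val h) :)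
    exact hup (ψ.symm.injective h1)
  haveI := Golay.m11_simple Golay.refDodecad_mem p.2
  exact (MulEquiv.ofBijective θ' ((Nat.bijective_iff_injective_and_card θ').mpr
    ⟨hinj, hcard.trans (Golay.m11_card Golay.refDodecad_mem p.2).symm⟩)).isSimpleGroup

end CfsgLib.Steiner
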