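/-
The length 24 code attached to a Steiner system S(3,6,22).
-/
import Cfsg.Agent.Steiner.FromSystem

set_option autoImplicit false

namespace CfsgLib.Steiner

open Finset

variable {α : Type*} [Fintype α] [DecidableEq α] {B : Set (Finset α)}
  (hB : Cfsg.IsSteinerSystem 3 6 B) (hα : Fintype.card α = 22)

/-- Block extended by the two new points. -/
def lift22 (b : Finset α) : Finset (Option (Option α)) := insertNone (insertNone b)

theorem lift22_inter (b c : Finset α) : (lift22 b ∩ lift22 c).card = (b ∩ c).card + 2 := by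
  rw [lift22, lift22, insertNone_inter, insertNone_inter]

omit [Fintype α] [DecidableEq α] in
theorem card_lift22 (b : Finset α) : (lift22 b).card = b.card + 2 := by
  rw [lift22, card_insertNone, card_insertNone]

/-- Span of the blocks. -/
def code22small (B : Set (Finset α)) : Submodule (ZMod 2) (α → ZMod 2) := Submodule.span (ZMod 2) (ind '' B)

/-- Span of the extended blocks. -/
def code22one (B : Set (Finset α)) : Submodule (ZMod 2) (Option (Option α) → ZMod 2) :=
  Submodule.span (ZMod 2) ((fun b => ind (lift22 b)) '' B)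

include hB hα

theorem orth22 : ∀ s ∈ (fun b => ind (lift22 b)) '' B, ∀ t ∈ (fun b => ind (lift22 b)) '' B, s ⬝ᵥ t = 0 := by
  rintro _ ⟨b, hb, rfl⟩ _ ⟨c, hc, rfl⟩
  refine dot_ind_eq_zero ?_
  rw [lift22_inter]
  by_cases h : b = c
  · rw [h, inter_self, hB.1 c hc]; decide
  · rcases inter_cases_22 hB hα hb hc h with h | h <;> rw [h] <;> decide

theorem small_even_aux {q : Finset α} (h0 : q.Nonempty) (h4 : q.card ≤ 4) :
    ∃ b ∈ B, ¬ Even (b ∩ q).card := by
  by_contra hne
  push Not at hne
  have hc : ∀ (i n : ℕ), i ≤ 3 → n * (6 - i).choose (3 - i) = (22 - i).choose (3 - i) →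
      (6 - i).choose (3 - i) ≠ 0 → ∀ I : Finset α, I.card = i → ((blocks B).filter (I ⊆ ·)).card = n :=
    fun i n hi hn hz => count_eq hB hi (by rw [hα]; exact hn) hz
  have c1 := hc 1 21 (by norm_num) (by decide) (by decide)
  have c2 := hc 2 5 (by norm_num) (by decide) (by decide)
  obtain ⟨x, hx⟩ := h0
  -- every block through `x` meets `q` again
  have h21 : ((blocks B).filter (({x} : Finset α) ⊆ ·)) ⊆
      (q.erase x).biUnion fun y => (blocks B).filter (({x, y} : Finset α) ⊆ ·) := by
    intro b hb
    rw [mem_filter, singleton_subset_iff] at hb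
    obtain ⟨j, hj⟩ := hne b (mem_blocks.mp hb.1)
    have hpos : 0 < (b ∩ q).card := card_pos.mpr ⟨x, mem_inter.mpr ⟨hb.2, hx⟩⟩
    obtain ⟨y, hy, hyx⟩ := exists_mem_ne (show 1 < (b ∩ q).card by omega) x
    rw [mem_inter] at hy
    exact mem_biUnion.mpr ⟨y, mem_erase.mpr ⟨hyx, hy.2⟩, mem_filter.mpr ⟨hb.1, by
      simp [insert_subset_iff, hb.2, hy.1]⟩⟩
  have := (card_le_card h21).trans card_biUnion_le
  rw [c1 _ (card_singleton x), sum_congr rfl (fun y hy => c2 {x, y} (card_pair (mem_erase.mp hy).1.symm)),
    sum_const, card_erase_of_mem hx, smul_eq_mul] at this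
  omega

theorem small_odd_aux {q : Finset α} (h3 : q.card ≤ 3) : ∃ b ∈ B, Even (b ∩ q).card := by
  by_contra hne
  push Not at hne
  have hc : ∀ (i n : ℕ), i ≤ 3 → n * (6 - i).choose (3 - i) = (22 - i).choose (3 - i) →
      (6 - i).choose (3 - i) ≠ 0 → ∀ I : Finset α, I.card = i → ((blocks B).filter (I ⊆ ·)).card = n :=
    fun i n hi hn hz => count_eq hB hi (by rw [hα]; exact hn) hz
  have c0 := hc 0 77 (by norm_num) (by decide) (by decide)
  have c1 := hc 1 21 (by norm_num) (by decide) (by decide)
  have hcover : (blocks B).filter ((∅ : Finset α) ⊆ ·) ⊆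
      q.biUnion fun y => (blocks B).filter (({y} : Finset α) ⊆ ·) := by
    intro b hb
    rw [mem_filter] at hb
    obtain ⟨y, hy⟩ := card_pos.mp (Nat.pos_of_ne_zero fun h => hne b (mem_blocks.mp hb.1) (by rw [h]; exact Even.zero))
    rw [mem_inter] at hy
    exact mem_biUnion.mpr ⟨y, hy.2, mem_filter.mpr ⟨hb.1, singleton_subset_iff.mpr hy.1⟩⟩
  have := (card_le_card hcover).trans card_biUnion_le
  rw [c0 _ card_empty, sum_congr rfl (fun y _ => c1 {y} (card_singleton y)), sum_const, smul_eq_mul] at this
  omega

theorem even_meet22 {b : Finset α} (hb : b ∈ B) {c : Finset α} (hc : c ∈ B) : Even (b ∩ c).card := by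
  by_cases h : b = c
  · rw [h, inter_self, hB.1 c hc]; decide
  · rcases inter_cases_22 hB hα hb hc h with h | h <;> rw [h] <;> decide

/-- A set meeting all blocks evenly lies in the span of the blocks. -/
theorem mem_small_of_even : ∀ q : Finset α, (∀ b ∈ B, Even (b ∩ q).card) → ind q ∈ code22small B := by
  intro q
  induction hn : q.card using Nat.strong_induction_on generalizing q with
  | _ n ih =>
    intro hq
    by_cases h4 : q.card ≤ 4
    · rcases q.eq_empty_or_nonempty with h | h
      · rw [h, show ind (∅ : Finset α) = 0 from funext fun a => by simp [ind]]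
        exact Submodule.zero_mem _
      · obtain ⟨b, hb, hodd⟩ := small_even_aux hB hα h h4
        exact absurd (hq b hb) hodd
    · obtain ⟨s, hs, hsc⟩ := exists_subset_card_eq (show 3 ≤ q.card by omega)
      obtain ⟨b, ⟨hb, hsb⟩, -⟩ := hB.2 s hsc
      have hge := card_le_card (subset_inter hsb hs)
      obtain ⟨j, hj⟩ := hq b hb
      have h1 := card_symmDiff_inter q b
      rw [inter_comm, hB.1 b hb] at h1
      have hmem := ih (symmDiff q b).card (by omega) (symmDiff q b) rfl (fun c hc => by
        have he : c ∩ symmDiff q b = symmDiff (c ∩ q) (c ∩ b) := inf_symmDiff_distrib_left c q b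
        have h2 := card_symmDiff_inter (c ∩ q) (c ∩ b)
        obtain ⟨u, hu⟩ := hq c hc
        obtain ⟨v, hv⟩ := even_meet22 hB hα hc hb
        rw [he, Nat.even_iff]
        omega)
      have := Submodule.add_mem _ hmem (Submodule.subset_span (s := ind '' B) ⟨b, hb, rfl⟩)
      rwa [ind_symmDiff, add_assoc, show ind b + ind b = 0 from funext fun a => CharTwo.add_self_eq_zero _,
        add_zero] at this

theorem exists_seven : ∃ q : Finset α, q.card = 7 ∧ ∀ b ∈ B, ¬ Even (b ∩ q).card := by
  -- some word orthogonal to the extended blocks separates the two new points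
  obtain ⟨v, hv, hne⟩ : ∃ v ∈ perp (code22one B), v none ≠ v (some none) := by
    by_contra hne
    push Not at hne
    have ht : ind ({none, some none} : Finset (Option (Option α))) ∈ perp (perp (code22one B)) :=
      mem_perp.mpr fun v hv => by
        simp only [dotProduct, ind, mem_insert, mem_singleton, ite_mul, one_mul, zero_mul]
        rw [← sum_filter, show (univ.filter fun z : Option (Option α) => z = none ∨ z = some none) =
          {none, some none} by ext; simp, sum_pair (by simp), hne v hv]
        exact CharTwo.add_self_eq_zero _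
    rw [perp_perp] at ht
    have h4 := span_doubly _ ?_ (orth22 hB hα) ht
    · rw [wgt, support_ind, card_pair (by simp)] at h4
      norm_num at h4
    · rintro _ ⟨b, hb, rfl⟩
      show 4 ∣ wgt (ind (lift22 b))
      rw [wgt, support_ind, card_lift22, hB.1 b hb]; norm_num
  set q0 := eraseNone (eraseNone (Cfsg.support₂ v)) with hq0
  have hodd : ∀ b ∈ B, ¬ Even (b ∩ q0).card := by
    intro b hb
    have hd := mem_perp.mp hv _ (Submodule.subset_span ⟨b, hb, rfl⟩)
    rw [← ind_support v] at hd
    have hev := even_of_dot hd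
    have hsplit : Cfsg.support₂ v ∩ lift22 b =
        (b ∩ q0).map (Function.Embedding.some.trans Function.Embedding.some) ∪
          ({none, some none} : Finset (Option (Option α))).filter (· ∈ Cfsg.support₂ v) := by
      ext (_ | _ | a) <;> simp [lift22, hq0, and_comm]
    rw [hsplit, card_union_of_disjoint (by
      rw [disjoint_left]; intro z hz; obtain ⟨a, -, rfl⟩ := mem_map.mp hz; simp), card_map] at hev
    have h1 : (({none, some none} : Finset (Option (Option α))).filter (· ∈ Cfsg.support₂ v)).card = 1 := by
      rw [filter_insert, filter_singleton]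
      simp only [Cfsg.support₂, mem_filter, mem_univ, true_and]
      by_cases ha : v none = 0
      · have hb' : v (some none) ≠ 0 := fun h => hne (ha.trans h.symm)
        simp [ha, hb']
      · have hb' : v (some none) = 0 := by
          by_contra h
          exact hne ((eq_one_of_ne_zero ha).trans (eq_one_of_ne_zero h).symm)
        simp [ha, hb']
    rw [h1] at hev
    exact fun h => by obtain ⟨x, hx⟩ := h; obtain ⟨y, hy⟩ := hev; omega
  -- a smallest such set has seven points
  classical
  obtain ⟨q, hq, hmin⟩ := exists_min_image ((univ : Finset (Finset α)).filter fun q => ∀ b ∈ B, ¬ Even (b ∩ q).card)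
    Finset.card ⟨q0, mem_filter.mpr ⟨mem_univ _, hodd⟩⟩
  rw [mem_filter] at hq
  have hq' := hq.2
  refine ⟨q, ?_, hq'⟩
  have h4 : 4 ≤ q.card := by
    by_contra h
    obtain ⟨b, hb, he⟩ := small_odd_aux hB hα (q := q) (by omega)
    exact hq' b hb he
  have hle : ∀ b ∈ B, (b ∩ q).card ≤ 3 := by
    intro b hb
    by_contra h
    have hmem : symmDiff q b ∈ (univ : Finset (Finset α)).filter fun q => ∀ b ∈ B, ¬ Even (b ∩ q).card := by
      refine mem_filter.mpr ⟨mem_univ _, fun c hc => ?_⟩
      have he : c ∩ symmDiff q b = symmDiff (c ∩ q) (c ∩ b) := inf_symmDiff_distrib_left c q b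
      have h2 := card_symmDiff_inter (c ∩ q) (c ∩ b)
      have hu := hq' c hc
      obtain ⟨w, hw⟩ := even_meet22 hB hα hc hb
      rw [he, Nat.even_iff]
      rw [Nat.even_iff] at hu
      omega
    have := hmin _ hmem
    have h1 := card_symmDiff_inter q b
    rw [inter_comm, hB.1 b hb] at h1
    omega
  have hlt : ∀ c ∈ blocks B, (q ∩ c).card < 4 := fun c hc => by
    rw [inter_comm]; have := hle c (mem_blocks.mp hc); omega
  have m0 := moment hB (i := 0) (n := 77) (by norm_num) (by rw [hα]; decide) (by decide) q
  have m1 := moment hB (i := 1) (n := 21) (by norm_num) (by rw [hα]; decide) (by decide) q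
  have m2 := moment hB (i := 2) (n := 5) (by norm_num) (by rw [hα]; decide) (by decide) q
  rw [sum_meet hlt (fun j => j.choose 0)] at m0
  rw [sum_meet hlt (fun j => j.choose 1)] at m1
  rw [sum_meet hlt (fun j => j.choose 2)] at m2
  have e0 : meet (blocks B) q 0 = 0 := card_eq_zero.mpr (filter_eq_empty_iff.mpr fun c hc h => by
    rw [inter_comm] at h; exact hq' c (mem_blocks.mp hc) (by rw [h]; exact Even.zero))
  have e2 : meet (blocks B) q 2 = 0 := card_eq_zero.mpr (filter_eq_empty_iff.mpr fun c hc h => by
    rw [inter_comm] at h; exact hq' c (mem_blocks.mp hc) (by rw [h]; decide))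
  simp only [sum_range_succ, sum_range_zero] at m0 m1 m2
  have hn : q.card ≤ 22 := hα ▸ card_le_univ q
  rw [e0, e2] at m0 m1 m2
  generalize q.card = n at *
  interval_cases n <;> norm_num [Nat.choose] at m0 m1 m2 ⊢ <;> omega

end CfsgLib.Steiner
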