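/-
Extending S(3,6,22) to a length 24 code, uniquely up to swapping the two new points.
-/
import Cfsg.Agent.Steiner.FromSystem22

set_option autoImplicit false

namespace CfsgLib.Steiner

open Finset

variable {α : Type*} [Fintype α] [DecidableEq α] {B : Set (Finset α)}
  (hB : Cfsg.IsSteinerSystem 3 6 B) (hα : Fintype.card α = 22)

/-- The two new points. -/
def newPts (α : Type*) [DecidableEq α] : Finset (Option (Option α)) := {none, some none}

/-- The extra word. -/
def extraSet (q : Finset α) : Finset (Option (Option α)) := insertNone (q.map Function.Embedding.some)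

/-- The extended code. -/
def code22 (B : Set (Finset α)) (q : Finset α) : Submodule (ZMod 2) (Option (Option α) → ZMod 2) :=
  Submodule.span (ZMod 2) (insert (ind (extraSet q)) ((fun b => ind (lift22 b)) '' B))

omit [Fintype α] in
theorem code22one_le (B : Set (Finset α)) (q : Finset α) : code22one B ≤ code22 B q :=
  Submodule.span_mono (Set.subset_insert _ _)

include hB hα

/-- A word orthogonal to the extended blocks and equal on the new points. -/
theorem decompose {v : Option (Option α) → ZMod 2} (hv : ∀ b ∈ B, v ⬝ᵥ ind (lift22 b) = 0)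
    (he : v none = v (some none)) :
    v ∈ code22one B ∨ v + ind (newPts α) ∈ code22one B := by
  set u : α → ZMod 2 := fun a => v (some (some a)) with hu
  have hev : ∀ b ∈ B, Even (b ∩ Cfsg.support₂ u).card := by
    intro b hb
    have h := hv b hb
    have e : v ⬝ᵥ ind (lift22 b) = ind b ⬝ᵥ u + (v none + v (some none)) := by
      simp only [dotProduct, Fintype.sum_option, hu, lift22, ind, mem_insertNone]
      simp [mul_comm]
      ring
    rw [e, he, CharTwo.add_self_eq_zero, add_zero] at h
    exact (dot_eq_zero_iff _ _).mp h |> fun h' => by rwa [support_ind] at h'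
  have hmem := mem_small_of_even hB hα _ hev
  rw [ind_support] at hmem
  have hlift : ∀ x ∈ code22small B, ∃ c ∈ code22one B, (fun a => c (some (some a))) = x ∧ c none = c (some none) := by
    intro x hx
    induction hx using Submodule.span_induction with
    | mem y hy =>
      obtain ⟨b, hb, rfl⟩ := hy
      exact ⟨ind (lift22 b), Submodule.subset_span ⟨b, hb, rfl⟩, funext fun a => by simp [ind, lift22], by simp [ind, lift22]⟩
    | zero => exact ⟨0, Submodule.zero_mem _, rfl, rfl⟩
    | add y z _ _ hy hz =>
      obtain ⟨c, hc, rfl, hce⟩ := hy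
      obtain ⟨d, hd, rfl, hde⟩ := hz
      exact ⟨c + d, Submodule.add_mem _ hc hd, rfl, by simp [hce, hde]⟩
    | smul r y _ hy =>
      obtain ⟨c, hc, rfl, hce⟩ := hy
      exact ⟨r • c, Submodule.smul_mem _ r hc, rfl, by simp [hce]⟩
  obtain ⟨c, hc, hcu, hce⟩ := hlift u hmem
  by_cases h : v none = c none
  · left
    have : v = c := funext fun x => by
      rcases x with _ | _ | a
      · exact h
      · rw [← he, ← hce]; exact h
      · exact (congrFun hcu a).symm
    exact this ▸ hc
  · right
    have : v + ind (newPts α) = c := funext fun x => by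
      rcases x with _ | _ | a
      · simp only [Pi.add_apply, ind, newPts, mem_insert, true_or, if_true]
        revert h; generalize v none = x; generalize c none = y; revert x y; decide
      · simp only [Pi.add_apply, ind, newPts, mem_insert, mem_singleton, or_true, if_true]
        rw [← he, ← hce]
        revert h; generalize v none = x; generalize c none = y; revert x y; decide
      · have h' := congrFun hcu a
        simp only [hu] at h'
        simp [ind, newPts, h']
    exact this ▸ hc

variable {q : Finset α} (hq7 : q.card = 7) (hq : ∀ b ∈ B, ¬ Even (b ∩ q).card)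
include hq7 hq

theorem orth_ext : ∀ s ∈ insert (ind (extraSet q)) ((fun b => ind (lift22 b)) '' B),
    ∀ t ∈ insert (ind (extraSet q)) ((fun b => ind (lift22 b)) '' B), s ⬝ᵥ t = 0 := by
  have hself : ind (extraSet q) ⬝ᵥ ind (extraSet q) = 0 :=
    dot_ind_eq_zero (by rw [inter_self, extraSet, card_insertNone, card_map, hq7]; decide)
  have hmix : ∀ b ∈ B, ind (lift22 b) ⬝ᵥ ind (extraSet q) = 0 := fun b hb => by
    refine dot_ind_eq_zero ?_
    have h1 : lift22 b ∩ extraSet q = insertNone ((b ∩ q).map Function.Embedding.some) := by
      ext (_ | _ | a) <;> simp [lift22, extraSet]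
    rw [h1, card_insertNone, card_map, Nat.even_add_one]
    exact hq b hb
  rintro s (rfl | ⟨b, hb, rfl⟩) t (rfl | ⟨c, hc, rfl⟩)
  · exact hself
  · rw [dotProduct_comm]; exact hmix c hc
  · exact hmix b hb
  · exact orth22 hB hα _ ⟨b, hb, rfl⟩ _ ⟨c, hc, rfl⟩

theorem extra_dot_newPts : ind (newPts α) ⬝ᵥ ind (extraSet q) = 1 := by
  rw [dot_eq_card, support_ind, support_ind,
    show newPts α ∩ extraSet q = {none} by ext (_ | _ | a) <;> simp [newPts, extraSet], card_singleton]
  rfl

theorem newPts_orth_one {c : Option (Option α) → ZMod 2} (hc : c ∈ code22one B) :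
    ind (newPts α) ⬝ᵥ c = 0 := by
  induction hc using Submodule.span_induction with
  | mem y hy =>
    obtain ⟨b, -, rfl⟩ := hy
    refine dot_ind_eq_zero ?_
    rw [show newPts α ∩ lift22 b = newPts α by ext (_ | _ | a) <;> simp [newPts, lift22],
      newPts, card_pair (by simp)]
    decide
  | zero => exact dotProduct_zero _
  | add y z _ _ hy hz => rw [dotProduct_add, hy, hz, add_zero]
  | smul r y _ hy => rw [dotProduct_smul, hy, smul_zero]

theorem golay22 : IsGolay (code22 B q) := by
  have hlen : Fintype.card (Option (Option α)) = 24 := by rw [Fintype.card_option, Fintype.card_option, hα]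
  have hd : ∀ w ∈ code22 B q, 4 ∣ wgt w := fun w hw => span_doubly _ (by
    rintro _ (rfl | ⟨b, hb, rfl⟩)
    · rw [wgt, support_ind, extraSet, card_insertNone, card_map, hq7]; norm_num
    · show 4 ∣ wgt (ind (lift22 b))
      rw [wgt, support_ind, card_lift22, hB.1 b hb]; norm_num) (orth_ext hB hα hq7 hq) hw
  have hperp : perp (code22 B q) = code22 B q := by
    refine le_antisymm (fun v hv => ?_) fun v hv => mem_perp.mpr fun c hc => span_orth _ (orth_ext hB hα hq7 hq) hv hc
    have hvb : ∀ b ∈ B, v ⬝ᵥ ind (lift22 b) = 0 := fun b hb =>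
      mem_perp.mp hv _ (Submodule.subset_span (Set.mem_insert_of_mem _ ⟨b, hb, rfl⟩))
    have hvw : v ⬝ᵥ ind (extraSet q) = 0 := mem_perp.mp hv _ (Submodule.subset_span (Set.mem_insert _ _))
    have hw : ind (extraSet q) ∈ code22 B q := Submodule.subset_span (Set.mem_insert _ _)
    -- make the word equal on the new points
    have key : ∀ u : Option (Option α) → ZMod 2, (∀ b ∈ B, u ⬝ᵥ ind (lift22 b) = 0) →
        u ⬝ᵥ ind (extraSet q) = 0 → u none = u (some none) → u ∈ code22 B q := by
      intro u hub huw hue
      rcases decompose hB hα hub hue with h | h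
      · exact code22one_le B q h
      · exfalso
        have h1 : (u + ind (newPts α)) ⬝ᵥ ind (extraSet q) = 0 :=
          span_orth _ (orth_ext hB hα hq7 hq) (code22one_le B q h) hw
        rw [add_dotProduct, huw, zero_add, extra_dot_newPts hB hα hq7 hq] at h1
        exact one_ne_zero h1
    by_cases he : v none = v (some none)
    · exact key v hvb hvw he
    · have := key (v + ind (extraSet q))
        (fun b hb => by
          rw [add_dotProduct, hvb b hb, zero_add]
          exact orth_ext hB hα hq7 hq _ (Set.mem_insert _ _) _ (Set.mem_insert_of_mem _ ⟨b, hb, rfl⟩))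
        (by rw [add_dotProduct, hvw, zero_add]; exact orth_ext hB hα hq7 hq _ (Set.mem_insert _ _) _ (Set.mem_insert _ _))
        (by
          simp only [Pi.add_apply, ind, extraSet]
          simp
          revert he; generalize v none = x; generalize v (some none) = y; revert x y; decide)
      have h2 := Submodule.add_mem _ this hw
      rwa [add_assoc, show ind (extraSet q) + ind (extraSet q) = 0 from funext fun a => CharTwo.add_self_eq_zero _,
        add_zero] at h2
  refine ⟨hlen, ?_, hd, fun w hw h4 => ?_⟩
  · have := finrank_perp (code22 B q)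
    rw [hperp, hlen] at this
    omega
  · have hev : ∀ b ∈ B, Even (lift22 b ∩ Cfsg.support₂ w).card := fun b hb => by
      have := span_orth _ (orth_ext hB hα hq7 hq) (Submodule.subset_span (Set.mem_insert_of_mem _ ⟨b, hb, rfl⟩)) hw
      rw [← ind_support w] at this
      exact even_of_dot this
    set r := eraseNone (eraseNone (Cfsg.support₂ w)) with hr
    have hsplit : ∀ b : Finset α, (lift22 b ∩ Cfsg.support₂ w).card =
        (b ∩ r).card + ((newPts α).filter (· ∈ Cfsg.support₂ w)).card := by
      intro b
      rw [← card_map (Function.Embedding.some.trans Function.Embedding.some) (s := b ∩ r),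
        ← card_union_of_disjoint (by
          rw [disjoint_left]; intro z hz; obtain ⟨a, -, rfl⟩ := mem_map.mp hz; simp [newPts])]
      congr 1
      ext (_ | _ | a) <;> simp [lift22, hr, newPts]
    have htot : r.card + ((newPts α).filter (· ∈ Cfsg.support₂ w)).card = 4 := by
      rw [← show (Cfsg.support₂ w).card = 4 from h4,
        ← card_map (Function.Embedding.some.trans Function.Embedding.some) (s := r),
        ← card_union_of_disjoint (by
          rw [disjoint_left]; intro z hz; obtain ⟨a, -, rfl⟩ := mem_map.mp hz; simp [newPts])]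
      congr 1
      ext (_ | _ | a) <;> simp [hr, newPts]
    have hle : ((newPts α).filter (· ∈ Cfsg.support₂ w)).card ≤ 2 :=
      (card_filter_le _ _).trans (by rw [newPts, card_pair (by simp)])
    generalize ((newPts α).filter (· ∈ Cfsg.support₂ w)).card = j at hsplit htot hle
    by_cases hj : j = 1
    · obtain ⟨b, hb, he⟩ := small_odd_aux hB hα (q := r) (by omega)
      obtain ⟨x, hx⟩ := hev b hb
      obtain ⟨y, hy⟩ := he
      rw [hsplit] at hx
      omega
    · obtain ⟨b, hb, he⟩ := small_even_aux hB hα (q := r) (card_pos.mp (by omega)) (by omega)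
      obtain ⟨x, hx⟩ := hev b hb
      rw [hsplit] at hx
      exact he ⟨x - j / 2, by omega⟩

theorem eights22 (b : Finset α) : b ∈ B ↔ lift22 b ∈ IsGolay.eights (code22 B q) := by
  refine ⟨fun hb => ⟨by rw [card_lift22, hB.1 b hb],
    Submodule.subset_span (Set.mem_insert_of_mem _ ⟨b, hb, rfl⟩)⟩, ?_⟩
  rintro ⟨h8, hw⟩
  rw [card_lift22] at h8
  obtain ⟨s, hs, hsc⟩ := exists_subset_card_eq (show 3 ≤ b.card by omega)
  obtain ⟨c, ⟨hc, hsc'⟩, -⟩ := hB.2 s hsc
  have h := (golay22 hB hα hq7 hq).eq_of_congr (s := lift22 b) (t := lift22 c)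
    (Submodule.sub_mem _ hw (Submodule.subset_span (Set.mem_insert_of_mem _ ⟨c, hc, rfl⟩))) (by
      have := card_symmDiff_inter (lift22 b) (lift22 c)
      rw [card_lift22, card_lift22, lift22_inter, hB.1 c hc] at this
      have := card_le_card (subset_inter hs hsc')
      omega)
  have : b = c := by
    rw [← eraseNone_insertNone b, ← eraseNone_insertNone c]
    rw [← eraseNone_insertNone (insertNone b), ← eraseNone_insertNone (insertNone c)]
    simp only [lift22] at h
    rw [h]
  exact this ▸ hc

end CfsgLib.Steiner
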