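/-
Steiner systems S(4,7,23).
-/
import Cfsg.Agent.Steiner.Transport

set_option autoImplicit false

namespace CfsgLib.Steiner

open Finset Cfsg MulAction
open scoped Pointwise

variable {α : Type*} [Fintype α] [DecidableEq α] {B : Set (Finset α)}

theorem exists_model23 (hB : IsSteinerSystem 4 7 B) (hα : Fintype.card α = 23) :
    ∃ e : Option α ≃ GolayPt, (∀ v, v ∈ golayCode ↔ (v ∘ e) ∈ code23 B) ∧
      ∀ b, b ∈ B ↔ (insertNone b).image e ∈ octads := by
  obtain ⟨e, he⟩ := golay_unique (golay23 hB hα) golay_isGolay
  exact ⟨e, he, fun b => by rw [eights23 hB hα b, ← image_mem_eights e he, eights_golay]⟩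

theorem iso23 {β : Type*} [Fintype β] [DecidableEq β] {B' : Set (Finset β)}
    (hB : IsSteinerSystem 4 7 B) (hα : Fintype.card α = 23)
    (hB' : IsSteinerSystem 4 7 B') (hβ : Fintype.card β = 23) : SetSystemIso B B' := by
  obtain ⟨e, -, he⟩ := exists_model23 hB hα
  obtain ⟨f, -, hf⟩ := exists_model23 hB' hβ
  haveI := Golay.pretransitive
  obtain ⟨g, hg⟩ := MulAction.exists_smul_eq M24 (e none) (f none)
  let E : Option α ≃ Option β := (e.trans (g : Equiv.Perm GolayPt)).trans f.symm
  have hE0 : E none = none := by
    show f.symm ((g : Equiv.Perm GolayPt) (e none)) = none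
    rw [show (g : Equiv.Perm GolayPt) (e none) = f none from hg, Equiv.symm_apply_apply]
  let π : α ≃ β := Equiv.removeNone E
  have hπ : ∀ a, some (π a) = E (some a) := fun a => Equiv.removeNone_some _ (by
    rcases h : E (some a) with _ | y
    · exact absurd (E.injective (h.trans hE0.symm)) (by simp)
    · exact ⟨y, rfl⟩)
  have hmap : ∀ b : Finset α, (insertNone (b.image π)).image f = ((insertNone b).image e).image (g : Equiv.Perm GolayPt) := by
    intro b
    have h1 : insertNone (b.image π) = (insertNone b).image E := by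
      ext (_ | y)
      · simp only [none_mem_insertNone, true_iff, mem_image]
        exact ⟨none, none_mem_insertNone, hE0⟩
      · simp only [some_mem_insertNone, mem_image]
        constructor
        · rintro ⟨a, ha, rfl⟩; exact ⟨some a, some_mem_insertNone.mpr ha, (hπ a).symm⟩
        · rintro ⟨z, hz, hzy⟩
          rcases z with _ | a
          · rw [hE0] at hzy; exact absurd hzy (by simp)
          · exact ⟨a, some_mem_insertNone.mp hz, Option.some_injective _ ((hπ a).trans hzy)⟩
    rw [h1, image_image, image_image]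
    refine image_congr fun x _ => ?_
    simp [E]
  have hg' : ∀ o : Finset GolayPt, o.image (g : Equiv.Perm GolayPt) ∈ octads ↔ o ∈ octads := fun o => by
    refine ⟨fun h => ?_, fun h => Golay.M24_octad g.2 h⟩
    have := Golay.M24_octad (inv_mem g.2) h
    rwa [image_image, show ((g : Equiv.Perm GolayPt)⁻¹ : Equiv.Perm GolayPt) ∘ (g : Equiv.Perm GolayPt) = id by
      funext x; simp, image_id] at this
  refine ⟨π, ?_⟩
  ext c
  constructor
  · rintro ⟨b, hb, rfl⟩
    exact (hf _).mpr (by rw [hmap, hg']; exact (he b).mp hb)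
  · intro hc
    have hcc : (c.image π.symm).image π = c := by rw [image_image]; simp
    refine ⟨c.image π.symm, (he _).mpr ?_, hcc⟩
    have := (hf c).mp hc
    rwa [← hcc, hmap, hg'] at this

theorem aut23 (hB : IsSteinerSystem 4 7 B) (hα : Fintype.card α = 23) :
    IsM23 (setSystemAut B) ∧ IsMultiplyPretransitive (setSystemAut B) α 4 := by
  obtain ⟨e, hev, he⟩ := exists_model23 hB hα
  set p := e none with hp
  set j : α ↪ GolayPt := Function.Embedding.some.trans e.toEmbedding with hj
  have hjne : ∀ a, j a ≠ p := fun a h => by simpa using e.injective h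
  let ej : α ≃ {x : GolayPt // x ≠ p} := Equiv.ofBijective (fun a => ⟨j a, hjne a⟩)
    ((Fintype.bijective_iff_injective_and_card _).mpr ⟨fun a b h => j.injective (congrArg Subtype.val h), by
      rw [Fintype.card_subtype_compl, Fintype.card_subtype_eq, Golay.card_golayPt, hα]⟩)
  let F0 : stabilizer M24 p →* Equiv.Perm α :=
    { toFun := fun h => ej.symm.permCongr ((((h : M24) : Equiv.Perm GolayPt)).subtypePerm fun x => by
        have hh : ((h : M24) : Equiv.Perm GolayPt) p = p := h.2
        refine not_congr ⟨fun hx => ?_, fun hx => by rw [hx]; exact hh⟩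
        exact ((h : M24) : Equiv.Perm GolayPt).injective (hx.trans hh.symm))
      map_one' := by ext a; simp
      map_mul' := fun g h => by ext a; simp }
  have hF : ∀ (h : stabilizer M24 p) a, j (F0 h a) = ((h : M24) : Equiv.Perm GolayPt) (j a) := fun h a => by
    show ((ej (F0 h a)) : GolayPt) = _
    simp only [F0, MonoidHom.coe_mk, OneHom.coe_mk, Equiv.permCongr_apply, Equiv.symm_symm, Equiv.apply_symm_apply]
    rfl
  have himg : ∀ (h : stabilizer M24 p) (b : Finset α), (insertNone (b.image (F0 h))).image e =
      ((insertNone b).image e).image ((h : M24) : Equiv.Perm GolayPt) := by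
    intro h b
    ext x
    obtain ⟨o, rfl⟩ := e.surjective x
    rw [e.injective.mem_finset_image, image_image]
    rcases o with _ | a
    · simp only [none_mem_insertNone, true_iff, mem_image]
      exact ⟨none, none_mem_insertNone, h.2⟩
    · simp only [some_mem_insertNone, mem_image]
      constructor
      · rintro ⟨c, hc, rfl⟩
        exact ⟨some c, some_mem_insertNone.mpr hc, (hF h c).symm⟩
      · rintro ⟨z, hz, hza⟩
        rcases z with _ | c
        · exfalso
          have hh : ((h : M24) : Equiv.Perm GolayPt) p = p := h.2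
          exact hjne a (hza.symm.trans hh)
        · exact ⟨c, some_mem_insertNone.mp hz, j.injective ((hF h c).trans hza)⟩
  have hmem : ∀ h, F0 h ∈ setSystemAut B := fun h => mem_aut_iff.mpr fun b hb =>
    (he _).mpr (by rw [himg]; exact Golay.M24_octad (h : M24).2 ((he b).mp hb))
  let F := F0.codRestrict (setSystemAut B) hmem
  have hinj : Function.Injective F := by
    rw [injective_iff_map_eq_one]
    intro h hh
    have hh' : F0 h = 1 := congrArg Subtype.val hh
    refine Subtype.ext (Subtype.ext (Equiv.ext fun x => ?_))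
    obtain ⟨o, rfl⟩ := e.surjective x
    rcases o with _ | a
    · exact h.2
    · have := hF h a
      rw [hh'] at this
      exact this.symm
  have hsurj : Function.Surjective F := by
    intro g
    let gg : Equiv.Perm GolayPt := e.permCongr (Equiv.optionCongr (g : Equiv.Perm α))
    have hgg : gg ∈ M24 := conj_mem_M24 e hev _ fun v hv => by
      induction hv using Submodule.span_induction with
      | mem y hy =>
        obtain ⟨b, hb, rfl⟩ := hy
        refine Submodule.subset_span ⟨b.image (g : Equiv.Perm α), mem_aut_iff.mp g.2 b hb, ?_⟩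
        show ind (insertNone (b.image (g : Equiv.Perm α))) = _
        rw [ind_comp_symm]
        congr 1
        ext (_ | a) <;> simp
      | zero => exact Submodule.zero_mem _
      | add y z _ _ hy hz => exact Submodule.add_mem _ hy hz
      | smul r y _ hy => exact Submodule.smul_mem _ r hy
    have hgp : (⟨gg, hgg⟩ : M24) • p = p := by
      show gg (e none) = e none
      simp [gg]
    refine ⟨⟨⟨gg, hgg⟩, hgp⟩, Subtype.ext (Equiv.ext fun a => j.injective ?_)⟩
    show j (F0 _ a) = _
    rw [hF]
    show gg (e (some a)) = e (some ((g : Equiv.Perm α) a))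
    simp [gg]
  let φ : stabilizer M24 p ≃* setSystemAut B := MulEquiv.ofBijective F ⟨hinj, hsurj⟩
  haveI := Golay.m23_simple p
  haveI := φ.symm.toEquiv.nontrivial
  refine ⟨⟨IsSimpleGroup.isSimpleGroup_of_surjective φ.toMonoidHom φ.surjective, ?_⟩, ⟨fun x y => ?_⟩⟩
  · rw [← Nat.card_congr φ.toEquiv]; exact Golay.card_stab_point p
  · haveI := Golay.five_transitive
    have hc : ∀ z : Fin 4 ↪ α, Function.Injective (Fin.cons p (j ∘ z) : Fin 5 → GolayPt) := fun z =>
      Fin.cons_injective_iff.mpr ⟨by rintro ⟨i, hi⟩; exact hjne _ hi, j.injective.comp z.injective⟩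
    obtain ⟨g, hg⟩ := MulAction.exists_smul_eq M24 (⟨_, hc x⟩ : Fin 5 ↪ GolayPt) ⟨_, hc y⟩
    have h0 : g • p = p := congrArg (fun z : Fin 5 ↪ GolayPt => z 0) hg
    refine ⟨φ ⟨g, h0⟩, ?_⟩
    ext i
    have hi : g • j (x i) = j (y i) := congrArg (fun z : Fin 5 ↪ GolayPt => z i.succ) hg
    exact j.injective ((hF ⟨g, h0⟩ (x i)).trans hi)

end CfsgLib.Steiner
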