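/-
Steiner systems S(3,6,22).
-/
import Cfsg.Agent.Steiner.Transport23
import Cfsg.Agent.Steiner.Extend22

set_option autoImplicit false

namespace CfsgLib.Steiner

open Finset Cfsg MulAction
open scoped Pointwise

variable {α : Type*} [Fintype α] [DecidableEq α] {B : Set (Finset α)}

theorem image_lift22 {β : Type*} [DecidableEq β] (π : α ≃ β) (b : Finset α) :
    lift22 (b.image π) = (lift22 b).image (Equiv.optionCongr (Equiv.optionCongr π)) := by
  ext (_ | _ | y) <;> simp [lift22]

theorem exists_model22 (hB : IsSteinerSystem 3 6 B) (hα : Fintype.card α = 22) :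
    ∃ (q : Finset α) (e : Option (Option α) ≃ GolayPt), q.card = 7 ∧ (∀ b ∈ B, ¬ Even (b ∩ q).card) ∧
      (∀ v, v ∈ golayCode ↔ (v ∘ e) ∈ code22 B q) ∧ ∀ b, b ∈ B ↔ (lift22 b).image e ∈ octads := by
  obtain ⟨q, hq7, hq⟩ := exists_seven hB hα
  obtain ⟨e, he⟩ := golay_unique (golay22 hB hα hq7 hq) golay_isGolay
  exact ⟨q, e, hq7, hq, he, fun b => by
    rw [eights22 hB hα hq7 hq b, ← image_mem_eights e he, eights_golay]⟩

omit [DecidableEq α] in
theorem mem_octads_image_iff (g : M24) (o : Finset GolayPt) :
    o.image (g : Equiv.Perm GolayPt) ∈ octads ↔ o ∈ octads := by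
  refine ⟨fun h => ?_, fun h => Golay.M24_octad g.2 h⟩
  have := Golay.M24_octad (inv_mem g.2) h
  rwa [image_image, show ((g : Equiv.Perm GolayPt)⁻¹ : Equiv.Perm GolayPt) ∘ (g : Equiv.Perm GolayPt) = id by
    funext x; simp, image_id] at this

omit [Fintype α] [DecidableEq α] in
theorem exists_map_two {x y z w : GolayPt} (hxy : x ≠ y) (hzw : z ≠ w) :
    ∃ g : M24, g • x = z ∧ g • y = w := by
  haveI := Golay.two_transitive
  have h : ∀ u v : GolayPt, u ≠ v → Function.Injective ![u, v] := by
    intro u v huv i j hij
    fin_cases i <;> fin_cases j <;> simp_all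
  obtain ⟨g, hg⟩ := MulAction.exists_smul_eq M24 (⟨_, h x y hxy⟩ : Fin 2 ↪ GolayPt) ⟨_, h z w hzw⟩
  exact ⟨g, congrArg (fun t : Fin 2 ↪ GolayPt => t 0) hg, congrArg (fun t : Fin 2 ↪ GolayPt => t 1) hg⟩

theorem iso22 {β : Type*} [Fintype β] [DecidableEq β] {B' : Set (Finset β)}
    (hB : IsSteinerSystem 3 6 B) (hα : Fintype.card α = 22)
    (hB' : IsSteinerSystem 3 6 B') (hβ : Fintype.card β = 22) : SetSystemIso B B' := by
  obtain ⟨q, e, -, -, -, he⟩ := exists_model22 hB hα
  obtain ⟨q', f, -, -, -, hf⟩ := exists_model22 hB' hβ
  obtain ⟨g, hg0, hg1⟩ := exists_map_two (e.injective.ne (show (none : Option (Option α)) ≠ some none by simp))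
    (f.injective.ne (show (none : Option (Option β)) ≠ some none by simp))
  let E : Option (Option α) ≃ Option (Option β) := (e.trans (g : Equiv.Perm GolayPt)).trans f.symm
  have hE0 : E none = none := by
    show f.symm (g • e none) = none
    rw [hg0, Equiv.symm_apply_apply]
  have hE1 : E (some none) = some none := by
    show f.symm (g • e (some none)) = some none
    rw [hg1, Equiv.symm_apply_apply]
  let E1 : Option α ≃ Option β := Equiv.removeNone E
  have hE1' : ∀ o, some (E1 o) = E (some o) := fun o => Equiv.removeNone_some _ (by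
    rcases h : E (some o) with _ | y
    · exact absurd (E.injective (h.trans hE0.symm)) (by simp)
    · exact ⟨y, rfl⟩)
  have hE10 : E1 none = none := Option.some_injective _ ((hE1' none).trans hE1)
  let π : α ≃ β := Equiv.removeNone E1
  have hπ : ∀ a, some (π a) = E1 (some a) := fun a => Equiv.removeNone_some _ (by
    rcases h : E1 (some a) with _ | y
    · exact absurd (E1.injective (h.trans hE10.symm)) (by simp)
    · exact ⟨y, rfl⟩)
  have hEeq : (Equiv.optionCongr (Equiv.optionCongr π)) = E := Equiv.ext fun o => by
    rcases o with _ | _ | a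
    · simp [hE0]
    · simp [hE1]
    · simp [hπ, hE1']
  have hmap : ∀ b : Finset α, (lift22 (b.image π)).image f = ((lift22 b).image e).image (g : Equiv.Perm GolayPt) := by
    intro b
    rw [image_lift22, hEeq, image_image, image_image]
    refine image_congr fun x _ => ?_
    simp [E]
  refine ⟨π, ?_⟩
  ext c
  constructor
  · rintro ⟨b, hb, rfl⟩
    exact (hf _).mpr (by rw [hmap, mem_octads_image_iff]; exact (he b).mp hb)
  · intro hc
    have hcc : (c.image π.symm).image π = c := by rw [image_image]; simp
    refine ⟨c.image π.symm, (he _).mpr ?_, hcc⟩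
    have := (hf c).mp hc
    rwa [← hcc, hmap, mem_octads_image_iff] at this

theorem aut22 (hB : IsSteinerSystem 3 6 B) (hα : Fintype.card α = 22) :
    Nat.card (setSystemAut B) = 887040 ∧ IsMultiplyPretransitive (setSystemAut B) α 3 ∧
      ∃ H : Subgroup (setSystemAut B), H.index = 2 ∧ IsM22 H := by
  obtain ⟨q, e, hq7, hq, hev, he⟩ := exists_model22 hB hα
  set P : Finset GolayPt := (newPts α).image e with hP
  set p := e none with hp
  set p' := e (some none) with hp'
  have hpp : p ≠ p' := fun h => by simpa using e.injective h
  have hPeq : P = {p, p'} := by rw [hP, newPts, image_insert, image_singleton]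
  have hmemP : ∀ x, x ∈ P ↔ x = p ∨ x = p' := fun x => by rw [hPeq, mem_insert, mem_singleton]
  set j : α ↪ GolayPt := (Function.Embedding.some.trans Function.Embedding.some).trans e.toEmbedding with hj
  have hjne : ∀ a, j a ∉ P := fun a h => by
    rw [hPeq, mem_insert, mem_singleton] at h
    rcases h with h | h <;> simpa using e.injective h
  let ej : α ≃ {x : GolayPt // x ∉ P} := Equiv.ofBijective (fun a => ⟨j a, hjne a⟩)
    ((Fintype.bijective_iff_injective_and_card _).mpr ⟨fun a b h => j.injective (congrArg Subtype.val h), by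
      rw [Fintype.card_subtype_compl, Fintype.card_coe, hPeq, card_pair hpp, Golay.card_golayPt, hα]⟩)
  have hstab : ∀ (h : stabilizer M24 P) (x : GolayPt), ((h : M24) : Equiv.Perm GolayPt) x ∈ P ↔ x ∈ P := fun h x => by
    have hh : (h : M24) • P = P := h.2
    have h1 := Finset.smul_mem_smul_finset_iff (h : M24) (s := P) (b := x)
    rw [hh] at h1
    exact h1
  let F0 : stabilizer M24 P →* Equiv.Perm α :=
    { toFun := fun h => ej.symm.permCongr ((((h : M24) : Equiv.Perm GolayPt)).subtypePerm fun x => not_congr (hstab h x))
      map_one' := by ext a; simp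
      map_mul' := fun g h => by ext a; simp }
  have hF : ∀ (h : stabilizer M24 P) a, j (F0 h a) = ((h : M24) : Equiv.Perm GolayPt) (j a) := fun h a => by
    show ((ej (F0 h a)) : GolayPt) = _
    simp only [F0, MonoidHom.coe_mk, OneHom.coe_mk, Equiv.permCongr_apply, Equiv.symm_symm, Equiv.apply_symm_apply]
    rfl
  have hlift : ∀ b : Finset α, (lift22 b).image e = P ∪ b.map j := fun b => by
    ext x
    obtain ⟨o, rfl⟩ := e.surjective x
    rw [e.injective.mem_finset_image, mem_union, hP, e.injective.mem_finset_image, hj]
    rcases o with _ | _ | a <;> simp [lift22, newPts]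
  have himg : ∀ (h : stabilizer M24 P) (b : Finset α), (lift22 (b.image (F0 h))).image e =
      ((lift22 b).image e).image ((h : M24) : Equiv.Perm GolayPt) := by
    intro h b
    rw [hlift, hlift, image_union]
    congr 1
    · ext x
      refine ⟨fun hx => mem_image.mpr ⟨((h : M24) : Equiv.Perm GolayPt).symm x, (hstab h _).mp (by simpa using hx), by simp⟩, fun hx => ?_⟩
      obtain ⟨y, hy, rfl⟩ := mem_image.mp hx
      exact (hstab h y).mpr hy
    · rw [map_eq_image, map_eq_image, image_image, image_image]
      exact image_congr fun a _ => hF h a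
  have hmem : ∀ h, F0 h ∈ setSystemAut B := fun h => mem_aut_iff.mpr fun b hb =>
    (he _).mpr (by rw [himg]; exact Golay.M24_octad (h : M24).2 ((he b).mp hb))
  let F := F0.codRestrict (setSystemAut B) hmem
  -- the swap of the two new points does not preserve the code
  have hG := golay22 hB hα hq7 hq
  have hwC : ind (extraSet q) ∈ code22 B q := Submodule.subset_span (Set.mem_insert _ _)
  have hinj : Function.Injective F := by
    rw [injective_iff_map_eq_one]
    intro h hh
    have hh' : F0 h = 1 := congrArg Subtype.val hh
    have hfix : ∀ a, ((h : M24) : Equiv.Perm GolayPt) (j a) = j a := fun a => by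
      have := hF h a
      rw [hh'] at this
      exact this.symm
    refine Subtype.ext (Subtype.ext (Equiv.ext fun x => ?_))
    show ((h : M24) : Equiv.Perm GolayPt) x = x
    have hp0 : ((h : M24) : Equiv.Perm GolayPt) p = p := by
      have hin := (hmemP _).mp ((hstab h p).mpr ((hmemP p).mpr (Or.inl rfl)))
      rcases hin with h0 | h1
      · exact h0
      · exfalso
        -- then `h` exchanges the two new points
        have hin' := (hmemP _).mp ((hstab h p').mpr ((hmemP p').mpr (Or.inr rfl)))
        have h2 : ((h : M24) : Equiv.Perm GolayPt) p' = p := hin'.resolve_right fun h3 =>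
          hpp (((h : M24) : Equiv.Perm GolayPt).injective (h1.trans h3.symm))
        let o : Finset GolayPt := (extraSet q).image e
        have ho : o ∈ octads := by
          rw [← eights_golay]
          exact (image_mem_eights e hev _).mpr ⟨by rw [extraSet, card_insertNone, card_map, hq7], hwC⟩
        have ho' := Golay.M24_octad (h : M24).2 ho
        have hoe : o.image ((h : M24) : Equiv.Perm GolayPt) =
            (insert (some none) (q.map (Function.Embedding.some.trans Function.Embedding.some))).image e := by
          have : extraSet q = insert none (q.map (Function.Embedding.some.trans Function.Embedding.some)) := by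
            ext (_ | _ | a) <;> simp [extraSet]
          simp only [o, this, image_insert, map_eq_image, image_image]
          rw [← hp, ← hp', h1]
          congr 1
          refine image_congr fun a _ => ?_
          exact hfix a
        rw [hoe, ← eights_golay, image_mem_eights e hev] at ho'
        have hnp := hG.orth hwC ho'.2
        rw [dot_eq_zero_iff, support_ind, support_ind] at hnp
        have hint : extraSet q ∩ insert (some none) (q.map (Function.Embedding.some.trans Function.Embedding.some)) =
            q.map (Function.Embedding.some.trans Function.Embedding.some) := by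
          ext (_ | _ | a) <;> simp [extraSet]
        rw [hint, card_map, hq7] at hnp
        exact absurd hnp (by decide)
    have hp1 : ((h : M24) : Equiv.Perm GolayPt) p' = p' := by
      have hin' := (hmemP _).mp ((hstab h p').mpr ((hmemP p').mpr (Or.inr rfl)))
      exact hin'.resolve_left fun h3 => hpp (((h : M24) : Equiv.Perm GolayPt).injective (hp0.trans h3.symm))
    obtain ⟨o, rfl⟩ := e.surjective x
    rcases o with _ | _ | a
    · exact hp0
    · exact hp1
    · exact hfix a
  have hsurj : Function.Surjective F := by
    intro g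
    let ĝ : Equiv.Perm (Option (Option α)) := Equiv.optionCongr (Equiv.optionCongr (g : Equiv.Perm α))
    let s : Equiv.Perm (Option (Option α)) := Equiv.swap none (some none)
    have hone : ∀ (σ : Equiv.Perm (Option (Option α))),
        (∀ b ∈ B, ∃ c ∈ B, (lift22 b).image σ = lift22 c) → ind (extraSet q) ∘ σ.symm ∈ code22 B q →
        ∀ v ∈ code22 B q, v ∘ σ.symm ∈ code22 B q := by
      intro σ hσ hw v hv
      induction hv using Submodule.span_induction with
      | mem y hy =>
        rcases hy with rfl | ⟨b, hb, rfl⟩
        · exact hw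
        · obtain ⟨c, hc, hbc⟩ := hσ b hb
          show ind (lift22 b) ∘ σ.symm ∈ _
          rw [ind_comp_symm, hbc]
          exact Submodule.subset_span (Set.mem_insert_of_mem _ ⟨c, hc, rfl⟩)
      | zero => exact Submodule.zero_mem _
      | add y z _ _ hy hz => exact Submodule.add_mem _ hy hz
      | smul r y _ hy => exact Submodule.smul_mem _ r hy
    have hĝ : ∀ b ∈ B, ∃ c ∈ B, (lift22 b).image ĝ = lift22 c := fun b hb =>
      ⟨b.image (g : Equiv.Perm α), mem_aut_iff.mp g.2 b hb, (image_lift22 (g : Equiv.Perm α) b).symm⟩
    have hsĝ : ∀ b ∈ B, ∃ c ∈ B, (lift22 b).image (ĝ.trans s) = lift22 c := fun b hb => by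
      obtain ⟨c, hc, hbc⟩ := hĝ b hb
      refine ⟨c, hc, ?_⟩
      rw [Equiv.coe_trans, ← image_image, hbc]
      ext x
      rw [mem_image]
      constructor
      · rintro ⟨y, hy, rfl⟩
        rcases y with _ | _ | a <;> simp [s, lift22, Equiv.swap_apply_def] at hy ⊢ <;> exact hy
      · intro hx
        refine ⟨s x, ?_, Equiv.swap_apply_self _ _ x⟩
        rcases x with _ | _ | a <;> simp [s, lift22, Equiv.swap_apply_def] at hx ⊢ <;> exact hx
    have hext : extraSet q = insert none (q.image fun a => some (some a)) := by
      ext (_ | _ | a) <;> simp [extraSet]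
    have himg1 : (extraSet q).image ĝ = insert none (q.image fun a => some (some ((g : Equiv.Perm α) a))) := by
      rw [hext, image_insert, image_image]
      congr 1
    have himg2 : (extraSet q).image (ĝ.trans s) = insert (some none) (q.image fun a => some (some ((g : Equiv.Perm α) a))) := by
      rw [hext, image_insert, image_image]
      congr 1
    set w := ind ((extraSet q).image ĝ) with hw
    set w' := ind ((extraSet q).image (ĝ.trans s)) with hw'
    have hor : w ∈ code22 B q ∨ w' ∈ code22 B q := by
      have horth : ∀ b ∈ B, (w + ind (extraSet q)) ⬝ᵥ ind (lift22 b) = 0 := by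
        intro b hb
        rw [add_dotProduct, orth_ext hB hα hq7 hq _ (Set.mem_insert _ _) _ (Set.mem_insert_of_mem _ ⟨b, hb, rfl⟩), add_zero]
        have hb' : b.image (g : Equiv.Perm α).symm ∈ B := by
          have := mem_aut_iff.mp (inv_mem g.2) b hb
          exact this
        have e1 : lift22 b = (lift22 (b.image (g : Equiv.Perm α).symm)).image ĝ := by
          rw [← image_lift22, image_image]; simp
        refine dot_ind_eq_zero ?_
        rw [e1, ← image_inter _ _ ĝ.injective, card_image_of_injective _ ĝ.injective]
        exact even_of_dot (orth_ext hB hα hq7 hq _ (Set.mem_insert _ _) _ (Set.mem_insert_of_mem _ ⟨_, hb', rfl⟩))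
      rcases decompose hB hα horth (by
          rw [hw, himg1]
          simp [ind, hext]
          decide) with h | h
      · left
        have := Submodule.add_mem _ (code22one_le B q h) hwC
        rwa [add_assoc, show ind (extraSet q) + ind (extraSet q) = 0 from funext fun a => CharTwo.add_self_eq_zero _,
          add_zero] at this
      · right
        have := Submodule.add_mem _ (code22one_le B q h) hwC
        have e1 : w + ind (extraSet q) + ind (newPts α) + ind (extraSet q) = w' := by
          rw [add_right_comm, add_assoc w, show ind (extraSet q) + ind (extraSet q) = 0 from funext fun a => CharTwo.add_self_eq_zero _, add_zero]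
          rw [hw, hw', himg1, himg2]
          funext o
          rcases o with _ | _ | a <;> simp [ind, newPts] <;> first | decide | exact CharTwo.add_self_eq_zero _
        rwa [e1] at this
    obtain ⟨σ, hσC, hσa⟩ : ∃ σ : Equiv.Perm (Option (Option α)), (∀ v ∈ code22 B q, v ∘ σ.symm ∈ code22 B q) ∧
        ∀ a, σ (some (some a)) = some (some ((g : Equiv.Perm α) a)) := by
      rcases hor with h | h
      · exact ⟨ĝ, hone ĝ hĝ (by rw [ind_comp_symm]; exact h), fun a => by simp [ĝ]⟩
      · exact ⟨ĝ.trans s, hone _ hsĝ (by rw [ind_comp_symm]; exact h), fun a => by simp [ĝ, s, Equiv.swap_apply_def]⟩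
    have hgg : e.permCongr σ ∈ M24 := conj_mem_M24 e hev σ hσC
    have hgP : (⟨e.permCongr σ, hgg⟩ : M24) • P = P := by
      refine eq_of_subset_of_card_le (fun x hx => ?_) (by rw [card_smul_finset])
      obtain ⟨y, hy, rfl⟩ := mem_smul_finset.mp hx
      by_contra hne
      obtain ⟨a, ha⟩ := ej.surjective ⟨_, hne⟩
      have ha' : j a = e.permCongr σ y := congrArg Subtype.val ha
      have hy' : y = e (some (some ((g : Equiv.Perm α).symm a))) := by
        apply (e.permCongr σ).injective
        rw [← ha']
        simp [hj, hσa]
      exact hjne _ (show j ((g : Equiv.Perm α).symm a) ∈ P from hy' ▸ hy)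
    refine ⟨⟨⟨e.permCongr σ, hgg⟩, hgP⟩, Subtype.ext (Equiv.ext fun a => j.injective ?_)⟩
    show j (F0 _ a) = _
    rw [hF]
    show e.permCongr σ (e (some (some a))) = e (some (some ((g : Equiv.Perm α) a)))
    simp [hσa]
  let φ : stabilizer M24 P ≃* setSystemAut B := MulEquiv.ofBijective F ⟨hinj, hsurj⟩
  have hcardP : Nat.card (stabilizer M24 P) = 887040 := by
    have horb : orbit M24 P = {S : Finset GolayPt | S.card = 2} := by
      ext S
      constructor
      · rintro ⟨g, rfl⟩
        show (g • P).card = 2
        rw [card_smul_finset, hPeq, card_pair hpp]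
      · intro hS
        obtain ⟨u, v, huv, rfl⟩ := card_eq_two.mp hS
        obtain ⟨g, hgu, hgv⟩ := exists_map_two hpp huv
        refine ⟨g, ?_⟩
        show g • P = {u, v}
        rw [hPeq, smul_finset_insert, smul_finset_singleton, hgu, hgv]
    have h := Subgroup.card_mul_index (stabilizer M24 P)
    rw [index_stabilizer, horb, Golay.card_M24] at h
    have hn : ({S : Finset GolayPt | S.card = 2} : Set (Finset GolayPt)).ncard = 276 := by
      rw [show ({S : Finset GolayPt | S.card = 2} : Set (Finset GolayPt)) = ↑((univ : Finset GolayPt).powersetCard 2) by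
        ext S; simp [mem_powersetCard], Set.ncard_coe_finset, card_powersetCard, card_univ, Golay.card_golayPt]
      rfl
    rw [hn] at h
    omega
  have hA : Nat.card (setSystemAut B) = 887040 := by rw [← Nat.card_congr φ.toEquiv]; exact hcardP
  refine ⟨hA, ⟨fun x y => ?_⟩, ?_⟩
  · haveI := Golay.five_transitive
    have hc : ∀ z : Fin 3 ↪ α, Function.Injective (Fin.cons p (Fin.cons p' (j ∘ z)) : Fin 5 → GolayPt) := fun z => by
      refine Fin.cons_injective_iff.mpr ⟨?_, Fin.cons_injective_iff.mpr ⟨?_, j.injective.comp z.injective⟩⟩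
      · rintro ⟨i, hi⟩
        rcases Fin.eq_zero_or_eq_succ i with rfl | ⟨k, rfl⟩
        · exact hpp hi.symm
        · exact hjne (z k) (by rw [hPeq]; simp at hi; simp [hi])
      · rintro ⟨i, hi⟩; exact hjne (z i) (by rw [hPeq]; simp at hi; simp [hi])
    obtain ⟨g, hg⟩ := MulAction.exists_smul_eq M24 (⟨_, hc x⟩ : Fin 5 ↪ GolayPt) ⟨_, hc y⟩
    have h0 : g • p = p := congrArg (fun z : Fin 5 ↪ GolayPt => z 0) hg
    have h1 : g • p' = p' := congrArg (fun z : Fin 5 ↪ GolayPt => z 1) hg
    have hgP : g • P = P := by rw [hPeq, smul_finset_insert, smul_finset_singleton, h0, h1]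
    refine ⟨φ ⟨g, hgP⟩, ?_⟩
    ext i
    have hi : g • j (x i) = j (y i) := congrArg (fun z : Fin 5 ↪ GolayPt => z i.succ.succ) hg
    exact j.injective ((hF ⟨g, hgP⟩ (x i)).trans hi)
  · let K : Subgroup M24 := stabilizer M24 p ⊓ stabilizer M24 p'
    have hK : K ≤ stabilizer M24 P := fun g hg => by
      show g • P = P
      rw [hPeq, smul_finset_insert, smul_finset_singleton, show g • p = p from hg.1, show g • p' = p' from hg.2]
    let H : Subgroup (setSystemAut B) := (K.subgroupOf (stabilizer M24 P)).map φ.toMonoidHom
    let ψ : K ≃* H := (Subgroup.subgroupOfEquivOfLe hK).symm.trans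
      ((K.subgroupOf (stabilizer M24 P)).equivMapOfInjective φ.toMonoidHom φ.injective)
    have hKc : Nat.card K = 443520 := (Golay.card_stab_pair p p' hpp)
    have hHc : Nat.card H = 443520 := (Nat.card_congr ψ.toEquiv).symm.trans hKc
    refine ⟨H, ?_, ?_, hHc⟩
    · have := H.card_mul_index
      rw [hHc, hA] at this
      omega
    · haveI := Golay.m22_simple p p' hpp
      haveI := ψ.symm.toEquiv.nontrivial
      exact IsSimpleGroup.isSimpleGroup_of_surjective ψ.toMonoidHom ψ.surjective

end CfsgLib.Steiner
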