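/-
The graphs on 77 and 100 vertices of the Steiner system S(3,6,22).
-/
import Cfsg.Agent.Steiner.Numbers

set_option autoImplicit false

namespace CfsgLib.Steiner

open Finset

variable {α : Type*} [DecidableEq α] [Fintype α] {B : Set (Finset α)}
  (hB : Cfsg.IsSteinerSystem 3 6 B) (hα : Fintype.card α = 22)
include hB hα

theorem count_point (p : α) : ((blocks B).filter (p ∈ ·)).card = 21 := by
  rw [← count_eq hB (i := 1) (n := 21) (by norm_num) (by rw [hα]; decide) (by decide) {p} (card_singleton p)]
  simp only [singleton_subset_iff]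

theorem count_pair {p q : α} (hpq : p ≠ q) :
    ((blocks B).filter fun c => p ∈ c ∧ q ∈ c).card = 5 := by
  rw [← count_eq hB (i := 2) (n := 5) (by norm_num) (by rw [hα]; decide) (by decide) {p, q} (card_pair hpq)]
  simp only [insert_subset_iff, singleton_subset_iff]

theorem count_triple {p q r : α} (hpq : p ≠ q) (hpr : p ≠ r) (hqr : q ≠ r) :
    ((blocks B).filter fun c => p ∈ c ∧ q ∈ c ∧ r ∈ c).card = 1 := by
  rw [← count_t hB {p, q, r} (card_eq_three.mpr ⟨p, q, r, hpq, hpr, hqr, rfl⟩)]
  simp only [insert_subset_iff, singleton_subset_iff]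

theorem disjoint_count {b : Finset α} (hb : b ∈ B) : ((blocks B).filter (Disjoint b ·)).card = 16 := by
  have hb' := mem_blocks.mpr hb
  obtain ⟨h0, -⟩ := numbers_22 hB hα hb'
  rw [← h0, meet]
  congr 1
  ext c
  simp only [mem_filter, mem_erase, Finset.card_eq_zero, disjoint_iff_inter_eq_empty]
  refine ⟨fun h => ⟨⟨?_, h.1⟩, h.2⟩, fun h => ⟨h.1.2, h.2⟩⟩
  intro hbc
  have h' := h.2
  rw [hbc, inter_self] at h'
  have := block_card hB hb'
  rw [h', card_empty] at this
  omega

theorem disjoint_through {b : Finset α} (hb : b ∈ B) {p : α} (hp : p ∉ b) :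
    ((blocks B).filter fun c => p ∈ c ∧ Disjoint b c).card = 6 := by
  set F := (blocks B).filter (p ∈ ·) with hF
  have h1 : ∑ c ∈ F, (b ∩ c).card.choose 1 = b.card.choose 1 * 5 :=
    sum_choose_inter_const F b 1 5 fun I hI hI1 => by
      obtain ⟨q, rfl⟩ := card_eq_one.mp hI1
      rw [hF, filter_filter, ← count_pair hB hα (show p ≠ q from fun h => hp (h ▸ singleton_subset_iff.mp hI))]
      simp only [singleton_subset_iff]
  rw [hB.1 b hb, sum_meet (m := 3) (fun c hc => ?_) (fun j => j.choose 1)] at h1
  swap
  · have hc' := mem_filter.mp hc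
    have : b ≠ c := fun h => hp (h ▸ hc'.2)
    rcases inter_cases_22 hB hα hb (mem_blocks.mp hc'.1) this with h | h <;> omega
  have hm1 : meet F b 1 = 0 := by
    refine card_eq_zero.mpr (filter_eq_empty_iff.mpr fun c hc h => ?_)
    have hc' := mem_filter.mp hc
    have : b ≠ c := fun h => hp (h ▸ hc'.2)
    rcases inter_cases_22 hB hα hb (mem_blocks.mp hc'.1) this with h' | h' <;> omega
  simp only [sum_range_succ, sum_range_zero] at h1
  norm_num [Nat.choose, hm1] at h1
  have htot : F.card = meet F b 0 + meet F b 1 + meet F b 2 := by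
    have := sum_meet (F := F) (S := b) (m := 3) (fun c hc => by
      have hc' := mem_filter.mp hc
      have : b ≠ c := fun h => hp (h ▸ hc'.2)
      rcases inter_cases_22 hB hα hb (mem_blocks.mp hc'.1) this with h | h <;> omega) (fun _ => 1)
    simpa [sum_range_succ] using this
  rw [hF, count_point hB hα p, ← hF] at htot
  have hgoal : ((blocks B).filter fun c => p ∈ c ∧ Disjoint b c).card = meet F b 0 := by
    rw [meet, hF, filter_filter]
    simp only [Finset.card_eq_zero, disjoint_iff_inter_eq_empty]
  omega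

theorem disjoint_through_two {b : Finset α} (hb : b ∈ B) {p q : α} (hp : p ∉ b) (hq : q ∉ b) (hpq : p ≠ q) :
    ((blocks B).filter fun c => (p ∈ c ∧ q ∈ c) ∧ Disjoint b c).card = 2 := by
  set F := (blocks B).filter (fun c => p ∈ c ∧ q ∈ c) with hF
  have hcases : ∀ c ∈ F, (b ∩ c).card = 0 ∨ (b ∩ c).card = 2 := fun c hc => by
    have hc' := mem_filter.mp hc
    exact inter_cases_22 hB hα hb (mem_blocks.mp hc'.1) fun h => hp (h ▸ hc'.2.1)
  have h1 : ∑ c ∈ F, (b ∩ c).card.choose 1 = b.card.choose 1 * 1 :=
    sum_choose_inter_const F b 1 1 fun I hI hI1 => by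
      obtain ⟨r, rfl⟩ := card_eq_one.mp hI1
      have hr := singleton_subset_iff.mp hI
      rw [hF, filter_filter, ← count_triple hB hα hpq (show p ≠ r from fun h => hp (h ▸ hr))
        (show q ≠ r from fun h => hq (h ▸ hr))]
      simp only [singleton_subset_iff, and_assoc]
  rw [hB.1 b hb, sum_meet (m := 3) (fun c hc => by rcases hcases c hc with h | h <;> omega)
    (fun j => j.choose 1)] at h1
  have hm1 : meet F b 1 = 0 :=
    card_eq_zero.mpr (filter_eq_empty_iff.mpr fun c hc h => by rcases hcases c hc with h' | h' <;> omega)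
  simp only [sum_range_succ, sum_range_zero] at h1
  norm_num [Nat.choose, hm1] at h1
  have htot : F.card = meet F b 0 + meet F b 1 + meet F b 2 := by
    have := sum_meet (F := F) (S := b) (m := 3) (fun c hc => by
      rcases hcases c hc with h | h <;> omega) (fun _ => 1)
    simpa [sum_range_succ] using this
  rw [hF, count_pair hB hα hpq, ← hF] at htot
  have hgoal : ((blocks B).filter fun c => (p ∈ c ∧ q ∈ c) ∧ Disjoint b c).card = meet F b 0 := by
    rw [meet, hF, filter_filter]
    simp only [Finset.card_eq_zero, disjoint_iff_inter_eq_empty]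
  omega

/-- The blocks disjoint from two given blocks. -/
theorem disjoint_both {b c : Finset α} (hb : b ∈ B) (hc : c ∈ B) (hne : b ≠ c) :
    ((blocks B).filter fun d => Disjoint b d ∧ Disjoint c d).card =
      if Disjoint b c then 0 else 4 := by
  set F := ((blocks B).filter (Disjoint b ·)).erase c with hF
  have hcases : ∀ d ∈ F, (c ∩ d).card = 0 ∨ (c ∩ d).card = 2 := fun d hd => by
    obtain ⟨hdc, hd'⟩ := mem_erase.mp hd
    exact inter_cases_22 hB hα hc (mem_blocks.mp (mem_filter.mp hd').1) (Ne.symm hdc)
  have hlt : ∀ d ∈ F, ((c \ b) ∩ d).card < 3 := fun d hd => by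
    have := card_le_card (inter_subset_inter_right (u := d) (sdiff_subset (s := c) (t := b)))
    rcases hcases d hd with h | h <;> omega
  have heq : ∀ d ∈ F, (c \ b) ∩ d = c ∩ d := fun d hd => by
    have hbd := (mem_filter.mp (mem_erase.mp hd).2).2
    ext x
    simp only [mem_inter, mem_sdiff]
    exact ⟨fun h => ⟨h.1.1, h.2⟩, fun h => ⟨⟨h.1, fun hx => disjoint_left.mp hbd hx h.2⟩, h.2⟩⟩
  have hs : ((blocks B).filter fun d => Disjoint b d ∧ Disjoint c d).card = meet F (c \ b) 0 := by
    rw [meet]
    congr 1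
    ext d
    simp only [mem_filter]
    constructor
    · intro h
      have hd : d ∈ F := mem_erase.mpr ⟨fun hdc => by
        have h' := h.2.2
        rw [hdc, disjoint_self_iff_empty] at h'
        have := hB.1 c hc
        rw [h', card_empty] at this
        omega, mem_filter.mpr ⟨h.1, h.2.1⟩⟩
      exact ⟨hd, by rw [heq d hd, Finset.card_eq_zero, ← disjoint_iff_inter_eq_empty]; exact h.2.2⟩
    · rintro ⟨hd, h0⟩
      rw [heq d hd, Finset.card_eq_zero, ← disjoint_iff_inter_eq_empty] at h0
      have hd' := mem_filter.mp (mem_erase.mp hd).2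
      exact ⟨hd'.1, hd'.2, h0⟩
  have hm1 : meet F (c \ b) 1 = 0 :=
    card_eq_zero.mpr (filter_eq_empty_iff.mpr fun d hd h => by
      rw [heq d hd] at h
      rcases hcases d hd with h' | h' <;> omega)
  have hFc : F.card + (if Disjoint b c then 1 else 0) = 16 := by
    rw [← disjoint_count hB hα hb, hF]
    split_ifs with h
    · exact card_erase_add_one (mem_filter.mpr ⟨mem_blocks.mpr hc, h⟩)
    · rw [erase_eq_of_notMem fun h' => h (mem_filter.mp h').2]; rfl
  have htot : F.card = meet F (c \ b) 0 + meet F (c \ b) 1 + meet F (c \ b) 2 := by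
    have := sum_meet hlt (fun _ => 1)
    simpa [sum_range_succ] using this
  have h1 : ∑ d ∈ F, ((c \ b) ∩ d).card.choose 2 =
      (c \ b).card.choose 2 * (if Disjoint b c then 1 else 2) :=
    sum_choose_inter_const F (c \ b) 2 _ fun I hI hI2 => by
      obtain ⟨p, q, hpq, rfl⟩ := card_eq_two.mp hI2
      have hp := mem_sdiff.mp (hI (mem_insert_self _ _))
      have hq := mem_sdiff.mp (hI (mem_insert_of_mem (mem_singleton_self _)))
      have h2 := disjoint_through_two hB hα hb hp.2 hq.2 hpq
      simp only [hF, filter_erase, filter_filter, insert_subset_iff, singleton_subset_iff]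
      have h2' : ((blocks B).filter fun d => Disjoint b d ∧ p ∈ d ∧ q ∈ d).card = 2 := by
        rw [← h2]; simp only [and_comm]
      split_ifs with h
      · rw [card_erase_of_mem (mem_filter.mpr ⟨mem_blocks.mpr hc, h, hp.1, hq.1⟩), h2']
      · rw [erase_eq_of_notMem fun h' => h (mem_filter.mp h').2.1, h2']
  rw [sum_meet hlt (fun j => j.choose 2)] at h1
  simp only [sum_range_succ, sum_range_zero] at h1
  have hcb : (c \ b).card = if Disjoint b c then 6 else 4 := by
    have := card_sdiff_add_card_inter c b
    rw [hB.1 c hc, inter_comm] at this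
    rcases inter_cases_22 hB hα hb hc hne with h | h
    · rw [if_pos (disjoint_iff_inter_eq_empty.mpr (Finset.card_eq_zero.mp h))]; omega
    · rw [if_neg fun h' => by rw [disjoint_iff_inter_eq_empty.mp h', card_empty] at h; omega]; omega
  rw [hcb] at h1
  split_ifs at * <;> norm_num [Nat.choose, hm1] at h1 <;> omega

omit [DecidableEq α] [Fintype α] hB hα in
theorem blockGraph_adj (b c : B) :
    (Cfsg.blockGraph B).Adj b c ↔ b ≠ c ∧ Disjoint (b : Finset α) (c : Finset α) := by
  exact ⟨fun h => ⟨h.1, h.2.elim id fun h' => Disjoint.symm h'⟩, fun h => ⟨h.1, Or.inl h.2⟩⟩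

omit hB hα in
/-- Counting members of `B` through the block list. -/
theorem card_sub (P : Finset α → Prop) [DecidablePred P] [Fintype B] :
    ((univ : Finset B).filter fun b : B => P b).card = ((blocks B).filter P).card := by
  refine card_bij (fun b _ => (b : Finset α)) (fun b hb => ?_) (fun b _ c _ h => Subtype.ext h) ?_
  · exact mem_filter.mpr ⟨mem_blocks.mpr b.2, (mem_filter.mp hb).2⟩
  · intro c hc
    exact ⟨⟨c, mem_blocks.mp (mem_filter.mp hc).1⟩, mem_filter.mpr ⟨mem_univ _, (mem_filter.mp hc).2⟩, rfl⟩

theorem card_all [Fintype B] : Fintype.card B = 77 := by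
  have h := count_mul hB ∅ (by simp)
  rw [hα, filter_true_of_mem (fun c _ => empty_subset c), card_empty] at h
  norm_num [Nat.choose] at h
  have h' : (univ : Finset B).card = (blocks B).card := by
    simpa using card_sub (B := B) (fun _ => True)
  rw [card_univ] at h'
  omega

end CfsgLib.Steiner
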