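/-
Blocks of an S(5,6,12) meeting a given block in a given set.
-/
import Cfsg.Agent.Steiner.Numbers

set_option autoImplicit false

namespace CfsgLib.Steiner

open Finset

variable {α : Type*} [DecidableEq α] [Fintype α] {B : Set (Finset α)}

/-- Blocks other than `b` meeting `b` exactly in `s`. -/
noncomputable def exactly (B : Set (Finset α)) (b s : Finset α) : Finset (Finset α) :=
  ((blocks B).erase b).filter fun c => b ∩ c = s

theorem card_supersets {s b : Finset α} (hs : s ⊆ b) {j : ℕ} (hj : s.card ≤ j) :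
    ((b.powersetCard j).filter (s ⊆ ·)).card = (b.card - s.card).choose (j - s.card) := by
  rw [← card_sdiff_of_subset hs, ← card_powersetCard]
  refine card_bij' (fun T _ => T \ s) (fun U _ => U ∪ s) ?_ ?_ ?_ ?_
  · intro T hT
    simp only [mem_filter, mem_powersetCard] at hT ⊢
    exact ⟨sdiff_subset_sdiff hT.1.1 subset_rfl, by rw [card_sdiff_of_subset hT.2, hT.1.2]⟩
  · intro U hU
    simp only [mem_filter, mem_powersetCard] at hU ⊢
    have hd : Disjoint U s := disjoint_of_subset_left hU.1 sdiff_disjoint
    refine ⟨⟨union_subset (hU.1.trans sdiff_subset) hs, ?_⟩, subset_union_right⟩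
    rw [card_union_of_disjoint hd, hU.2]; omega
  · intro T hT
    simp only [mem_filter, mem_powersetCard] at hT
    exact sdiff_union_of_subset hT.2
  · intro U hU
    simp only [mem_powersetCard] at hU
    exact (union_sdiff_right U s).trans (sdiff_eq_self_of_disjoint (disjoint_of_subset_left hU.1 sdiff_disjoint))

theorem card_above {b s : Finset α} (hs : s ⊆ b) {j e : ℕ} (hj : s.card ≤ j)
    (he : ∀ T, T ⊆ b → T.card = j → (exactly B b T).card = e) :
    (((blocks B).erase b).filter fun c => s ⊆ b ∩ c ∧ (b ∩ c).card = j).card =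
      (b.card - s.card).choose (j - s.card) * e := by
  have hmaps : ∀ c ∈ ((blocks B).erase b).filter (fun c => s ⊆ b ∩ c ∧ (b ∩ c).card = j),
      b ∩ c ∈ (b.powersetCard j).filter (s ⊆ ·) := fun c hc => by
    simp only [mem_filter, mem_powersetCard] at hc ⊢
    exact ⟨⟨inter_subset_left, hc.2.2⟩, hc.2.1⟩
  rw [card_eq_sum_card_fiberwise hmaps, ← card_supersets hs hj, ← smul_eq_mul, ← sum_const]
  refine sum_congr rfl fun T hT => ?_
  simp only [mem_filter, mem_powersetCard] at hT
  rw [← he T hT.1.1 hT.1.2]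
  congr 1
  ext c
  simp only [exactly, mem_filter]
  exact ⟨fun h => ⟨h.1.1, h.2⟩, fun h => ⟨⟨h.1, h.2 ▸ hT.2, h.2 ▸ hT.1.2⟩, h.2⟩⟩

variable (hB : Cfsg.IsSteinerSystem 5 6 B) (hα : Fintype.card α = 12) {b : Finset α} (hb : b ∈ blocks B)
include hB hb

theorem inter_le_four {c : Finset α} (hc : c ∈ (blocks B).erase b) : (b ∩ c).card ≤ 4 := by
  have := inter_lt hB hb hc
  omega

include hα

theorem card_containing {s : Finset α} (hs : s ⊆ b) {i n : ℕ} (hi : s.card = i) (hi5 : i ≤ 5)
    (hn : n * (6 - i).choose (5 - i) = (12 - i).choose (5 - i)) (hne : (6 - i).choose (5 - i) ≠ 0) :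
    (((blocks B).erase b).filter fun c => s ⊆ b ∩ c).card + 1 = n := by
  refine Eq.trans ?_ (count_eq (n := n) hB hi5 (by rw [hα]; exact hn) hne s hi)
  have hmem : b ∈ (blocks B).filter (s ⊆ ·) := mem_filter.mpr ⟨hb, hs⟩
  rw [← card_erase_add_one hmem]
  congr 2
  ext c
  simp only [mem_filter, mem_erase, subset_inter_iff]
  tauto

theorem exactly_four {s : Finset α} (hs : s ⊆ b) (h4 : s.card = 4) : (exactly B b s).card = 3 := by
  have h := card_containing hB hα hb hs (n := 4) h4 (by norm_num) (by decide) (by decide)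
  have : exactly B b s = ((blocks B).erase b).filter fun c => s ⊆ b ∩ c := by
    refine filter_congr fun c hc => ⟨fun h => h.ge, fun h => (eq_of_subset_of_card_le h ?_).symm⟩
    have := inter_le_four hB hb hc
    omega
  rw [this]; omega

theorem exactly_three {s : Finset α} (hs : s ⊆ b) (h3 : s.card = 3) : (exactly B b s).card = 2 := by
  have h := card_containing hB hα hb hs (n := 12) h3 (by norm_num) (by decide) (by decide)
  have h4 := card_above hs (j := 4) (e := 3) (by omega) fun T hT hT4 => exactly_four hB hα hb hT hT4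
  rw [block_card hB hb, h3] at h4
  have hsplit : ((blocks B).erase b).filter (fun c => s ⊆ b ∩ c) =
      exactly B b s ∪ ((blocks B).erase b).filter (fun c => s ⊆ b ∩ c ∧ (b ∩ c).card = 4) := by
    ext c
    simp only [exactly, mem_union, mem_filter]
    constructor
    · rintro ⟨hc, hsc⟩
      have h1 := inter_le_four hB hb hc
      have h2 := card_le_card hsc
      by_cases h : (b ∩ c).card = 4
      · exact Or.inr ⟨hc, hsc, h⟩
      · exact Or.inl ⟨hc, (eq_of_subset_of_card_le hsc (by omega)).symm⟩
    · rintro (⟨hc, h⟩ | ⟨hc, h, -⟩)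
      · exact ⟨hc, h.ge⟩
      · exact ⟨hc, h⟩
  rw [hsplit, card_union_of_disjoint, h4] at h
  · simp [Nat.choose] at h; omega
  · rw [disjoint_left]
    intro c hc hc'
    simp only [exactly, mem_filter] at hc hc'
    rw [hc.2] at hc'
    omega

theorem exactly_two {s : Finset α} (hs : s ⊆ b) (h2 : s.card = 2) : (exactly B b s).card = 3 := by
  have h := card_containing hB hα hb hs (n := 30) h2 (by norm_num) (by decide) (by decide)
  have h4 := card_above hs (j := 4) (e := 3) (by omega) fun T hT hT4 => exactly_four hB hα hb hT hT4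
  have h3 := card_above hs (j := 3) (e := 2) (by omega) fun T hT hT3 => exactly_three hB hα hb hT hT3
  rw [block_card hB hb, h2] at h4 h3
  have hsplit : ((blocks B).erase b).filter (fun c => s ⊆ b ∩ c) = exactly B b s ∪
      (((blocks B).erase b).filter (fun c => s ⊆ b ∩ c ∧ (b ∩ c).card = 3) ∪
      ((blocks B).erase b).filter (fun c => s ⊆ b ∩ c ∧ (b ∩ c).card = 4)) := by
    ext c
    simp only [exactly, mem_union, mem_filter]
    constructor
    · rintro ⟨hc, hsc⟩
      have h1 := inter_le_four hB hb hc
      have h2 := card_le_card hsc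
      by_cases h : (b ∩ c).card = 4
      · exact Or.inr (Or.inr ⟨hc, hsc, h⟩)
      by_cases h' : (b ∩ c).card = 3
      · exact Or.inr (Or.inl ⟨hc, hsc, h'⟩)
      · exact Or.inl ⟨hc, (eq_of_subset_of_card_le hsc (by omega)).symm⟩
    · rintro (⟨hc, h⟩ | ⟨hc, h, -⟩ | ⟨hc, h, -⟩)
      · exact ⟨hc, h.ge⟩
      · exact ⟨hc, h⟩
      · exact ⟨hc, h⟩
  rw [hsplit, card_union_of_disjoint, card_union_of_disjoint, h4, h3] at h
  · simp [Nat.choose] at h; omega
  all_goals
    rw [disjoint_left]
    intro c hc hc'
    simp only [exactly, mem_filter, mem_union] at hc hc'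
  · omega
  · rw [hc.2] at hc'
    omega

theorem inter_cases_12 {c : Finset α} (hc : c ∈ (blocks B).erase b) :
    (b ∩ c).card = 0 ∨ (b ∩ c).card = 2 ∨ (b ∩ c).card = 3 ∨ (b ∩ c).card = 4 := by
  have h1 : meet ((blocks B).erase b) b 1 = 0 := by
    have h0 := moment_erase hB hb (i := 0) (n := 132) (by norm_num) (by rw [hα]; decide) (by decide)
    have h1 := moment_erase hB hb (i := 1) (n := 66) (by norm_num) (by rw [hα]; decide) (by decide)
    have h2 := moment_erase hB hb (i := 2) (n := 30) (by norm_num) (by rw [hα]; decide) (by decide)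
    have h3 := moment_erase hB hb (i := 3) (n := 12) (by norm_num) (by rw [hα]; decide) (by decide)
    have h4 := moment_erase hB hb (i := 4) (n := 4) (by norm_num) (by rw [hα]; decide) (by decide)
    simp only [sum_range_succ, sum_range_zero] at h0 h1 h2 h3 h4
    norm_num [Nat.choose] at h0 h1 h2 h3 h4
    omega
  have hle := inter_le_four hB hb hc
  have hp := meet_pos (S := b) hc
  have : (b ∩ c).card ≠ 1 := fun h => by rw [h] at hp; omega
  omega

end CfsgLib.Steiner
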